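import Cfsg.Agent.CrossChar56.Decomp
import Mathlib.RepresentationTheory.Irreducible
import Mathlib.GroupTheory.Subgroup.Simple
import Mathlib.GroupTheory.QuotientGroup.Basic
import Mathlib.NumberTheory.LegendreSymbol.AddCharacter
import Mathlib.LinearAlgebra.Matrix.ToLin

set_option autoImplicit false

namespace Cfsg.Agent.CrossChar56

open Matrix

/-- a representation as a hom to `GL` -/
noncomputable def toGLHom {G : Type*} [Group G] {k : ℕ} (ρ : Representation ℂ G (Fin k → ℂ)) :
    G →* GL (Fin k) ℂ :=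
  ((LinearMap.toMatrixAlgEquiv' : Module.End ℂ (Fin k → ℂ) ≃ₐ[ℂ] _).toMonoidHom.comp ρ).toHomUnits

theorem toGLHom_eq_one_iff {G : Type*} [Group G] {k : ℕ} (ρ : Representation ℂ G (Fin k → ℂ))
    (g : G) : toGLHom ρ g = 1 ↔ ρ g = 1 := by
  constructor
  · intro h
    have h1 : (LinearMap.toMatrixAlgEquiv' (ρ g) : Matrix (Fin k) (Fin k) ℂ) = 1 :=
      congrArg Units.val h
    apply LinearMap.toMatrixAlgEquiv'.injective
    rw [h1, map_one]
  · intro h
    apply Units.ext
    show (LinearMap.toMatrixAlgEquiv' (ρ g) : Matrix (Fin k) (Fin k) ℂ) = 1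
    rw [h, map_one]

/-- an irreducible representation of degree at least two is non-trivial -/
theorem exists_ne_one_of_irreducible {G : Type*} [Group G] {k : ℕ}
    (ρ : Representation ℂ G (Fin k → ℂ)) (hρ : ρ.IsIrreducible) (hk : 2 ≤ k) :
    ∃ g, ρ g ≠ 1 := by
  by_contra hcon
  push Not at hcon
  haveI : IsSimpleOrder (Subrepresentation ρ) := hρ
  let v : Fin k → ℂ := Pi.single ⟨0, by omega⟩ 1
  let S : Subrepresentation ρ :=
    ⟨ℂ ∙ v, fun g w hw => by rw [hcon g]; exact hw⟩
  have hv : v ≠ 0 := by simp [v]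
  rcases IsSimpleOrder.eq_bot_or_eq_top S with h | h
  · apply hv
    have h1 : v ∈ S.toSubmodule := Submodule.mem_span_singleton_self v
    rw [h] at h1
    exact (Submodule.mem_bot ℂ).mp h1
  · have h1 : Module.finrank ℂ S.toSubmodule ≤ 1 :=
      le_of_eq (finrank_span_singleton hv)
    rw [h] at h1
    change Module.finrank ℂ (⊤ : Submodule ℂ (Fin k → ℂ)) ≤ 1 at h1
    rw [finrank_top, Module.finrank_fin_fun] at h1
    omega

/-- a proper normal subgroup of a quasisimple group is central -/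
theorem normal_le_center {G : Type*} [Group G] [IsSimpleGroup (G ⧸ Subgroup.center G)]
    (hperf : commutator G = ⊤) {N : Subgroup G} [hN : N.Normal] (hne : N ≠ ⊤) :
    N ≤ Subgroup.center G := by
  have hn : (N.map (QuotientGroup.mk' (Subgroup.center G))).Normal :=
    Subgroup.Normal.map hN _ (QuotientGroup.mk'_surjective _)
  rcases hn.eq_bot_or_eq_top with h | h
  · intro x hx
    have : QuotientGroup.mk' (Subgroup.center G) x ∈ N.map (QuotientGroup.mk' (Subgroup.center G)) :=
      Subgroup.mem_map_of_mem _ hx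
    rw [h, Subgroup.mem_bot] at this
    exact (QuotientGroup.eq_one_iff x).mp this
  · exfalso
    apply hne
    have hcom : commutator G ≤ N := by
      rw [commutator_def, Subgroup.commutator_le]
      intro a _ b _
      have mem : ∀ c : G, ∃ n ∈ N, ∃ z ∈ Subgroup.center G, c = n * z := by
        intro c
        have hc : QuotientGroup.mk' (Subgroup.center G) c ∈
            N.map (QuotientGroup.mk' (Subgroup.center G)) := h ▸ Subgroup.mem_top _
        obtain ⟨n, hn, hnc⟩ := Subgroup.mem_map.mp hc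
        exact ⟨n, hn, n⁻¹ * c, QuotientGroup.eq.mp hnc, by group⟩
      obtain ⟨n, hn, z, hz, rfl⟩ := mem a
      have h1 : z * b = b * z := (Subgroup.mem_center_iff.mp hz b).symm
      rw [commutatorElement_def]
      have e : n * z * b * (n * z)⁻¹ * b⁻¹ = n * (b * n⁻¹ * b⁻¹) := by
        rw [_root_.mul_inv_rev, mul_assoc n z b, h1]
        group
      rw [e]
      exact mul_mem hn (hN.conj_mem _ (inv_mem hn) b)
    exact eq_top_iff.mpr (hperf ▸ hcom)

variable {F : Type*} [Field F] [Fintype F]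

/-- a primitive complex character invariant under an involutive automorphism with non-zero trace -/
theorem exists_char (σ : F →+* F) (hσ : ∀ a, σ (σ a) = a) (htr : ∃ u, u + σ u ≠ 0) :
    ∃ ψ : AddChar F ℂ, ψ.IsPrimitive ∧ ∀ a, ψ (σ a) = ψ a := by
  obtain ⟨u, hu⟩ := htr
  obtain ⟨ψ₁, hψ₁⟩ := AddChar.exists_apply_ne_zero.mpr hu
  refine ⟨ψ₁.compAddMonoidHom (AddMonoidHom.id F + σ.toAddMonoidHom), ?_, fun a => ?_⟩
  · exact AddChar.IsPrimitive.of_ne_one (AddChar.ne_one_iff.mpr ⟨u, by simpa using hψ₁⟩)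
  · simp [hσ, add_comm]

/-- every additive character is a shift of a primitive one -/
theorem exists_shift {ψ : AddChar F ℂ} (hψ : ψ.IsPrimitive) :
    ∃ θ : AddChar F ℂ → F, ∀ (φ : AddChar F ℂ) (c : F), φ c = ψ (θ φ * c) := by
  have hb : Function.Bijective ψ.mulShift :=
    (Fintype.bijective_iff_injective_and_card _).mpr
      ⟨AddChar.to_mulShift_inj_of_isPrimitive hψ, AddChar.card_eq.symm⟩
  refine ⟨Function.surjInv hb.2, fun φ c => ?_⟩
  rw [← AddChar.mulShift_apply, Function.surjInv_eq hb.2 φ]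

theorem shift_inj {ψ : AddChar F ℂ} (hψ : ψ.IsPrimitive) {a b : F}
    (h : ∀ c, ψ (a * c) = ψ (b * c)) : a = b :=
  AddChar.to_mulShift_inj_of_isPrimitive hψ (DFunLike.ext _ _ h)

end Cfsg.Agent.CrossChar56
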