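import Mathlib.Analysis.Fourier.FiniteAbelian.PontryaginDuality
import Mathlib.LinearAlgebra.Matrix.GeneralLinearGroup.Defs
import Mathlib.LinearAlgebra.Dimension.Constructions
import Mathlib.LinearAlgebra.Matrix.ToLin

/-!
Eigencharacter decomposition of a complex matrix representation of a finite abelian group.
-/

set_option autoImplicit false

namespace Cfsg.Agent.CrossChar56.Cx

open Matrix

variable {A : Type*} [AddCommGroup A] [Fintype A] {d : ℕ}

/-- the unnormalised projection to a character -/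
noncomputable def proj (R : A → Matrix (Fin d) (Fin d) ℂ) (χ : AddChar A ℂ) :
    Matrix (Fin d) (Fin d) ℂ :=
  ∑ a, χ (-a) • R a

variable {R : A → Matrix (Fin d) (Fin d) ℂ}

theorem R_mul_proj (hR : ∀ a b, R (a + b) = R a * R b) (χ : AddChar A ℂ) (a : A) :
    R a * proj R χ = χ a • proj R χ := by
  simp only [proj, Finset.mul_sum, Finset.smul_sum, mul_smul_comm, ← hR, smul_smul,
    ← AddChar.map_add_eq_mul]
  refine Fintype.sum_equiv (Equiv.addLeft a) _ _ (fun b => ?_)
  simp

theorem proj_mul_R (hR : ∀ a b, R (a + b) = R a * R b) (χ : AddChar A ℂ) (a : A) :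
    proj R χ * R a = R a * proj R χ := by
  simp only [proj, Finset.mul_sum, Finset.sum_mul, mul_smul_comm, smul_mul_assoc, ← hR]
  simp [add_comm]

theorem proj_mul_proj_of_ne (hR : ∀ a b, R (a + b) = R a * R b) {χ φ : AddChar A ℂ}
    (h : χ ≠ φ) : proj R χ * proj R φ = 0 := by
  have h1 : proj R χ * proj R φ = (∑ a : A, χ (-a) * φ a) • proj R φ := by
    conv_lhs => arg 1; rw [proj]
    rw [Finset.sum_mul]
    simp only [smul_mul_assoc, R_mul_proj hR, smul_smul, Finset.sum_smul]
  have h2 : ∑ a : A, χ (-a) * φ a = 0 := by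
    have h3 : χ⁻¹ * φ ≠ 1 := fun h3 => h (inv_mul_eq_one.mp h3)
    have := AddChar.sum_eq_zero_iff_ne_zero.mpr (show (χ⁻¹ * φ : AddChar A ℂ) ≠ 0 by
      rwa [← AddChar.one_eq_zero])
    simpa [AddChar.mul_apply, AddChar.inv_apply] using this
  rw [h1, h2, zero_smul]

theorem proj_sq (hR : ∀ a b, R (a + b) = R a * R b) (χ : AddChar A ℂ) :
    proj R χ * proj R χ = (Fintype.card A : ℂ) • proj R χ := by
  conv_lhs => arg 1; rw [proj]
  rw [Finset.sum_mul]
  simp only [smul_mul_assoc, R_mul_proj hR, smul_smul, ← AddChar.map_add_eq_mul, neg_add_cancel,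
    AddChar.map_zero_eq_one, one_smul]
  rw [Finset.sum_const, Finset.card_univ, ← Nat.cast_smul_eq_nsmul ℂ]

theorem sum_proj : ∑ χ : AddChar A ℂ, proj R χ = (Fintype.card A : ℂ) • R 0 := by
  classical
  simp only [proj]
  rw [Finset.sum_comm]
  simp only [← Finset.sum_smul, AddChar.sum_apply_eq_ite]
  rw [Finset.sum_eq_single (0 : A)]
  · simp
  · intro a _ ha
    simp [neg_ne_zero.mpr ha]
  · simp

theorem exists_proj_ne (hR0 : R 0 = 1) (hR : ∀ a b, R (a + b) = R a * R b) {a₀ : A}
    (ha : R a₀ ≠ 1) : ∃ χ : AddChar A ℂ, proj R χ ≠ 0 ∧ χ a₀ ≠ 1 := by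
  by_contra hcon
  push Not at hcon
  apply ha
  have h : R a₀ * ∑ χ, proj R χ = ∑ χ, proj R χ := by
    rw [Finset.mul_sum]
    refine Finset.sum_congr rfl fun χ _ => ?_
    rw [R_mul_proj hR]
    by_cases hv : proj R χ = 0
    · simp [hv]
    · simp [hcon χ hv]
  rw [sum_proj, hR0, mul_smul_comm, mul_one] at h
  exact smul_right_injective _ (Nat.cast_ne_zero.mpr Fintype.card_ne_zero) h

theorem exists_col_ne {M : Matrix (Fin d) (Fin d) ℂ} (h : M ≠ 0) :
    ∃ x : Fin d → ℂ, M *ᵥ x ≠ 0 := by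
  by_contra hc
  push Not at hc
  apply h
  ext i j
  simpa [Matrix.mulVec_single] using congrFun (hc (Pi.single j 1)) i

theorem card_le_dim (hR : ∀ a b, R (a + b) = R a * R b) (S : Finset (AddChar A ℂ))
    (hS : ∀ χ ∈ S, proj R χ ≠ 0) : S.card ≤ d := by
  choose x hx using fun χ : S => exists_col_ne (hS χ.1 χ.2)
  have hli : LinearIndependent ℂ (fun χ : S => proj R χ.1 *ᵥ x χ) := by
    rw [Fintype.linearIndependent_iff]
    intro g hg v
    have h := congrArg (fun z => proj R v.1 *ᵥ z) hg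
    simp only [mulVec_sum, mulVec_smul, mulVec_mulVec, mulVec_zero] at h
    rw [Finset.sum_eq_single v] at h
    · rw [proj_sq hR, smul_mulVec, smul_smul, smul_eq_zero, mul_eq_zero] at h
      exact (h.resolve_right (hx v)).resolve_right (Nat.cast_ne_zero.mpr Fintype.card_ne_zero)
    · intro w _ hw
      rw [proj_mul_proj_of_ne hR (fun e => hw (Subtype.ext e.symm)), zero_mulVec, smul_zero]
    · simp
  have := hli.fintype_card_le_finrank
  simpa using this

theorem transfer (P : GL (Fin d) ℂ) (f : A → A) (hf : Function.Bijective f)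
    (hP : ∀ a, (P : Matrix (Fin d) (Fin d) ℂ) * R a = R (f a) * P)
    {χ φ : AddChar A ℂ} (hφ : ∀ a, φ (f a) = χ a) (hχ : proj R χ ≠ 0) : proj R φ ≠ 0 := by
  intro hw
  apply hχ
  have : (P : Matrix (Fin d) (Fin d) ℂ) * proj R χ = proj R φ * P := by
    simp only [proj, Finset.mul_sum, Finset.sum_mul, mul_smul_comm, smul_mul_assoc, hP]
    refine Fintype.sum_bijective f hf _ _ (fun a => ?_)
    rw [AddChar.map_neg_eq_inv, AddChar.map_neg_eq_inv, hφ]
  rw [hw, zero_mul] at this
  exact P.isUnit.mul_right_eq_zero.mp this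

end Cfsg.Agent.CrossChar56.Cx
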