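import Mathlib.LinearAlgebra.FiniteDimensional.Lemmas
import Mathlib.LinearAlgebra.Dimension.Finite
import Mathlib.Algebra.BigOperators.Group.Finset.Basic
import Mathlib.Data.Fintype.BigOperators
import Mathlib.LinearAlgebra.Dual.Lemmas
import Mathlib.FieldTheory.Finiteness

/-!
Lower bound for the size of the orbit of a non-zero symmetric or Hermitian form under `GL`.
-/

set_option autoImplicit false

namespace Cfsg.Agent.CrossChar56.HermOrbit

universe u

variable {F : Type*} [Field F] [Fintype F] [DecidableEq F]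

/-- Hermitian form for `σ`, linear in the first variable. -/
structure IsHerm (σ : F →+* F) {V : Type u} [AddCommGroup V] [Module F V] (B : V → V → F) : Prop where
  add : ∀ x y z, B (x + y) z = B x z + B y z
  smul : ∀ (c : F) x y, B (c • x) y = c * B x y
  symm : ∀ x y, B y x = σ (B x y)

/-- orbit of a form -/
def orb (F : Type*) [Field F] {V : Type u} [AddCommGroup V] [Module F V] (B : V → V → F) :
    Set (V → V → F) :=
  Set.range (fun g : V ≃ₗ[F] V => fun x y => B (g x) (g y))

/-- the set of non-zero norms -/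
def norms (σ : F →+* F) : Finset F := (Finset.univ.erase (0 : F)).image (fun a => a * σ a)

/-- non-zero fixed scalars -/
def fixNZ (σ : F →+* F) : Finset F := Finset.univ.filter (fun s => σ s = s ∧ s ≠ 0)

/-- hypotheses on the pair `(F, σ)` -/
structure Cond (σ : F →+* F) : Prop where
  invol : ∀ a, σ (σ a) = a
  trace : ∃ u, u + σ u ≠ 0
  rep : ∀ s t : F, σ s = s → σ t = t → s ≠ 0 → t ≠ 0 → ∀ r, σ r = r →
    ∃ a b, a * σ a * s + b * σ b * t = r
  two : (∀ s t : F, σ s = s → σ t = t → s ≠ 0 → t ≠ 0 → ∃ a, a * σ a * s = -t) ∨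
    2 * (norms σ).card ≤ (fixNZ σ).card

variable {σ : F →+* F} {V : Type u} [AddCommGroup V] [Module F V] {B : V → V → F}

theorem IsHerm.add_right (hB : IsHerm σ B) (x y z : V) : B x (y + z) = B x y + B x z := by
  rw [hB.symm (y + z) x, hB.add, map_add, ← hB.symm, ← hB.symm]

theorem IsHerm.smul_right (hB : IsHerm σ B) (c : F) (x y : V) : B x (c • y) = σ c * B x y := by
  rw [hB.symm (c • y) x, hB.smul, map_mul, ← hB.symm]

theorem IsHerm.zero_left (hB : IsHerm σ B) (y : V) : B 0 y = 0 := by
  have := hB.smul 0 0 y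
  simpa using this

theorem IsHerm.diag (hB : IsHerm σ B) (x : V) : σ (B x x) = B x x := (hB.symm x x).symm

theorem IsHerm.diag_smul (hB : IsHerm σ B) (a : F) (x : V) :
    B (a • x) (a • x) = a * σ a * B x x := by
  rw [hB.smul, hB.smul_right, mul_assoc]

theorem exists_diag_ne (hB : IsHerm σ B) (hc : Cond σ) {x y : V} (h : B x y ≠ 0) :
    ∃ z, B z z ≠ 0 := by
  by_contra hcon
  push Not at hcon
  obtain ⟨u, hu⟩ := hc.trace
  apply hu
  have := hcon ((u / B x y) • x + y)
  rw [hB.add, hB.add_right, hB.add_right, hB.diag_smul, hcon x, hcon y, hB.smul, hB.symm ((u / B x y) • x) y,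
    hB.smul, div_mul_cancel₀ u h] at this
  simpa using this

/-- the functional `y ↦ B y x` -/
def toDual (hB : IsHerm σ B) (x : V) : V →ₗ[F] F where
  toFun y := B y x
  map_add' y z := hB.add y z x
  map_smul' c y := hB.smul c y x

/-- the set of forms in the orbit with prescribed first row -/
theorem layer_one [FiniteDimensional F V] (hB : IsHerm σ B) {e : V} {H : Submodule F V}
    (hH : IsCompl (F ∙ e) H) (he : e ≠ 0) {x : V} (hx : B x x ≠ 0) (φ : H →ₗ[F] F) :
    ∃ B' ∈ orb F B, B' e e = B x x ∧ ∀ h : H, B' h e = φ h := by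
  classical
  have hx0 : x ≠ 0 := by rintro rfl; exact hx (hB.zero_left _)
  let K := LinearMap.ker (toDual hB x)
  have hsurj : Function.Surjective (toDual hB x) := fun r => ⟨(r / B x x) • x, by
    show B ((r / B x x) • x) x = r
    rw [hB.smul, div_mul_cancel₀ r hx]⟩
  have hdim : Module.finrank F H = Module.finrank F K := by
    have h1 := Submodule.finrank_add_eq_of_isCompl hH
    rw [finrank_span_singleton he] at h1
    have h2 := LinearMap.finrank_range_add_finrank_ker (toDual hB x)
    rw [LinearMap.range_eq_top.mpr hsurj, finrank_top, Module.finrank_self] at h2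
    change 1 + Module.finrank F K = _ at h2
    omega
  let k : H ≃ₗ[F] K := LinearEquiv.ofFinrankEq H K hdim
  let E : (F ∙ e) →ₗ[F] V :=
    (LinearMap.toSpanSingleton F V x).comp (LinearEquiv.toSpanNonzeroSingleton F V e he).symm.toLinearMap
  let L : H →ₗ[F] V := K.subtype.comp k.toLinearMap +
    (LinearMap.toSpanSingleton F V x).comp ((B x x)⁻¹ • φ)
  let g : V →ₗ[F] V := LinearMap.ofIsCompl hH E L
  have hge : g e = x := by
    have h1 := LinearMap.ofIsCompl_left_apply hH (φ := E) (ψ := L) ⟨e, Submodule.mem_span_singleton_self e⟩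
    rw [show g e = _ from h1]
    have h2 : (LinearEquiv.toSpanNonzeroSingleton F V e he).symm ⟨e, Submodule.mem_span_singleton_self e⟩ = 1 := by
      rw [LinearEquiv.symm_apply_eq]
      exact Subtype.ext (by simp)
    simp [E, h2]
  have hgh : ∀ h : H, g h = (k h : V) + ((B x x)⁻¹ * φ h) • x := fun h => by
    rw [show g h = _ from LinearMap.ofIsCompl_right_apply hH (φ := E) (ψ := L) h]
    simp [L]
  have hval : ∀ h : H, B (g h) x = φ h := fun h => by
    have hk : B (k h : V) x = 0 := (k h).2
    rw [hgh, hB.add, hB.smul, hk]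
    field_simp
    ring
  have hinj : Function.Injective g := by
    rw [← LinearMap.ker_eq_bot, Submodule.eq_bot_iff]
    intro v hv
    obtain ⟨a, b, rfl, -⟩ := Submodule.existsUnique_add_of_isCompl hH v
    obtain ⟨c, hc⟩ := Submodule.mem_span_singleton.mp a.2
    rw [← hc, LinearMap.mem_ker, map_add, map_smul, hge] at hv
    have h1 : c * B x x + φ b = 0 := by
      have := congrArg (fun z => B z x) hv
      simp only [hB.add, hB.smul, hval, hB.zero_left] at this
      exact this
    have h2 : (k b : V) = 0 := by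
      have h3 : (c + (B x x)⁻¹ * φ b) = 0 := by
        rw [show φ b = -(c * B x x) from
          eq_neg_of_add_eq_zero_right h1]
        field_simp
        ring
      rw [hgh] at hv
      calc (k b : V) = c • x + ((k b : V) + ((B x x)⁻¹ * φ b) • x) -
            (c + (B x x)⁻¹ * φ b) • x := by rw [add_smul]; abel
        _ = 0 := by rw [hv, h3, zero_smul, sub_zero]
    have hb : b = 0 := k.map_eq_zero_iff.mp (Subtype.ext h2)
    subst hb
    rw [map_zero, add_zero] at h1
    have hc0 : c = 0 := (mul_eq_zero.mp h1).resolve_right hx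
    simp [← hc, hc0]
  refine ⟨_, ⟨LinearEquiv.ofInjectiveEndo g hinj, rfl⟩, ?_, fun h => ?_⟩
  · show B (g e) (g e) = _
    rw [hge]
  · show B (g h) (g e) = _
    rw [hge, hval]

theorem card_dual (W : Type u) [AddCommGroup W] [Module F W] [FiniteDimensional F W] :
    Nat.card (W →ₗ[F] F) = Fintype.card F ^ Module.finrank F W := by
  rw [Module.natCard_eq_pow_finrank (K := F), Nat.card_eq_fintype_card, Subspace.dual_finrank_eq,
    ]

theorem exists_compl_line [FiniteDimensional F V] (v : V) : ∃ H : Submodule F V, IsCompl (F ∙ v) H :=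
  Submodule.exists_isCompl _

theorem finrank_compl [FiniteDimensional F V] {v : V} (hv : v ≠ 0) {H : Submodule F V}
    (hH : IsCompl (F ∙ v) H) : Module.finrank F H + 1 = Module.finrank F V := by
  have h1 := Submodule.finrank_add_eq_of_isCompl hH
  rw [finrank_span_singleton hv] at h1
  omega

/-- counting the first layer -/
theorem layer_one_count [FiniteDimensional F V] (hB : IsHerm σ B) {e : V} {H : Submodule F V}
    (hH : IsCompl (F ∙ e) H) (he : e ≠ 0) (T : Finset F)
    (hT : ∀ t ∈ T, t ≠ 0 ∧ ∃ x, B x x = t) :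
    T.card * Fintype.card F ^ Module.finrank F H ≤
      Nat.card {B' : orb F B // B'.1 e e ≠ 0} := by
  haveI : Finite V := Module.finite_of_finite F
  choose hne x hx using hT
  have hl := fun (t : T) (φ : H →ₗ[F] F) =>
    layer_one hB hH he (x := x t.1 t.2) (by rw [hx]; exact hne t.1 t.2) φ
  choose B' hmem hee hrow using hl
  let Φ : T × (H →ₗ[F] F) → {B' : orb F B // B'.1 e e ≠ 0} := fun p =>
    ⟨⟨B' p.1 p.2, hmem p.1 p.2⟩, by
      show B' p.1 p.2 e e ≠ 0
      rw [hee, hx]; exact hne p.1.1 p.1.2⟩
  have hΦ : Function.Injective Φ := by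
    rintro ⟨t, φ⟩ ⟨t', φ'⟩ h
    have h1 : B' t φ = B' t' φ' := congrArg (fun z => z.1.1) h
    have h2 := congrFun (congrFun h1 e) e
    rw [hee, hee, hx, hx] at h2
    obtain rfl : t = t' := Subtype.ext h2
    refine Prod.ext rfl (LinearMap.ext fun y => ?_)
    rw [← hrow t φ y, ← hrow t φ' y, h1]
  have h := Nat.card_le_card_of_injective Φ hΦ
  rwa [Nat.card_prod, card_dual, Nat.card_eq_fintype_card, Fintype.card_coe] at h

/-- the orbit contains a lifted copy of the orbit of a restricted form -/
theorem layer_two_count [FiniteDimensional F V] (hB : IsHerm σ B) {e : V} {H : Submodule F V}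
    (hH : IsCompl (F ∙ e) H) (he : e ≠ 0) {z : V} {H₀ : Submodule F V}
    (hH₀ : IsCompl (F ∙ z) H₀) (hz : z ≠ 0) (hzz : B z z = 0) (k : H ≃ₗ[F] H₀) :
    Nat.card (orb F (fun a b : H => B (k a) (k b))) ≤
      Nat.card {B' : orb F B // B'.1 e e = 0} := by
  haveI : Finite V := Module.finite_of_finite F
  let l : (F ∙ e) ≃ₗ[F] (F ∙ z) :=
    (LinearEquiv.toSpanNonzeroSingleton F V e he).symm.trans
      (LinearEquiv.toSpanNonzeroSingleton F V z hz)
  have hl : (l ⟨e, Submodule.mem_span_singleton_self e⟩ : V) = z := by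
    have h2 : (LinearEquiv.toSpanNonzeroSingleton F V e he).symm
        ⟨e, Submodule.mem_span_singleton_self e⟩ = 1 := by
      rw [LinearEquiv.symm_apply_eq]; exact Subtype.ext (by simp)
    simp [l, h2]
  have hl' : ∀ C : orb F (fun a b : H => B (k a) (k b)), ∃ B' : {B' : orb F B // B'.1 e e = 0},
      ∀ a b : H, B'.1.1 a b = C.1 a b := by
    rintro ⟨C, g, rfl⟩
    let G : V ≃ₗ[F] V := (Submodule.prodEquivOfIsCompl _ _ hH).symm.trans
      ((LinearEquiv.prodCongr l (g.trans k)).trans (Submodule.prodEquivOfIsCompl _ _ hH₀))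
    have hGe : G e = z := by
      have he' : (Submodule.prodEquivOfIsCompl _ _ hH).symm e =
          (⟨e, Submodule.mem_span_singleton_self e⟩, 0) :=
        Submodule.prodEquivOfIsCompl_symm_apply_left _ _ hH ⟨e, Submodule.mem_span_singleton_self e⟩
      simp [G, he', hl]
    have hGh : ∀ a : H, G a = (k (g a) : V) := by
      intro a
      have ha' : (Submodule.prodEquivOfIsCompl _ _ hH).symm (a : V) = (0, a) :=
        Submodule.prodEquivOfIsCompl_symm_apply_right _ _ hH a
      simp [G, ha']
    exact ⟨⟨⟨_, G, rfl⟩, by show B (G e) (G e) = 0; rw [hGe, hzz]⟩,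
      fun a b => by show B (G a) (G b) = _; rw [hGh, hGh]⟩
  choose Φ hΦ using hl'
  refine Nat.card_le_card_of_injective Φ (fun C C' h => Subtype.ext ?_)
  funext a b
  rw [← hΦ C, ← hΦ C', h]

theorem exists_ortho (hB : IsHerm σ B) [FiniteDimensional F V]
    (hdim : 2 ≤ Module.finrank F V) {x : V} (hx : B x x ≠ 0) :
    ∃ y, y ≠ 0 ∧ B y x = 0 := by
  have h2 := LinearMap.finrank_range_add_finrank_ker (toDual hB x)
  have h3 : Module.finrank F (LinearMap.range (toDual hB x)) ≤ 1 := by
    simpa using Submodule.finrank_le (LinearMap.range (toDual hB x))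
  have h4 : LinearMap.ker (toDual hB x) ≠ ⊥ := by
    intro h; rw [h, finrank_bot] at h2; omega
  obtain ⟨y, hy, hy0⟩ := Submodule.exists_mem_ne_zero_of_ne_bot h4
  exact ⟨y, hy0, hy⟩

theorem diag_two (hB : IsHerm σ B) {x y : V} (hxy : B y x = 0) (a b : F) :
    B (a • x + b • y) (a • x + b • y) = a * σ a * B x x + b * σ b * B y y := by
  have hyx : B x y = 0 := by rw [hB.symm y x, hxy, map_zero]
  rw [hB.add, hB.add_right, hB.add_right, hB.diag_smul, hB.diag_smul, hB.smul, hB.smul,
    hB.smul_right, hB.smul_right, hxy, hyx]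
  ring

theorem add_smul_ne_zero (hB : IsHerm σ B) {x y : V} (hxy : B y x = 0) (hx : B x x ≠ 0)
    (hy : y ≠ 0) (a : F) : a • x + y ≠ 0 := by
  intro h
  have h1 := congrArg (fun v => B v x) h
  simp only [hB.add, hB.smul, hxy, add_zero, hB.zero_left, mul_eq_zero, hx, or_false] at h1
  rw [h1, zero_smul, zero_add] at h
  exact hy h

theorem singular_or (hB : IsHerm σ B) (hc : Cond σ) [FiniteDimensional F V]
    (hdim : 2 ≤ Module.finrank F V) {x : V} (hx : B x x ≠ 0) :
    (∃ z, z ≠ 0 ∧ B z z = 0) ∨ (Module.finrank F V = 2 ∧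
      2 * (norms σ).card ≤ (fixNZ σ).card ∧ ∀ t ∈ fixNZ σ, ∃ v, B v v = t) := by
  obtain ⟨y, hy0, hyx⟩ := exists_ortho hB hdim hx
  by_cases hyy : B y y = 0
  · exact Or.inl ⟨y, hy0, hyy⟩
  by_cases h3 : Module.finrank F V = 2
  · rcases hc.two with h | h
    · obtain ⟨a, ha⟩ := h _ _ (hB.diag x) (hB.diag y) hx hyy
      refine Or.inl ⟨a • x + y, add_smul_ne_zero hB hyx hx hy0 a, ?_⟩
      have := diag_two hB hyx a 1
      rw [one_smul, map_one] at this
      rw [this, ha]; ring
    · refine Or.inr ⟨h3, h, fun t ht => ?_⟩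
      simp only [fixNZ, Finset.mem_filter] at ht
      obtain ⟨a, b, hab⟩ := hc.rep _ _ (hB.diag x) (hB.diag y) hx hyy t ht.2.1
      exact ⟨a • x + b • y, by rw [diag_two hB hyx, hab]⟩
  · left
    obtain ⟨w, hw0, hwx, hwy⟩ : ∃ w, w ≠ 0 ∧ B w x = 0 ∧ B w y = 0 := by
      let f := (toDual hB x).prod (toDual hB y)
      have h2 := LinearMap.finrank_range_add_finrank_ker f
      have h4 : Module.finrank F (LinearMap.range f) ≤ 2 := by
        simpa [Module.finrank_prod] using Submodule.finrank_le (LinearMap.range f)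
      have h5 : LinearMap.ker f ≠ ⊥ := by
        intro h; rw [h, finrank_bot] at h2; omega
      obtain ⟨w, hw, hw0⟩ := Submodule.exists_mem_ne_zero_of_ne_bot h5
      simp only [f, LinearMap.mem_ker, LinearMap.prod_apply, Function.prod_apply, Prod.mk_eq_zero] at hw
      exact ⟨w, hw0, hw.1, hw.2⟩
    by_cases hww : B w w = 0
    · exact ⟨w, hw0, hww⟩
    obtain ⟨a, b, hab⟩ := hc.rep _ _ (hB.diag x) (hB.diag y) hx hyy (-B w w)
      (by rw [map_neg, hB.diag])
    have hvw : B w (a • x + b • y) = 0 := by
      rw [hB.add_right, hB.smul_right, hB.smul_right, hwx, hwy]; ring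
    refine ⟨(a • x + b • y) + w, ?_, ?_⟩
    · intro h
      have h1 := congrArg (fun v => B v w) h
      simp only [hB.add, hB.zero_left] at h1
      rw [← hB.add, hB.symm w (a • x + b • y), hvw, map_zero, zero_add] at h1
      exact hww h1
    · have := diag_two hB hvw 1 1
      simp only [one_smul, map_one, one_mul] at this
      rw [this, diag_two hB hyx, hab]; ring

theorem orbit_bound (hc : Cond σ) : ∀ (n : ℕ) (V : Type u) [AddCommGroup V] [Module F V]
    [FiniteDimensional F V], Module.finrank F V = n → ∀ (B : V → V → F), IsHerm σ B →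
    ∀ x : V, B x x ≠ 0 →
    (norms σ).card * ∑ i ∈ Finset.range n, Fintype.card F ^ i ≤ Nat.card (orb F B) := by
  intro n
  induction n with
  | zero => intros; simp
  | succ n ih =>
    intro V _ _ _ hn B hB x hx
    haveI : Finite V := Module.finite_of_finite F
    have hx0 : x ≠ 0 := by rintro rfl; exact hx (hB.zero_left _)
    obtain ⟨H, hH⟩ := exists_compl_line (F := F) x
    have hHn : Module.finrank F H = n := by have := finrank_compl hx0 hH; omega
    have hsplit : Nat.card (orb F B) = Nat.card {B' : orb F B // B'.1 x x ≠ 0} +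
        Nat.card {B' : orb F B // B'.1 x x = 0} := by
      classical
      rw [← Nat.card_congr (Equiv.sumCompl (fun B' : orb F B => B'.1 x x = 0)), Nat.card_sum,
        add_comm]
    have hT : ∀ t ∈ (norms σ).image (fun a => a * B x x), t ≠ 0 ∧ ∃ v, B v v = t := by
      intro t ht
      obtain ⟨a, ha, rfl⟩ := Finset.mem_image.mp ht
      simp only [norms, Finset.mem_image, Finset.mem_erase, Finset.mem_univ, and_true] at ha
      obtain ⟨b, hb, rfl⟩ := ha
      exact ⟨mul_ne_zero (mul_ne_zero hb ((map_ne_zero σ).mpr hb)) hx, b • x, hB.diag_smul b x⟩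
    have h1 : (norms σ).card * Fintype.card F ^ n ≤
        Nat.card {B' : orb F B // B'.1 x x ≠ 0} := by
      have h := layer_one_count hB hH hx0 _ hT
      rw [Finset.card_image_of_injective _ (mul_left_injective₀ hx), hHn] at h
      exact h
    by_cases hn0 : n = 0
    · subst hn0
      rw [hsplit]
      simp only [zero_add, Finset.range_one, Finset.sum_singleton]
      omega
    rcases singular_or hB hc (by omega) hx with ⟨z, hz, hzz⟩ | ⟨h2, hcard, hall⟩
    · obtain ⟨Λ, hΛz, hΛx⟩ : ∃ Λ : V →ₗ[F] F, Λ z = 1 ∧ Λ x = 0 := by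
        have hzx : z ∉ F ∙ x := by
          rw [Submodule.mem_span_singleton]
          rintro ⟨a, rfl⟩
          rw [hB.diag_smul] at hzz
          simp only [mul_eq_zero, hx, or_false, map_eq_zero, or_self] at hzz
          simp [hzz] at hz
        obtain ⟨f, hf, hf'⟩ := Submodule.exists_dual_map_eq_bot_of_notMem hzx inferInstance
        refine ⟨(f z)⁻¹ • f, by simp [inv_mul_cancel₀ hf], ?_⟩
        have : f x ∈ Submodule.map f (F ∙ x) :=
          Submodule.mem_map_of_mem (Submodule.mem_span_singleton_self x)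
        rw [hf', Submodule.mem_bot] at this
        simp [this]
      have hH₀ : IsCompl (F ∙ z) (LinearMap.ker Λ) := by
        constructor
        · rw [Submodule.disjoint_def]
          intro v hv hv'
          obtain ⟨a, rfl⟩ := Submodule.mem_span_singleton.mp hv
          simp [hΛz] at hv'
          simp [hv']
        · rw [codisjoint_iff, Submodule.eq_top_iff']
          intro v
          exact Submodule.mem_sup.mpr ⟨Λ v • z, Submodule.smul_mem _ _ (Submodule.mem_span_singleton_self z),
            v - Λ v • z, by simp [hΛz], by abel⟩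
      have hk : Module.finrank F H = Module.finrank F (LinearMap.ker Λ) := by
        have := finrank_compl hz hH₀; omega
      let k : H ≃ₗ[F] LinearMap.ker Λ := LinearEquiv.ofFinrankEq _ _ hk
      have hB' : IsHerm σ (fun a b : H => B (k a) (k b)) :=
        ⟨fun a b c => by simp [hB.add], fun c a b => by simp [hB.smul],
          fun a b => hB.symm (k a) (k b)⟩
      have h2 := ih H hHn _ hB' (k.symm ⟨x, hΛx⟩) (by simpa using hx)
      have h3 := h2.trans (layer_two_count hB hH hx0 hH₀ hz hzz k)
      rw [hsplit, Finset.sum_range_succ, mul_add]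
      omega
    · obtain rfl : n = 1 := by omega
      have h := layer_one_count hB hH hx0 (fixNZ σ)
        (fun t ht => ⟨(Finset.mem_filter.mp ht).2.2, hall t ht⟩)
      rw [hHn, pow_one] at h
      rw [hsplit]
      simp only [Finset.sum_range_succ, Finset.range_one, Finset.sum_singleton, pow_zero, pow_one]
      have hQ : 1 + Fintype.card F ≤ 2 * Fintype.card F := by
        have := Fintype.card_pos (α := F); omega
      calc (norms σ).card * (1 + Fintype.card F)
          ≤ (norms σ).card * (2 * Fintype.card F) := Nat.mul_le_mul_left _ hQ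
        _ = 2 * (norms σ).card * Fintype.card F := by ring
        _ ≤ (fixNZ σ).card * Fintype.card F := Nat.mul_le_mul_right _ hcard
        _ ≤ _ := by omega

end Cfsg.Agent.CrossChar56.HermOrbit
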