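import Mathlib.NumberTheory.LegendreSymbol.AddCharacter
import Mathlib.LinearAlgebra.Matrix.GeneralLinearGroup.Defs
import Mathlib.LinearAlgebra.Dimension.Constructions
import Mathlib.LinearAlgebra.Matrix.ToLin

/-!
Orthogonal idempotents attached to a representation of a vector space over a finite field.
-/

set_option autoImplicit false

namespace Cfsg.Agent.CrossChar56

open Matrix

universe u

variable {F : Type*} [Field F] [Fintype F] {ι : Type*} [Fintype ι] [DecidableEq ι]
  {K : Type*} [Field K] {d : ℕ}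

/-- the (unnormalised) projection attached to the character `a ↦ ψ (v ⬝ a)` -/
noncomputable def proj (ψ : AddChar F K) (R : (ι → F) → Matrix (Fin d) (Fin d) K) (v : ι → F) :
    Matrix (Fin d) (Fin d) K :=
  ∑ a : ι → F, ψ (-(v ⬝ᵥ a)) • R a

variable {ψ : AddChar F K} {R : (ι → F) → Matrix (Fin d) (Fin d) K}

theorem sum_char_dot (hψ : ψ.IsPrimitive) (a : ι → F) (ha : a ≠ 0) :
    ∑ v : ι → F, ψ (v ⬝ᵥ a) = 0 := by
  classical
  obtain ⟨i, hi⟩ := Function.ne_iff.mp ha
  let φ : AddChar (ι → F) K :=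
    ψ.compAddMonoidHom
      (AddMonoidHom.mk' (fun v : ι → F => v ⬝ᵥ a) (fun x y => add_dotProduct x y a))
  show ∑ v : ι → F, φ v = 0
  apply AddChar.sum_eq_zero_of_ne_one
  intro h
  apply hψ hi
  ext x
  have h2 := DFunLike.congr_fun h (Pi.single i x)
  simp only [φ, AddChar.compAddMonoidHom_apply, AddMonoidHom.mk'_apply, single_dotProduct,
    AddChar.one_apply] at h2
  simpa [AddChar.mulShift_apply, mul_comm x] using h2

theorem R_mul_proj (hR : ∀ a b, R (a + b) = R a * R b) (v a : ι → F) :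
    R a * proj ψ R v = ψ (v ⬝ᵥ a) • proj ψ R v := by
  simp only [proj, Finset.mul_sum, Finset.smul_sum, mul_smul_comm, ← hR, smul_smul,
    ← AddChar.map_add_eq_mul]
  refine Fintype.sum_equiv (Equiv.addLeft a) _ _ (fun b => ?_)
  simp only [Equiv.coe_addLeft, dotProduct_add]
  congr 2
  ring

theorem proj_mul_proj_of_ne (hψ : ψ.IsPrimitive) (hR : ∀ a b, R (a + b) = R a * R b)
    {v w : ι → F} (hvw : v ≠ w) : proj ψ R v * proj ψ R w = 0 := by
  have h1 : proj ψ R v * proj ψ R w = (∑ a : ι → F, ψ ((w - v) ⬝ᵥ a)) • proj ψ R w := by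
    conv_lhs => rw [proj, Finset.sum_mul]
    simp only [smul_mul_assoc, R_mul_proj hR, smul_smul, ← AddChar.map_add_eq_mul, Finset.sum_smul]
    refine Finset.sum_congr rfl fun a _ => ?_
    rw [sub_dotProduct, neg_add_eq_sub]
  have h2 : ∑ a : ι → F, ψ ((w - v) ⬝ᵥ a) = 0 := by
    simp_rw [dotProduct_comm (w - v)]
    exact sum_char_dot hψ _ (sub_ne_zero.mpr (Ne.symm hvw))
  rw [h1, h2, zero_smul]

theorem sum_proj (hψ : ψ.IsPrimitive) :
    ∑ v, proj ψ R v = (Fintype.card (ι → F) : K) • R 0 := by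
  classical
  simp only [proj]
  rw [Finset.sum_comm]
  simp only [← Finset.sum_smul]
  rw [Finset.sum_eq_single (0 : ι → F)]
  · simp
  · intro a _ ha
    simp_rw [← dotProduct_neg]
    rw [sum_char_dot hψ _ (neg_ne_zero.mpr ha), zero_smul]
  · simp

theorem proj_sq (hR : ∀ a b, R (a + b) = R a * R b) (v : ι → F) :
    proj ψ R v * proj ψ R v = (Fintype.card (ι → F) : K) • proj ψ R v := by
  conv_lhs => arg 1; rw [proj]
  rw [Finset.sum_mul]
  simp only [smul_mul_assoc, R_mul_proj hR, smul_smul, ← AddChar.map_add_eq_mul, neg_add_cancel,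
    AddChar.map_zero_eq_one, one_smul]
  rw [Finset.sum_const, Finset.card_univ, ← Nat.cast_smul_eq_nsmul K]

theorem exists_proj_ne (hψ : ψ.IsPrimitive) (hR0 : R 0 = 1)
    (hR : ∀ a b, R (a + b) = R a * R b) (hcard : (Fintype.card (ι → F) : K) ≠ 0)
    {a₀ : ι → F} (ha₀ : R a₀ ≠ 1) : ∃ v, proj ψ R v ≠ 0 ∧ v ⬝ᵥ a₀ ≠ 0 := by
  by_contra hcon
  push Not at hcon
  apply ha₀
  have h : R a₀ * ∑ v, proj ψ R v = ∑ v, proj ψ R v := by
    rw [Finset.mul_sum]
    refine Finset.sum_congr rfl fun v _ => ?_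
    rw [R_mul_proj hR]
    by_cases hv : proj ψ R v = 0
    · simp [hv]
    · simp [hcon v hv]
  rw [sum_proj hψ, hR0, mul_smul_comm, mul_one] at h
  exact smul_right_injective _ hcard h

theorem card_le_dim (hψ : ψ.IsPrimitive) (hR : ∀ a b, R (a + b) = R a * R b)
    (hcard : (Fintype.card (ι → F) : K) ≠ 0) (S : Finset (ι → F))
    (hS : ∀ v ∈ S, proj ψ R v ≠ 0) : S.card ≤ d := by
  have hcol : ∀ v ∈ S, ∃ x : Fin d → K, proj ψ R v *ᵥ x ≠ 0 := by
    intro v hv
    by_contra h
    push Not at h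
    apply hS v hv
    ext i j
    have := congrFun (h (Pi.single j 1)) i
    simpa [Matrix.mulVec_single] using this
  choose x hx using hcol
  let y : S → (Fin d → K) := fun v => proj ψ R v.1 *ᵥ x v.1 v.2
  have hli : LinearIndependent K y := by
    rw [Fintype.linearIndependent_iff]
    intro g hg v
    have h := congrArg (fun z => proj ψ R v.1 *ᵥ z) hg
    simp only [mulVec_sum, mulVec_smul, y, mulVec_mulVec, mulVec_zero] at h
    rw [Finset.sum_eq_single v] at h
    · rw [proj_sq hR, smul_mulVec, smul_smul, smul_eq_zero, mul_eq_zero] at h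
      exact (h.resolve_right (hx v.1 v.2)).resolve_right hcard
    · intro w _ hw
      rw [proj_mul_proj_of_ne hψ hR (fun e => hw (Subtype.ext e.symm)), zero_mulVec, smul_zero]
    · simp
  have := hli.fintype_card_le_finrank
  simpa using this

theorem proj_ne_transfer (P : GL (Fin d) K) (f : (ι → F) → (ι → F))
    (hf : Function.Bijective f)
    (hP : ∀ a, (P : Matrix (Fin d) (Fin d) K) * R a = R (f a) * P)
    {v w : ι → F} (hvw : ∀ a, w ⬝ᵥ f a = v ⬝ᵥ a) (hv : proj ψ R v ≠ 0) : proj ψ R w ≠ 0 := by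
  intro hw
  apply hv
  have : (P : Matrix (Fin d) (Fin d) K) * proj ψ R v = proj ψ R w * P := by
    simp only [proj, Finset.mul_sum, Finset.sum_mul, mul_smul_comm, smul_mul_assoc, hP]
    refine Fintype.sum_bijective f hf _ _ (fun a => ?_)
    rw [hvw]
  rw [hw, zero_mul] at this
  exact P.isUnit.mul_right_eq_zero.mp this

omit [DecidableEq ι] in
/-- Extension of the coefficient field to one with a primitive character. -/
theorem exists_ext (F : Type*) [Field F] [Fintype F] (K : Type u) [Field K]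
    (h : ringChar K ≠ ringChar F) :
    ∃ (K' : Type u) (_ : Field K') (f : K →+* K') (ψ : AddChar F K'),
      ψ.IsPrimitive ∧ (Fintype.card F : K') ≠ 0 := by
  refine ⟨CyclotomicField (AddChar.FiniteField.primitiveChar F K h).n K, inferInstance,
    algebraMap K _, (AddChar.FiniteField.primitiveChar F K h).char,
    (AddChar.FiniteField.primitiveChar F K h).prim, ?_⟩
  obtain ⟨n, hp, hn⟩ := FiniteField.card F (ringChar F)
  have h1 : ((ringChar F : ℕ) : K) ≠ 0 := by
    intro h0
    have hd := (ringChar.spec K (ringChar F)).mp h0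
    rcases (Nat.dvd_prime hp).mp hd with h2 | h2
    · exact CharP.ringChar_ne_one h2
    · exact h h2
  have h2 : (Fintype.card F : K) ≠ 0 := by rw [hn, Nat.cast_pow]; exact pow_ne_zero _ h1
  rw [← map_natCast (algebraMap K _)]
  exact fun h0 => h2 ((map_eq_zero _).mp h0)

end Cfsg.Agent.CrossChar56
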