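import Cfsg.Agent.CrossChar56.Decomp
import Mathlib.LinearAlgebra.Dimension.Finite
import Mathlib.LinearAlgebra.FreeModule.Finite.Matrix

/-!
Multiplicities of eigencharacters.
-/

set_option autoImplicit false

noncomputable section

namespace Cfsg.Agent.CrossChar56.Cx

open Matrix

variable {A : Type*} [AddCommGroup A] [Fintype A] {d : ℕ}

/-- range of a projection -/
def eig (R : A → Matrix (Fin d) (Fin d) ℂ) (χ : AddChar A ℂ) : Submodule ℂ (Fin d → ℂ) :=
  LinearMap.range (Matrix.mulVecLin (proj R χ))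

variable {R : A → Matrix (Fin d) (Fin d) ℂ}

theorem proj_mulVec_eig (hR : ∀ a b, R (a + b) = R a * R b) {χ φ : AddChar A ℂ}
    {v : Fin d → ℂ} (hv : v ∈ eig R φ) :
    (χ ≠ φ → proj R χ *ᵥ v = 0) ∧ proj R φ *ᵥ v = (Fintype.card A : ℂ) • v := by
  obtain ⟨w, rfl⟩ := LinearMap.mem_range.mp hv
  simp only [Matrix.mulVecLin_apply, mulVec_mulVec]
  constructor
  · intro h
    rw [proj_mul_proj_of_ne hR h, zero_mulVec]
  · rw [proj_sq hR, smul_mulVec]

theorem card_mul_le_dim (hR : ∀ a b, R (a + b) = R a * R b) (S : Finset (AddChar A ℂ)) (c : ℕ)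
    (hS : ∀ χ ∈ S, c ≤ Module.finrank ℂ (eig R χ)) : S.card * c ≤ d := by
  classical
  let v : S × Fin c → (Fin d → ℂ) := fun p =>
    ((Module.finBasis ℂ (eig R p.1.1)) (Fin.castLE (hS p.1.1 p.1.2) p.2) : Fin d → ℂ)
  have hli : LinearIndependent ℂ v := by
    rw [Fintype.linearIndependent_iff]
    rintro g hg ⟨χ, i⟩
    have h := congrArg (fun z => proj R χ.1 *ᵥ z) hg
    simp only [mulVec_sum, mulVec_smul, mulVec_zero, v] at h
    rw [Fintype.sum_prod_type, Finset.sum_eq_single χ] at h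
    · have h1 : ∑ j : Fin c, g (χ, j) •
          ((Fintype.card A : ℂ) • ((Module.finBasis ℂ (eig R χ.1))
            (Fin.castLE (hS χ.1 χ.2) j) : Fin d → ℂ)) = 0 := by
        rw [← h]
        exact Finset.sum_congr rfl fun j _ => by
          rw [(proj_mulVec_eig hR (χ := χ.1) (Subtype.coe_prop _)).2]
      have h2 : ∑ j : Fin c, g (χ, j) •
          (Module.finBasis ℂ (eig R χ.1)) (Fin.castLE (hS χ.1 χ.2) j) = 0 := by
        apply Subtype.ext
        apply smul_right_injective _ (Nat.cast_ne_zero.mpr Fintype.card_ne_zero : (Fintype.card A : ℂ) ≠ 0)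
        simp only [Submodule.coe_sum, Submodule.coe_smul, Finset.smul_sum, ZeroMemClass.coe_zero,
          smul_zero]
        rw [← h1]
        exact Finset.sum_congr rfl fun j _ => smul_comm _ _ _
      exact Fintype.linearIndependent_iff.mp
        ((Module.finBasis ℂ (eig R χ.1)).linearIndependent.comp _ (Fin.castLE_injective _))
        (fun j => g (χ, j)) h2 i
    · intro φ _ hφ
      refine Finset.sum_eq_zero fun j _ => ?_
      rw [(proj_mulVec_eig hR (χ := χ.1) (φ := φ.1) (Subtype.coe_prop _)).1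
        (fun e => hφ (Subtype.ext e.symm)), smul_zero]
    · simp
  have := hli.fintype_card_le_finrank
  simpa using this

theorem eig_ne_bot {χ : AddChar A ℂ} (h : proj R χ ≠ 0) : eig R χ ≠ ⊥ := by
  intro hb
  obtain ⟨x, hx⟩ := exists_col_ne h
  apply hx
  have : proj R χ *ᵥ x ∈ eig R χ := LinearMap.mem_range.mpr ⟨x, rfl⟩
  rw [hb] at this
  exact (Submodule.mem_bot ℂ).mp this

/-- If operators `X t`, `t : T`, stabilise an eigenspace and conjugation multiplies them by a
non-degenerate family of scalars, the eigenspace has dimension squared at least `|T|`. -/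
theorem sq_finrank_eig_ge {χ : AddChar A ℂ} (h : proj R χ ≠ 0) {T : Type*} [Fintype T]
    (X : T → GL (Fin d) ℂ)
    (hX : ∀ t, (X t : Matrix (Fin d) (Fin d) ℂ) * proj R χ = proj R χ * X t)
    (a : T → T → ℂ)
    (hconj : ∀ s t, (X s : Matrix (Fin d) (Fin d) ℂ) * X t * proj R χ =
      a s t • ((X t : Matrix (Fin d) (Fin d) ℂ) * X s * proj R χ))
    (horth : ∀ t t₀, t ≠ t₀ → ∑ s, a s t * (a s t₀)⁻¹ = 0) (hne : ∀ s t, a s t ≠ 0) :
    Fintype.card T ≤ Module.finrank ℂ (eig R χ) ^ 2 := by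
  classical
  have hstab : ∀ t, ∀ v ∈ eig R χ, Matrix.mulVecLin (X t : Matrix (Fin d) (Fin d) ℂ) v ∈ eig R χ := by
    intro t v hv
    obtain ⟨w, rfl⟩ := LinearMap.mem_range.mp hv
    refine LinearMap.mem_range.mpr ⟨(X t : Matrix (Fin d) (Fin d) ℂ) *ᵥ w, ?_⟩
    simp [mulVec_mulVec, hX]
  let f : T → Module.End ℂ (eig R χ) := fun t => (Matrix.mulVecLin (X t : Matrix (Fin d) (Fin d) ℂ)).restrict (hstab t)
  have hcomm : ∀ s t, f s * f t = a s t • (f t * f s) := by
    intro s t
    apply LinearMap.ext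
    rintro ⟨v, hv⟩
    obtain ⟨w, rfl⟩ := LinearMap.mem_range.mp hv
    apply Subtype.ext
    show (X s : Matrix (Fin d) (Fin d) ℂ) *ᵥ ((X t : Matrix (Fin d) (Fin d) ℂ) *ᵥ (proj R χ *ᵥ w)) =
      a s t • ((X t : Matrix (Fin d) (Fin d) ℂ) *ᵥ ((X s : Matrix (Fin d) (Fin d) ℂ) *ᵥ (proj R χ *ᵥ w)))
    rw [mulVec_mulVec, mulVec_mulVec, mulVec_mulVec, mulVec_mulVec, ← smul_mulVec, ← hconj]
  have hinj : ∀ t, Function.Injective (f t) := by
    rintro t ⟨u, hu⟩ ⟨v, hv⟩ huv
    apply Subtype.ext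
    have h1 : (X t : Matrix (Fin d) (Fin d) ℂ) *ᵥ u = (X t : Matrix (Fin d) (Fin d) ℂ) *ᵥ v :=
      congrArg Subtype.val huv
    exact Matrix.mulVec_injective_iff_isUnit.mpr (X t).isUnit h1
  have hli : LinearIndependent ℂ f := by
    refine (Fintype.linearIndependent_iff (R := ℂ) (v := f)).mpr ?_
    intro g hg t₀
    have key : ∀ s, ∑ t, (g t * a s t) • f t = 0 := by
      intro s
      obtain ⟨U, hU⟩ : IsUnit (f s) := (Module.End.isUnit_iff _).mpr
        ⟨hinj s, LinearMap.injective_iff_surjective.mp (hinj s)⟩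
      have h1 : (∑ t, (g t * a s t) • f t) * f s = f s * (∑ t, g t • f t) := by
        rw [Finset.sum_mul, Finset.mul_sum]
        refine Finset.sum_congr rfl fun t _ => ?_
        rw [mul_smul_comm, hcomm, smul_smul, smul_mul_assoc]
      rw [hg, mul_zero, ← hU] at h1
      exact U.mul_left_eq_zero.mp h1
    have h2 : ∑ s, (a s t₀)⁻¹ • ∑ t, (g t * a s t) • f t = 0 := by simp [key]
    simp only [Finset.smul_sum, smul_smul] at h2
    rw [Finset.sum_comm] at h2
    simp only [← Finset.sum_smul] at h2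
    rw [Finset.sum_eq_single t₀] at h2
    · have h3 : (∑ s : T, (a s t₀)⁻¹ * (g t₀ * a s t₀)) = (Fintype.card T : ℂ) * g t₀ := by
        have e : ∀ s : T, (a s t₀)⁻¹ * (g t₀ * a s t₀) = g t₀ := fun s => by
          have := hne s t₀
          field_simp
        simp [e]
      rw [h3] at h2
      have hf : f t₀ ≠ 0 := by
        intro hf
        obtain ⟨v, hv, hv0⟩ := Submodule.exists_mem_ne_zero_of_ne_bot (eig_ne_bot h)
        exact hv0 (congrArg Subtype.val (hinj t₀ (a₁ := ⟨v, hv⟩) (a₂ := 0) (by simp [hf])))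
      haveI : Nonempty T := ⟨t₀⟩
      exact (mul_eq_zero.mp ((smul_eq_zero.mp h2).resolve_right hf)).resolve_left
        (Nat.cast_ne_zero.mpr Fintype.card_ne_zero)
    · intro t _ ht
      have h3 : (∑ s : T, (a s t₀)⁻¹ * (g t * a s t)) = g t * ∑ s, a s t * (a s t₀)⁻¹ := by
        rw [Finset.mul_sum]
        exact Finset.sum_congr rfl fun s _ => by ring
      rw [h3, horth t t₀ ht, mul_zero, zero_smul]
    · simp
  have := hli.fintype_card_le_finrank
  rwa [Module.finrank_linearMap, ← sq] at this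

end Cfsg.Agent.CrossChar56.Cx
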