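import Cfsg.Agent.CrossChar56.SLExact

/-!
The main argument of the exact lower bound for `SL_n(q)`.
-/

set_option autoImplicit false

noncomputable section

namespace Cfsg.Agent.CrossChar56.SLExact

open Matrix
open scoped commutatorElement

theorem norm_herm_le {G : Type*} [Group G] [Fintype G] {d : ℕ} (τ : G →* GL (Fin d) ℂ) (g : G)
    (y : Fin d → ℂ) : ‖herm τ y (ap τ g y)‖ ≤ ‖herm τ y y‖ := by
  by_cases hy : herm τ y y = 0
  · simp [eq_zero_of_herm τ hy, ap_zero, herm_zero_left]
  have hsymm : ∀ x z, star (herm τ x z) = herm τ z x := by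
    intro x z
    simp [herm, dotProduct, star_sum, mul_comm]
  have hnn : ∀ x, herm τ x x = ((∑ h : G, ∑ i, Complex.normSq (ap τ h x i) : ℝ) : ℂ) := by
    intro x
    simp [herm, dotProduct, Complex.normSq_eq_conj_mul_self]
  set n : ℝ := ∑ h : G, ∑ i, Complex.normSq (ap τ h y i) with hn
  have hn0 : n ≠ 0 := fun h => hy (by rw [hnn y, ← hn, h]; simp)
  have hnpos : 0 < n := lt_of_le_of_ne (Finset.sum_nonneg fun h _ =>
    Finset.sum_nonneg fun i _ => Complex.normSq_nonneg _) (Ne.symm hn0)
  set c := herm τ y (ap τ g y) with hc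
  have key : herm τ (ap τ g y - (c / n) • y) (ap τ g y - (c / n) • y) =
      ((n - Complex.normSq c / n : ℝ) : ℂ) := by
    have hns : star c * c = ((Complex.normSq c : ℝ) : ℂ) := (Complex.normSq_eq_conj_mul_self).symm
    rw [herm_sub_left, herm_sub_right, herm_sub_right, herm_smul_left, herm_smul_left,
      herm_smul_right, herm_smul_right, herm_ap, ← hsymm y (ap τ g y), ← hc, hnn y, ← hn]
    push_cast
    rw [← hns, star_div₀, show star ((n : ℂ)) = (n : ℂ) from Complex.conj_ofReal n]
    have hnc : (n : ℂ) ≠ 0 := by exact_mod_cast hn0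
    field_simp
    ring
  have h0 : 0 ≤ n - Complex.normSq c / n := by
    rw [hnn] at key
    have := Complex.ofReal_injective key
    rw [← this]
    exact Finset.sum_nonneg fun h _ => Finset.sum_nonneg fun i _ => Complex.normSq_nonneg _
  have h1 : Complex.normSq c ≤ n * n := by
    rw [sub_nonneg, div_le_iff₀ hnpos] at h0
    linarith
  rw [hnn y, ← hn, Complex.norm_real, Real.norm_eq_abs, abs_of_pos hnpos]
  rw [Complex.normSq_eq_norm_sq] at h1
  nlinarith [norm_nonneg c]

variable {F : Type*} [Field F] [Fintype F] [DecidableEq F] {m d : ℕ}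
  (τ : SpecialLinearGroup (Fin 1 ⊕ Fin m) F →* GL (Fin d) ℂ)

/-- vectors fixed by the vector stabiliser generated by `trB` and the Levi factor -/
theorem fixed_B (hm : 2 ≤ m) (hfix : ∀ y, (∀ g, ap τ g y = y) → y = 0) {y : Fin d → ℂ}
    (hy : y ≠ 0) (hB : ∀ b, ap τ (trB b) y = y) (hL : ∀ h, ap τ (leviL h) y = y) :
    Nat.card (Projectivization F (Fin 1 ⊕ Fin m → F)) - 1 ≤ d := by
  refine fixed_degree (by simp; omega) τ hfix (e := Pi.single (Sum.inl 0) 1) (by simp) hy ?_
  intro g hg
  have hcol : ∀ i, g.1 i (Sum.inl 0) = if i = Sum.inl 0 then 1 else 0 := fun i => by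
    have := congrFun hg i
    simpa [Matrix.mulVec_single, Pi.single_apply] using this
  have h11 : g.1.toBlocks₁₁ = 1 := by
    ext i j
    rw [Fin.fin_one_eq_zero i, Fin.fin_one_eq_zero j]
    simp [toBlocks₁₁, hcol]
  have h21 : g.1.toBlocks₂₁ = 0 := by
    ext i j
    simp [toBlocks₂₁, Fin.fin_one_eq_zero j, hcol]
  have hdet : g.1.toBlocks₂₂.det = 1 := by
    have := g.2
    rw [← fromBlocks_toBlocks g.1, h11, h21, det_fromBlocks_zero₂₁, det_one, one_mul] at this
    exact this
  let h : SpecialLinearGroup (Fin m) F := ⟨g.1.toBlocks₂₂, hdet⟩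
  let b : Fin m → F := (fun j => g.1.toBlocks₁₂ 0 j) ᵥ* (h⁻¹).1
  have : g = trB b * leviL h := by
    apply Subtype.ext
    show g.1 = fromBlocks 1 (replicateRow (Fin 1) b) 0 1 * fromBlocks 1 0 0 h.1
    conv_lhs => rw [← fromBlocks_toBlocks g.1, h11, h21]
    have hrow : replicateRow (Fin 1) b * h.1 = g.1.toBlocks₁₂ := by
      rw [← replicateRow_vecMul, vecMul_vecMul, ← SpecialLinearGroup.coe_mul, inv_mul_cancel,
        SpecialLinearGroup.coe_one, vecMul_one]
      ext i j
      simp [Fin.fin_one_eq_zero i]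
    simp only [fromBlocks_multiply, Matrix.mul_zero, Matrix.zero_mul, Matrix.one_mul, Matrix.mul_one,
      add_zero, zero_add]
    rw [hrow]
  rw [this, ap_mul, hL, hB]

theorem slDual_trB (b : Fin m → F) : slDual (trB b) = trA (-b) := by
  rw [eq_comm, ← _root_.inv_inj, ← map_inv]
  apply Subtype.ext
  show ((trA (-b))⁻¹ : SpecialLinearGroup (Fin 1 ⊕ Fin m) F).1 = ((trB b)⁻¹⁻¹).1ᵀ
  rw [inv_inv, inv_eq_of_mul_eq_one_left (show trA b * trA (-b) = 1 by
    rw [← trA_add, add_neg_cancel, trA_zero])]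
  show fromBlocks 1 0 (replicateCol (Fin 1) b) 1 = (fromBlocks 1 (replicateRow (Fin 1) b) 0 1)ᵀ
  simp [fromBlocks_transpose]

theorem slDual_levi (h : SpecialLinearGroup (Fin m) F) : slDual (leviL h) = leviL (slDual h) := by
  apply Subtype.ext
  show ((leviHom h)⁻¹).1ᵀ = _
  rw [← map_inv]
  show (fromBlocks 1 0 0 (h⁻¹).1)ᵀ = fromBlocks 1 0 0 (h⁻¹).1ᵀ
  simp [fromBlocks_transpose]

/-- vectors fixed by the covector stabiliser -/
theorem fixed_A (hm : 2 ≤ m) (hfix : ∀ y, (∀ g, ap τ g y = y) → y = 0) {y : Fin d → ℂ}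
    (hy : y ≠ 0) (hA : ∀ a, ap τ (trA a) y = y) (hL : ∀ h, ap τ (leviL h) y = y) :
    Nat.card (Projectivization F (Fin 1 ⊕ Fin m → F)) - 1 ≤ d := by
  refine fixed_B (τ.comp slDual) hm (fun z hz => hfix z fun g => ?_) hy (fun b => ?_) (fun h => ?_)
  · have := hz (slDual g)
    simp only [ap, MonoidHom.comp_apply, slDual_slDual] at this
    exact this
  · show ap τ (slDual (trB b)) y = y
    rw [slDual_trB]; exact hA _
  · show ap τ (slDual (leviL h)) y = y
    rw [slDual_levi]; exact hL _

theorem exists_ne_one_scale (hm : m = 2) (hexc : Fintype.card F ≠ 2 ∧ Fintype.card F ≠ 4)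
    {k l : Fin m} (hkl : k ≠ l) :
    ∃ (d₀ : F) (dv : Fin m → F) (_ : d₀ * ∏ i, dv i = 1), dv l = d₀ ∧ dv k / d₀ ≠ 1 := by
  obtain ⟨x, hx0, hx⟩ := exists_cube_ne_one hexc.1 hexc.2
  refine ⟨x, fun i => if i = k then (x ^ 2)⁻¹ else x, ?_, by simp [hkl.symm], ?_⟩
  · subst hm
    rw [Fin.prod_univ_two]
    fin_cases k <;> fin_cases l <;> simp at hkl ⊢ <;> field_simp
  · simp only [if_true]
    intro h
    rw [div_eq_iff hx0, one_mul] at h
    apply hx
    rw [show x ^ 3 = x ^ 2 * x by ring]
    nth_rewrite 2 [← h]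
    exact mul_inv_cancel₀ (pow_ne_zero _ hx0)

theorem sl_exact (hm : 2 ≤ m)
    (hexc : (m = 2 → Fintype.card F ≠ 2 ∧ Fintype.card F ≠ 4) ∧
      (m = 3 → Fintype.card F ≠ 2 ∧ Fintype.card F ≠ 3))
    (hfix : ∀ y, (∀ g, ap τ g y = y) → y = 0) (hd : 1 ≤ d) :
    2 * (Fintype.card F ^ m - 1) ≤ d ∨
      Nat.card (Projectivization F (Fin 1 ⊕ Fin m → F)) - 1 ≤ d := by
  classical
  obtain ⟨ψ, hψ₁⟩ := AddChar.exists_apply_ne_zero.mpr (one_ne_zero (α := F))
  have hψ : ψ.IsPrimitive := AddChar.IsPrimitive.of_ne_one (AddChar.ne_one_iff.mpr ⟨1, hψ₁⟩)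
  set q := Fintype.card F with hq
  have hcardm : 2 ≤ Fintype.card (Fin m) := by simpa using hm
  obtain ⟨v₁, hv₁, hv₁E⟩ := nontrivial_trA τ hψ hm hfix hd
  let i₀ : Fin m := ⟨0, by omega⟩
  let v₀ : Fin m → F := Pi.single i₀ 1
  have hv₀ : v₀ ≠ 0 := by simp [v₀]
  have hmv : ∀ v : Fin m → F, v ≠ 0 → ∃ h : SpecialLinearGroup (Fin m) F, v₀ ᵥ* h.1 = v :=
    fun v hv => exists_sl_row hcardm hv₀ hv
  choose mv hmv using hmv
  -- all non-trivial eigenspaces are isomorphic
  have hdim : ∀ v w : Fin m → F, v ≠ 0 → w ≠ 0 →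
      Module.finrank ℂ (E τ ψ v) ≤ Module.finrank ℂ (E τ ψ w) := by
    intro v w hv hw
    obtain ⟨h, hh⟩ := exists_sl_row hcardm hv hw
    have hmem : ∀ x ∈ E τ ψ v, Matrix.mulVecLin (τ (leviL h⁻¹)).val x ∈ E τ ψ w := by
      intro x hx
      have := levi_mem_E τ hx h⁻¹
      rwa [inv_inv, hh] at this
    exact LinearMap.finrank_le_finrank_of_injective
      (f := (Matrix.mulVecLin (τ (leviL h⁻¹)).val).restrict hmem)
      (fun x y e => Subtype.ext (ap_injective τ (leviL h⁻¹) (congrArg Subtype.val e)))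
  by_cases hmult : 2 ≤ Module.finrank ℂ (E τ ψ v₀)
  · left
    have h := Cx.card_mul_le_dim (R_add τ)
      ((Finset.univ.erase (0 : Fin m → F)).image (chr ψ)) 2 (fun χ hχ => by
        obtain ⟨v, hv, rfl⟩ := Finset.mem_image.mp hχ
        exact hmult.trans (hdim v₀ v hv₀ (Finset.ne_of_mem_erase hv)))
    rw [Finset.card_image_of_injective _ (chr_injective hψ),
      Finset.card_erase_of_mem (Finset.mem_univ _), Finset.card_univ, Fintype.card_fun,
      Fintype.card_fin] at h
    rw [hq]; omega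
  right
  have hone : Module.finrank ℂ (E τ ψ v₀) = 1 := by
    have h1 := Submodule.one_le_finrank_iff.mpr hv₁E
    have h2 := hdim v₁ v₀ hv₁ hv₀
    omega
  obtain ⟨⟨x₀, hx₀E⟩, hx₀, hspan⟩ := finrank_eq_one_iff'.mp hone
  have hx₀0 : x₀ ≠ 0 := fun h => hx₀ (Subtype.ext h)
  have hline : ∀ z ∈ E τ ψ v₀, ∃ c : ℂ, z = c • x₀ := by
    intro z hz
    obtain ⟨c, hc⟩ := hspan ⟨z, hz⟩
    exact ⟨c, (congrArg Subtype.val hc).symm⟩
  -- the stabiliser of `v₀` fixes `x₀`
  let Sc : SpecialLinearGroup (Fin 1 ⊕ Fin m) F → Prop := fun g => ∃ c : ℂ, ap τ g x₀ = c • x₀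
  have hScL : ∀ h : SpecialLinearGroup (Fin m) F, v₀ ᵥ* h.1 = v₀ → Sc (leviL h) := by
    intro h hh
    have hh' : v₀ ᵥ* (h⁻¹).1 = v₀ := by
      nth_rewrite 1 [← hh]
      rw [vecMul_vecMul, ← SpecialLinearGroup.coe_mul, mul_inv_cancel, SpecialLinearGroup.coe_one,
        vecMul_one]
    have := levi_mem_E τ hx₀E h
    rw [hh'] at this
    exact hline _ this
  have hScinv : ∀ {g}, Sc g → Sc g⁻¹ := by
    rintro g ⟨c, hc⟩
    have hc0 : c ≠ 0 := fun h => hx₀0 (ap_injective τ g (by rw [hc, h, zero_smul, ap_zero]))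
    refine ⟨c⁻¹, ap_injective τ g ?_⟩
    rw [← ap_mul, mul_inv_cancel, ap_one, ap_smul, hc, smul_smul, inv_mul_cancel₀ hc0, one_smul]
  have hcom : ∀ {g h}, Sc g → Sc h → ap τ ⁅g, h⁆ x₀ = x₀ := by
    intro g h hg hh
    obtain ⟨c, hc⟩ := hScinv hg
    obtain ⟨e, he⟩ := hScinv hh
    obtain ⟨c', hc'⟩ := hg
    obtain ⟨e', he'⟩ := hh
    have h1 : c * c' = 1 := by
      have := ap_inv_ap τ g x₀
      rw [hc', ap_smul, hc, smul_smul] at this
      exact smul_left_injective ℂ hx₀0 (show (c * c') • x₀ = (1 : ℂ) • x₀ by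
        rw [mul_comm, this, one_smul])
    have h2 : e * e' = 1 := by
      have := ap_inv_ap τ h x₀
      rw [he', ap_smul, he, smul_smul] at this
      exact smul_left_injective ℂ hx₀0 (show (e * e') • x₀ = (1 : ℂ) • x₀ by
        rw [mul_comm, this, one_smul])
    rw [commutatorElement_def]
    simp only [ap_mul, he, ap_smul, hc, he', hc', smul_smul]
    refine Eq.trans ?_ (one_smul ℂ x₀)
    congr 1
    linear_combination (e * e') * h1 + h2
  let Fx : Subgroup (SpecialLinearGroup (Fin m) F) :=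
    { carrier := {h | ap τ (leviL h) x₀ = x₀}
      one_mem' := by simp [leviL_one, ap_one]
      mul_mem' := fun {a b} ha hb => by
        show ap τ (leviL (a * b)) x₀ = x₀
        rw [leviL_mul, ap_mul, hb, ha]
      inv_mem' := fun {a} ha => by
        show ap τ (leviHom a⁻¹) x₀ = x₀
        rw [map_inv]
        nth_rewrite 1 [← show ap τ (leviHom a) x₀ = x₀ from ha]
        rw [ap_inv_ap] }
  have htv : ∀ (i j : Fin m) (hij : i ≠ j), i ≠ i₀ → ∀ c,
      SpecialLinearGroup.transvection hij c ∈ Fx := by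
    intro i j hij hi c
    have hfixv : ∀ (i j : Fin m) (hij : i ≠ j) (c : F), i ≠ i₀ →
        Sc (leviL (SpecialLinearGroup.transvection hij c)) := by
      intro i j hij c hi
      apply hScL
      funext k
      show (v₀ ᵥ* Matrix.transvection i j c) k = v₀ k
      simp [v₀, Matrix.transvection, Matrix.one_apply, Matrix.single_apply, hi, Pi.single_apply,
        eq_comm (a := i₀)]
    by_cases hk : ∃ k, k ≠ i ∧ k ≠ j ∧ k ≠ i₀
    · obtain ⟨k, hki, hkj, hk0⟩ := hk
      show ap τ (leviHom _) x₀ = x₀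
      rw [← mul_one c, ← LinearGroup.commutator_transvection (Ne.symm hki) hkj hij c 1,
        map_commutatorElement]
      exact hcom (hfixv i k _ c hi) (hfixv k j _ 1 hk0)
    · -- a torus element rescales the root group
      push Not at hk
      obtain ⟨d₀, dv, hdd, hD0, hDij⟩ : ∃ (d₀ : F) (dv : Fin m → F) (_ : d₀ * ∏ k, dv k = 1),
          dv i₀ = d₀ ∧ dv i / dv j ≠ 1 := by
        by_cases hj : j = i₀
        · subst hj
          have hm2 : m = 2 := by
            by_contra hne
            obtain ⟨k, hk1, hk2⟩ : ∃ k : Fin m, k ≠ i ∧ k ≠ i₀ := by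
              by_contra hcon
              push Not at hcon
              have : (Finset.univ : Finset (Fin m)) ⊆ {i, i₀} := fun k _ => by
                by_cases h : k = i
                · simp [h]
                · simp [hcon k h]
              have := (Finset.card_le_card this).trans Finset.card_le_two
              simp at this; omega
            exact hk2 (hk k hk1 hk2)
          obtain ⟨d₀, dv, h1, h2, h3⟩ := exists_ne_one_scale (F := F) hm2 (hexc.1 hm2) hij
          exact ⟨d₀, dv, h1, h2, by rwa [h2]⟩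
        · have hm3 : m = 3 := by
            have hsub : (Finset.univ : Finset (Fin m)) = {i, j, i₀} := by
              ext k
              simp only [Finset.mem_univ, Finset.mem_insert, Finset.mem_singleton, true_iff]
              by_contra hcon
              push Not at hcon
              exact hcon.2.2 (hk k hcon.1 hcon.2.1)
            have := congrArg Finset.card hsub
            rwa [Finset.card_univ, Fintype.card_fin, Finset.card_insert_of_notMem (by simp [hij, hi]),
              Finset.card_pair hj] at this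
          obtain ⟨x, hx0, hx2⟩ : ∃ x : F, x ≠ 0 ∧ x ^ 2 ≠ 1 := by
            by_contra hcon
            push Not at hcon
            have hsub : (Finset.univ : Finset F) ⊆ {0, 1, -1} := fun x _ => by
              by_cases hx : x = 0
              · simp [hx]
              · rcases sq_eq_one_iff.mp (hcon x hx) with h | h <;> simp [h]
            have h1 := (Finset.card_le_card hsub).trans Finset.card_le_three
            rw [Finset.card_univ] at h1
            have h2 := Fintype.one_lt_card (α := F)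
            have h3 := hexc.2 hm3
            omega
          refine ⟨1, Function.update (Function.update (fun _ => 1) j x⁻¹) i x, ?_, ?_, ?_⟩
          · rw [one_mul, ← Finset.mul_prod_erase _ _ (Finset.mem_univ i), Function.update_self,
              Finset.prod_update_of_notMem (by simp), ← Finset.mul_prod_erase _ _
              (Finset.mem_erase.mpr ⟨hij.symm, Finset.mem_univ j⟩), Function.update_self,
              Finset.prod_update_of_notMem (by simp)]
            simp [hx0]
          · rw [Function.update_of_ne (Ne.symm hi), Function.update_of_ne (Ne.symm hj)]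
          · rw [Function.update_self, Function.update_of_ne hij.symm, Function.update_self,
              div_inv_eq_mul, ← pow_two]
            exact hx2
      set D := diagEl d₀ dv hdd
      have hd0 : d₀ ≠ 0 := left_ne_zero_of_mul_eq_one hdd
      have hdi : ∀ k, dv k ≠ 0 := fun k =>
        (Finset.prod_ne_zero_iff.mp (right_ne_zero_of_mul_eq_one hdd)) k (Finset.mem_univ k)
      have hScD : Sc D := by
        refine hline _ ((mem_E τ).mpr fun a => ?_)
        have e : trA a * D = D * trA (fun k => d₀ * a k / dv k) := by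
          rw [diagEl_mul_trA]
          congr 1
          apply congrArg trA
          funext k
          field_simp [hd0, hdi k]
        rw [← ap_mul, e, ap_mul, (mem_E τ).mp hx₀E, ap_smul]
        congr 2
        simp only [v₀, single_dotProduct, one_mul, hD0]
        field_simp
      have hconj : ∀ s, D * leviL (SpecialLinearGroup.transvection hij s) =
          leviL (SpecialLinearGroup.transvection hij (dv i / dv j * s)) * D := by
        intro s
        apply Subtype.ext
        show fromBlocks (diagonal fun _ => d₀) 0 0 (diagonal dv) *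
            fromBlocks 1 0 0 (Matrix.transvection i j s) =
          fromBlocks 1 0 0 (Matrix.transvection i j (dv i / dv j * s)) *
            fromBlocks (diagonal fun _ => d₀) 0 0 (diagonal dv)
        simp only [fromBlocks_multiply, Matrix.mul_zero, Matrix.zero_mul, Matrix.one_mul,
          Matrix.mul_one, add_zero]
        congr 1
        ext a b
        simp only [Matrix.diagonal_mul, Matrix.mul_diagonal, Matrix.transvection, Matrix.add_apply,
          Matrix.one_apply, Matrix.single_apply]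
        by_cases hab : a = b
        · subst hab
          have hne : ¬ (i = a ∧ j = a) := fun h => hij (h.1.trans h.2.symm)
          simp [hne]
        · by_cases h : i = a ∧ j = b
          · obtain ⟨rfl, rfl⟩ := h
            simp [hab]
            field_simp [hdi j]
          · simp [hab, h]
      show ap τ (leviL _) x₀ = x₀
      have hk := hcom hScD (hfixv i j hij (c / (dv i / dv j - 1)) hi)
      rw [commutatorElement_def, hconj, mul_inv_cancel_right] at hk
      have e : leviL (SpecialLinearGroup.transvection hij c) =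
          leviL (SpecialLinearGroup.transvection hij (dv i / dv j * (c / (dv i / dv j - 1)))) *
            (leviL (SpecialLinearGroup.transvection hij (c / (dv i / dv j - 1))))⁻¹ := by
        show leviHom _ = leviHom _ * (leviHom _)⁻¹
        rw [← map_inv, ← map_mul, SpecialLinearGroup.transvection_inv, ← SpecialLinearGroup.transvection_add]
        congr 2
        have := sub_ne_zero.mpr hDij
        field_simp
        ring
      rw [e]
      exact hk
  have hstab : ∀ h : SpecialLinearGroup (Fin m) F, v₀ ᵥ* h.1 = v₀ → ap τ (leviL h) x₀ = x₀ :=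
    fun h hh => row_stab_le (i₀ := i₀) (H := Fx) htv h hh
  -- the basis vectors
  let x : (Fin m → F) → Fin d → ℂ := fun v => if hv : v = 0 then 0 else ap τ (leviL (mv v hv)⁻¹) x₀
  have hxE : ∀ v, x v ∈ E τ ψ v := by
    intro v
    by_cases hv : v = 0
    · simp [x, hv, Submodule.zero_mem]
    · simp only [x, dif_neg hv]
      have := levi_mem_E τ hx₀E (mv v hv)⁻¹
      rwa [inv_inv, hmv v hv] at this
  have hinjrow : ∀ (h : SpecialLinearGroup (Fin m) F), Function.Injective fun v => v ᵥ* h.1 :=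
    fun h => Matrix.vecMul_injective_iff_isUnit.mpr (by
      rw [isUnit_iff_isUnit_det, h.2]; exact isUnit_one)
  have hxL : ∀ (h : SpecialLinearGroup (Fin m) F) v, ap τ (leviL h) (x v) = x (v ᵥ* (h⁻¹).1) := by
    intro h v
    by_cases hv : v = 0
    · subst hv; simp [x, ap_zero]
    have hw : v ᵥ* (h⁻¹).1 ≠ 0 := fun e => hv (hinjrow h⁻¹ (e.trans (zero_vecMul _).symm))
    simp only [x, dif_neg hv, dif_neg hw]
    have hk := hstab (mv _ hw * h * (mv v hv)⁻¹) (by
      rw [SpecialLinearGroup.coe_mul, SpecialLinearGroup.coe_mul, ← vecMul_vecMul, ← vecMul_vecMul,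
        hmv]
      rw [vecMul_vecMul v, ← SpecialLinearGroup.coe_mul, inv_mul_cancel, SpecialLinearGroup.coe_one,
        vecMul_one]
      have h2 : v₀ ᵥ* (mv v hv).1 ᵥ* ((mv v hv)⁻¹).1 = v ᵥ* ((mv v hv)⁻¹).1 := by rw [hmv]
      rw [vecMul_vecMul, ← SpecialLinearGroup.coe_mul, mul_inv_cancel, SpecialLinearGroup.coe_one,
        vecMul_one] at h2
      exact h2.symm)
    conv_rhs => rw [← hk, ← ap_mul, ← leviL_mul, ← mul_assoc, inv_mul_cancel_left]
    rw [← ap_mul, ← leviL_mul]
  set α := herm τ x₀ x₀ with hα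
  have hα0 : α ≠ 0 := fun h => hx₀0 (eq_zero_of_herm τ h)
  have hxx : ∀ v, v ≠ 0 → herm τ (x v) (x v) = α := fun v hv => by
    simp only [x, dif_neg hv, herm_ap, hα]
  have hxv : ∀ v w, v ≠ w → herm τ (x v) (x w) = 0 := fun v w h => herm_E τ hψ h (hxE v) (hxE w)
  have hEline : ∀ v, v ≠ 0 → ∀ z ∈ E τ ψ v, ∃ c : ℂ, z = c • x v := by
    intro v hv z hz
    have h1 := levi_mem_E τ hz (mv v hv)
    have h2 : v ᵥ* ((mv v hv)⁻¹).1 = v₀ := by
      nth_rewrite 1 [← hmv v hv]
      rw [vecMul_vecMul, ← SpecialLinearGroup.coe_mul, mul_inv_cancel, SpecialLinearGroup.coe_one,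
        vecMul_one]
    rw [h2] at h1
    obtain ⟨c, hc⟩ := hline _ h1
    refine ⟨c, ap_injective τ (leviL (mv v hv)) ?_⟩
    simp only [x, dif_neg hv]
    rw [hc, ap_smul, ← ap_mul, ← leviL_mul, mul_inv_cancel, leviL_one, ap_one]
  -- decomposition
  let P : (Fin m → F) → (Fin d → ℂ) → (Fin d → ℂ) := fun v z => Cx.proj (R τ) (chr ψ v) *ᵥ z
  have hPE : ∀ v z, P v z ∈ E τ ψ v := fun v z => LinearMap.mem_range.mpr ⟨z, rfl⟩
  have hdec : ∀ z, (Fintype.card (Fin m → F) : ℂ) • z = ∑ v, P v z := by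
    intro z
    have h1 : ∑ v, Cx.proj (R τ) (chr ψ v) = ∑ χ : AddChar (Fin m → F) ℂ, Cx.proj (R τ) χ :=
      Fintype.sum_bijective (chr ψ) ⟨chr_injective hψ, chr_surjective hψ⟩ _ _ (fun v => rfl)
    simp only [P, ← sum_mulVec, h1, Cx.sum_proj, R_zero, smul_mulVec, one_mulVec]
  by_cases hW : ∃ y, y ≠ 0 ∧ (∀ a, ap τ (trA a) y = y) ∧ ∀ h, ap τ (leviL h) y = y
  · obtain ⟨y, hy, hyA, hyL⟩ := hW
    exact fixed_A τ hm hfix hy hyA hyL
  push Not at hW
  let u : Fin d → ℂ := ∑ v, x v
  have hu : ∀ h, ap τ (leviL h) u = u := by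
    intro h
    simp only [u, ap_sum, hxL]
    exact Fintype.sum_bijective (fun v => v ᵥ* (h⁻¹).1)
      (Finite.injective_iff_bijective.mp (hinjrow h⁻¹)) _ _ (fun v => rfl)
  have hxu : ∀ v, v ≠ 0 → herm τ (x v) u = α := by
    intro v hv
    simp only [u, herm_sum_right]
    rw [Finset.sum_eq_single v (fun w _ hw => hxv v w (Ne.symm hw)) (by simp), hxx v hv]
  have hu0 : u ≠ 0 := fun h => hα0 (by rw [← hxu v₀ hv₀, h, herm_zero_right])
  have hLfix : ∀ z, (∀ h, ap τ (leviL h) z = z) → ∃ β : ℂ, z = β • u := by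
    intro z hz
    have hP : ∀ h v, ap τ (leviL h) (P v z) = P (v ᵥ* (h⁻¹).1) z := by
      intro h v
      conv_rhs => rw [← hz h]
      show (τ (leviL h)).val *ᵥ _ = _ *ᵥ ((τ (leviL h)).val *ᵥ z)
      rw [mulVec_mulVec, mulVec_mulVec]
      congr 1
      simp only [Cx.proj, Finset.mul_sum, Finset.sum_mul, mul_smul_comm, smul_mul_assoc]
      refine Fintype.sum_bijective (fun a => h.1 *ᵥ a) (Finite.injective_iff_bijective.mp
        (Matrix.mulVec_injective_iff_isUnit.mpr (by
          rw [isUnit_iff_isUnit_det, h.2]; exact isUnit_one))) _ _ (fun a => ?_)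
      congr 1
      · simp only [chr_apply, ← mulVec_neg, dotProduct_mulVec, vecMul_vecMul,
          ← SpecialLinearGroup.coe_mul, inv_mul_cancel, SpecialLinearGroup.coe_one, vecMul_one]
      · simp only [R, ← Units.val_mul, ← map_mul, levi_mul_trA]
    have h0 : P 0 z = 0 := by
      by_contra hne
      obtain ⟨h, hh⟩ := hW _ hne (fun a => by
        have := (mem_E τ).mp (hPE 0 z) a
        rwa [zero_dotProduct, AddChar.map_zero_eq_one, one_smul] at this)
      exact hh (by rw [hP, zero_vecMul])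
    obtain ⟨c, hc⟩ := hEline v₀ hv₀ _ (hPE v₀ z)
    refine ⟨c / (Fintype.card (Fin m → F) : ℂ), ?_⟩
    have hall : ∀ v, P v z = c • x v := by
      intro v
      by_cases hv : v = 0
      · subst hv; simp [h0, x]
      have h1 := hP (mv v hv)⁻¹ v₀
      rw [inv_inv, hmv, hc, ap_smul, hxL, inv_inv, hmv] at h1
      exact h1.symm
    have := hdec z
    simp only [hall, ← Finset.smul_sum] at this
    rw [div_eq_inv_mul, mul_smul, ← this, smul_smul,
      inv_mul_cancel₀ (Nat.cast_ne_zero.mpr Fintype.card_ne_zero), one_smul]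
  -- the average over the opposite translations
  obtain ⟨β, hβ⟩ := hLfix (∑ b, ap τ (trB b) u) (fun h => by
    simp only [ap_sum, ← ap_mul, levi_mul_trB]
    simp only [ap_mul, hu]
    exact Fintype.sum_bijective (fun b => b ᵥ* (h⁻¹).1)
      (Finite.injective_iff_bijective.mp (hinjrow h⁻¹)) _ _ (fun b => rfl))
  by_cases hβ0 : β ≠ 0
  · refine fixed_B τ hm hfix hu0 (fun b => ?_) hu
    have h1 : ap τ (trB b) (∑ c, ap τ (trB c) u) = ∑ c, ap τ (trB c) u := by
      simp only [ap_sum, ← ap_mul, ← trB_add]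
      exact Fintype.sum_equiv (Equiv.addLeft b) _ _ (fun c => rfl)
    rw [hβ, ap_smul] at h1
    exact smul_right_injective _ hβ0 h1
  push Not at hβ0
  subst hβ0
  exfalso
  let b₀ : Fin m → F := v₀
  let c : (Fin m → F) → (Fin m → F) → ℂ := fun b v => herm τ (x v) (ap τ (trB b) u)
  have hcL : ∀ (h : SpecialLinearGroup (Fin m) F) b v,
      c (b ᵥ* (h⁻¹).1) (v ᵥ* (h⁻¹).1) = c b v := by
    intro h b v
    simp only [c, ← hxL]
    conv_lhs => arg 3; rw [← hu h, ← ap_mul, ← levi_mul_trB, ap_mul]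
    rw [herm_ap]
  have hcL' : ∀ (h : SpecialLinearGroup (Fin m) F) b v, c (b ᵥ* h.1) (v ᵥ* h.1) = c b v := by
    intro h b v
    have := hcL h⁻¹ b v
    rwa [inv_inv] at this
  have hγ : herm τ u (ap τ (trB b₀) u) = -α := by
    have hγ' : ∀ b, b ≠ 0 → herm τ u (ap τ (trB b) u) = herm τ u (ap τ (trB b₀) u) := by
      intro b hb
      simp only [u, herm_sum_left]
      refine (Fintype.sum_bijective (fun v => v ᵥ* (mv b hb).1)
        (Finite.injective_iff_bijective.mp (hinjrow _)) _ _ (fun v => ?_)).symm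
      show c b₀ v = c b (v ᵥ* (mv b hb).1)
      have h := hcL' (mv b hb) b₀ v
      rw [show b₀ ᵥ* (mv b hb).1 = b from hmv b hb] at h
      exact h.symm
    have h0 : herm τ u (∑ b, ap τ (trB b) u) = 0 := by rw [hβ, zero_smul, herm_zero_right]
    rw [herm_sum_right, ← Finset.add_sum_erase _ _ (Finset.mem_univ (0 : Fin m → F)),
      Finset.sum_congr rfl (fun b hb => hγ' b (Finset.ne_of_mem_erase hb)), Finset.sum_const,
      Finset.card_erase_of_mem (Finset.mem_univ _), Finset.card_univ] at h0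
    have huu : herm τ u u = ((Fintype.card (Fin m → F) - 1 : ℕ) : ℂ) * α := by
      conv_lhs => arg 2; simp only [u]
      rw [herm_sum_left, ← Finset.add_sum_erase _ _ (Finset.mem_univ (0 : Fin m → F)),
        Finset.sum_congr rfl (fun v hv => hxu v (Finset.ne_of_mem_erase hv)), Finset.sum_const,
        Finset.card_erase_of_mem (Finset.mem_univ _), Finset.card_univ,
        show x 0 = 0 by simp [x], herm_zero_left, zero_add, nsmul_eq_mul]
    have htrB0 : trB (0 : Fin m → F) = 1 := by
      have := trB_add (0 : Fin m → F) 0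
      rw [add_zero] at this
      exact mul_eq_left.mp this.symm
    rw [htrB0, ap_one, huu, nsmul_eq_mul, ← mul_add] at h0
    have hN : ((Fintype.card (Fin m → F) - 1 : ℕ) : ℂ) ≠ 0 := by
      rw [Nat.cast_ne_zero]
      have : 1 < Fintype.card (Fin m → F) := Fintype.one_lt_card_iff.mpr ⟨v₀, 0, hv₀⟩
      omega
    linear_combination (mul_eq_zero.mp h0).resolve_left hN
  -- the vectors attached to a coset of the line of `b`
  let K : (Fin m → F) → Finset (Fin m → F) := fun b => Finset.univ.filter (fun a => b ⬝ᵥ a = 0)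
  let Q : (Fin m → F) → (Fin m → F) → (Fin d → ℂ) → (Fin d → ℂ) := fun b v₁ z =>
    ∑ a ∈ K b, ψ (-(v₁ ⬝ᵥ a)) • ap τ (trA a) z
  have hK : ∀ b, 0 < (K b).card := fun b => Finset.card_pos.mpr ⟨0, by simp [K]⟩
  have hchar : ∀ b v₁ v : Fin m → F, b ≠ 0 → (∑ a ∈ K b, ψ ((v - v₁) ⬝ᵥ a)) =
      if v - v₁ ∈ F ∙ b then ((K b).card : ℂ) else 0 := by
    intro b v₁ v hb
    split_ifs with h
    · obtain ⟨s, hs⟩ := Submodule.mem_span_singleton.mp h
      rw [Finset.sum_congr rfl (fun a ha => by
        rw [← hs, smul_dotProduct, (Finset.mem_filter.mp ha).2, smul_zero, AddChar.map_zero_eq_one] :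
          ∀ a ∈ K b, ψ ((v - v₁) ⬝ᵥ a) = 1)]
      simp
    · have hli : LinearIndependent F ![b, v - v₁] := by
        rw [LinearIndependent.pair_iff' hb]
        exact fun c hc => h (Submodule.mem_span_singleton.mpr ⟨c, hc⟩)
      obtain ⟨f, hf⟩ := exists_dot_eq _ hli ![0, 1]
      obtain ⟨t, ht⟩ : ∃ t, ψ t ≠ 1 := ⟨1, hψ₁⟩
      have hfb : b ⬝ᵥ (t • f) = 0 := by
        rw [dotProduct_smul, dotProduct_comm]; simp [show f ⬝ᵥ b = 0 by simpa using hf 0]
      have hmul : ψ t * (∑ a ∈ K b, ψ ((v - v₁) ⬝ᵥ a)) = ∑ a ∈ K b, ψ ((v - v₁) ⬝ᵥ a) := by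
        rw [Finset.mul_sum]
        refine Finset.sum_equiv (Equiv.addLeft (t • f)) (fun a => ?_) (fun a _ => ?_)
        · simp [K, dotProduct_add, hfb]
        · simp only [Equiv.coe_addLeft, dotProduct_add, AddChar.map_add_eq_mul, dotProduct_smul,
            smul_eq_mul, dotProduct_comm (v - v₁) f, show f ⬝ᵥ (v - v₁) = 1 by simpa using hf 1,
            mul_one]
      by_contra hne
      exact ht (mul_right_cancel₀ hne (hmul.trans (one_mul _).symm))
  have hQE : ∀ b v₁ v : Fin m → F, b ≠ 0 → ∀ z ∈ E τ ψ v,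
      Q b v₁ z = (if v - v₁ ∈ F ∙ b then ((K b).card : ℂ) else 0) • z := by
    intro b v₁ v hb z hz
    rw [← hchar b v₁ v hb, Finset.sum_smul]
    refine Finset.sum_congr rfl fun a _ => ?_
    rw [(mem_E τ).mp hz, smul_smul, ← AddChar.map_add_eq_mul, sub_dotProduct]
    congr 2; ring
  let S : (Fin m → F) → (Fin m → F) → (Fin d → ℂ) := fun b v₁ => ∑ s : F, x (v₁ + s • b)
  have hclass : ∀ b v₁ : Fin m → F, b ≠ 0 → ∀ (g : (Fin m → F) → Fin d → ℂ),
      ∑ v, (if v - v₁ ∈ F ∙ b then ((K b).card : ℂ) else 0) • g v =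
        ((K b).card : ℂ) • ∑ s : F, g (v₁ + s • b) := by
    intro b v₁ hb g
    simp only [ite_smul, zero_smul]
    rw [← Finset.sum_filter, Finset.smul_sum]
    refine (Finset.sum_bij (fun s _ => v₁ + s • b) (fun s _ => ?_) (fun s _ t _ h => ?_)
      (fun v hv => ?_) (fun s _ => rfl)).symm
    · simp [Submodule.mem_span_singleton]
    · exact smul_left_injective F hb (add_left_cancel h)
    · obtain ⟨s, hs⟩ := Submodule.mem_span_singleton.mp (Finset.mem_filter.mp hv).2
      exact ⟨s, Finset.mem_univ _, by rw [hs]; abel⟩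
  have hQu : ∀ b v₁ : Fin m → F, b ≠ 0 → Q b v₁ u = ((K b).card : ℂ) • S b v₁ := by
    intro b v₁ hb
    have hl : Q b v₁ u = ∑ v, Q b v₁ (x v) := by
      simp only [Q, u, ap_sum, Finset.smul_sum]
      rw [Finset.sum_comm]
    rw [hl, Finset.sum_congr rfl (fun v _ => hQE b v₁ v hb _ (hxE v)), hclass b v₁ hb]
  have hQbu : ∀ b v₁ : Fin m → F, b ≠ 0 →
      Q b v₁ (ap τ (trB b) u) = ((K b).card : ℂ) • ap τ (trB b) (S b v₁) := by
    intro b v₁ hb
    rw [← ap_smul, ← hQu b v₁ hb]
    simp only [Q, ap_sum, ap_smul]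
    refine Finset.sum_congr rfl fun a ha => ?_
    congr 1
    conv_rhs => rw [← ap_mul, trB_mul_trA a b (Finset.mem_filter.mp ha).2, ap_mul, hu, ap_mul]
  have hcC : ∀ b v₁ v : Fin m → F, b ≠ 0 → v - v₁ ∈ F ∙ b →
      herm τ (x v) (ap τ (trB b) (S b v₁)) = c b v := by
    intro b v₁ v hb hv
    have hKne : ((K b).card : ℂ) ≠ 0 := Nat.cast_ne_zero.mpr (hK b).ne'
    apply mul_left_cancel₀ hKne
    rw [← herm_smul_right, ← hQbu b v₁ hb]
    simp only [Q, herm_sum_right, herm_smul_right]
    rw [Finset.sum_congr rfl (g := fun _ => c b v)]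
    · simp [mul_comm]
    intro a ha
    have h1 : herm τ (x v) (ap τ (trA a) (ap τ (trB b) u)) =
        star (ψ (-(v ⬝ᵥ a))) * c b v := by
      have := herm_ap_left τ (trA (-a)) (x v) (ap τ (trB b) u)
      rw [(mem_E τ).mp (hxE v), herm_smul_left, dotProduct_neg,
        inv_eq_of_mul_eq_one_left (show trA a * trA (-a) = 1 by
          rw [← trA_add, add_neg_cancel, trA_zero])] at this
      exact this.symm
    rw [h1, show star (ψ (-(v ⬝ᵥ a))) = ψ (v ⬝ᵥ a) by
      rw [show star (ψ (-(v ⬝ᵥ a))) = (ψ (-(v ⬝ᵥ a)))⁻¹ from (AddChar.inv_apply_eq_conj ψ _).symm,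
        ← AddChar.map_neg_eq_inv, neg_neg], ← mul_assoc, ← AddChar.map_add_eq_mul,
      neg_add_eq_sub, ← sub_dotProduct]
    obtain ⟨s, hs⟩ := Submodule.mem_span_singleton.mp hv
    rw [← hs, smul_dotProduct, (Finset.mem_filter.mp ha).2, smul_zero, AddChar.map_zero_eq_one,
      one_mul]
  have hnotline : ∀ {b v : Fin m → F}, v ∉ F ∙ b → v ≠ 0 := fun h e => h (e ▸ Submodule.zero_mem _)
  -- the translations act on the class vector by a scalar of modulus one
  have heig : ∀ b v₁ : Fin m → F, b ≠ 0 → v₁ ∉ F ∙ b →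
      ∃ φ : ℂ, ap τ (trB b) (S b v₁) = φ • S b v₁ ∧ c b v₁ = φ * α ∧ star φ * φ = 1 := by
    intro b v₁ hb hv₁
    have hmem : ∀ s : F, v₁ + s • b ≠ 0 := fun s e => hv₁
      (Submodule.mem_span_singleton.mpr ⟨-s, by rw [neg_smul]; exact (eq_neg_of_add_eq_zero_left e).symm⟩)
    have hconst : ∀ s : F, c b (v₁ + s • b) = c b v₁ := by
      intro s
      have hli : LinearIndependent F ![b, v₁] := by
        rw [LinearIndependent.pair_iff' hb]
        exact fun t ht => hv₁ (Submodule.mem_span_singleton.mpr ⟨t, ht⟩)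
      obtain ⟨h, h1, h2⟩ := exists_stab_translation hli s
      have := hcL' h b v₁
      rwa [h1, h2] at this
    have hd1 : ap τ (trB b) (S b v₁) = (c b v₁ / α) • S b v₁ := by
      have hKne : ((K b).card : ℂ) ≠ 0 := Nat.cast_ne_zero.mpr (hK b).ne'
      have hAne : (Fintype.card (Fin m → F) : ℂ) ≠ 0 := Nat.cast_ne_zero.mpr Fintype.card_ne_zero
      set z := ap τ (trB b) u with hz
      have hQlin : (Fintype.card (Fin m → F) : ℂ) • Q b v₁ z =
          ((K b).card : ℂ) • ∑ s : F, P (v₁ + s • b) z := by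
        rw [← hclass b v₁ hb (fun v => P v z), ← Finset.sum_congr rfl (fun v _ => hQE b v₁ v hb _ (hPE v z))]
        simp only [Q]
        rw [Finset.sum_comm, Finset.smul_sum]
        refine Finset.sum_congr rfl fun a _ => ?_
        rw [← Finset.smul_sum, ← ap_sum, ← hdec, ap_smul, smul_comm]
      have hP : ∀ v, v ≠ 0 → P v z = ((Fintype.card (Fin m → F) : ℂ) * (c b v / α)) • x v := by
        intro v hv
        obtain ⟨e, he⟩ := hEline v hv _ (hPE v z)
        have h1 := congrArg (herm τ (x v)) (hdec z)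
        rw [herm_smul_right, herm_sum_right, Finset.sum_eq_single v
          (fun w _ hw => herm_E τ hψ (Ne.symm hw) (hxE v) (hPE w z)) (by simp), he,
          herm_smul_right, hxx v hv] at h1
        rw [he]
        congr 1
        rw [show c b v = herm τ (x v) z from rfl]
        field_simp
        linear_combination -h1
      rw [hQbu b v₁ hb, smul_comm, Finset.sum_congr rfl (fun s _ => by
        rw [hP _ (hmem s), hconst, mul_smul] :
          ∀ s ∈ Finset.univ, P (v₁ + s • b) z =
            (Fintype.card (Fin m → F) : ℂ) • ((c b v₁ / α) • x (v₁ + s • b))),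
        ← Finset.smul_sum, ← Finset.smul_sum] at hQlin
      exact smul_right_injective _ hAne (smul_right_injective _ hKne hQlin)
    refine ⟨c b v₁ / α, hd1, by field_simp, ?_⟩
    have hSS := herm_ap τ (trB b) (S b v₁) (S b v₁)
    rw [hd1, herm_smul_left, herm_smul_right, ← mul_assoc] at hSS
    refine mul_right_cancel₀ ?_ (hSS.trans (one_mul _).symm)
    intro h0
    have hS0 := eq_zero_of_herm τ h0
    have h1 := congrArg (herm τ (x (v₁ + (0 : F) • b))) hS0
    rw [herm_zero_right] at h1
    simp only [S, herm_sum_right] at h1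
    rw [Finset.sum_eq_single (0 : F) (fun t _ ht => hxv _ _ (fun e => ht
      (smul_left_injective F hb (add_left_cancel e)).symm)) (by simp), hxx _ (hmem 0)] at h1
    exact hα0 h1
  -- all products outside the line agree
  have hconst : ∃ κ : ℂ, ‖κ‖ = 1 ∧ ∀ v, v ∉ F ∙ b₀ → c b₀ v = κ * α := by
    haveI : Nontrivial (Fin m) := Fin.nontrivial_iff_two_le.mpr hm
    obtain ⟨l, hl⟩ := exists_ne i₀
    have hel : (Pi.single l 1 : Fin m → F) ∉ F ∙ b₀ := by
      intro h
      obtain ⟨s, hs⟩ := Submodule.mem_span_singleton.mp h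
      have := congrFun hs l
      simp [b₀, v₀, hl] at this
    obtain ⟨φ, hS, hφ, hn⟩ := heig b₀ _ hv₀ hel
    have hnorm : ∀ {z : ℂ}, star z * z = 1 → ‖z‖ = 1 := fun {z} hz => by
      have h := congrArg (‖·‖) hz
      simp only [norm_mul, norm_star, norm_one] at h
      nlinarith [norm_nonneg z]
    refine ⟨φ, hnorm hn, fun v hv => ?_⟩
    by_cases h3 : 3 ≤ m
    · obtain ⟨h, h1, h2⟩ := exists_sl_fix_row (by simpa using h3) hv₀ hel hv
      rw [← hφ, ← hcL' h b₀ (Pi.single l 1), h1, h2]
    -- in dimension two the scalars form a character invariant under a non-trivial scaling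
    have hm2 : m = 2 := by omega
    obtain ⟨d₀, dv, hdd, hDl, hDk⟩ := exists_ne_one_scale (F := F) hm2 (hexc.1 hm2) (Ne.symm hl)
    set D := diagEl d₀ dv hdd
    have hd0 : d₀ ≠ 0 := left_ne_zero_of_mul_eq_one hdd
    have hdi : ∀ k, dv k ≠ 0 := fun k =>
      (Finset.prod_ne_zero_iff.mp (right_ne_zero_of_mul_eq_one hdd)) k (Finset.mem_univ k)
    set ρ := d₀ / dv i₀ with hρ
    have hρ1 : ρ ≠ 1 := fun h => hDk (by rw [← _root_.inv_inj, inv_div, ← hρ, h, inv_one])
    have hDu : ∀ h, ap τ (leviL h) (ap τ D u) = ap τ D u := by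
      intro h
      obtain ⟨h', hh'⟩ := diagEl_mul_levi d₀ dv hdd h
      have : ∃ h'', leviL h * D = D * leviL h'' := by
        have hD' : D * leviL h * D⁻¹ = leviL h' := by
          show diagEl d₀ dv hdd * leviL h * _ = _
          rw [hh', mul_inv_cancel_right]
        obtain ⟨g, hg⟩ : ∃ g, D * leviL g = leviL h * D := by
          refine ⟨⟨diagonal (fun i => (dv i)⁻¹) * h.1 * diagonal dv, ?_⟩, ?_⟩
          · rw [det_mul, det_mul, h.2, mul_one, det_diagonal, det_diagonal,
              ← Finset.prod_mul_distrib]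
            exact Finset.prod_eq_one fun i _ => inv_mul_cancel₀ (hdi i)
          · apply Subtype.ext
            show fromBlocks (diagonal fun _ => d₀) 0 0 (diagonal dv) *
                fromBlocks 1 0 0 (diagonal (fun i => (dv i)⁻¹) * h.1 * diagonal dv) =
              fromBlocks 1 0 0 h.1 * fromBlocks (diagonal fun _ => d₀) 0 0 (diagonal dv)
            simp only [fromBlocks_multiply, Matrix.mul_zero, Matrix.zero_mul, add_zero, zero_add,
              ← Matrix.mul_assoc, diagonal_mul_diagonal]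
            congr 1 <;> simp [hdi]
        exact ⟨g, hg.symm⟩
      obtain ⟨h'', hh''⟩ := this
      rw [← ap_mul, hh'', ap_mul, hu]
    obtain ⟨ζ, hζ⟩ := hLfix _ hDu
    -- scalar attached to a multiple of `b₀`
    let e : Fin m → F := Pi.single l 1
    have hsb : ∀ s : F, s ≠ 0 → s • b₀ ≠ 0 := fun s hs => smul_ne_zero hs hv₀
    have hspan : ∀ s : F, s ≠ 0 → (F ∙ (s • b₀)) = F ∙ b₀ := fun s hs =>
      Submodule.span_singleton_smul_eq (Ne.isUnit hs) _
    have hSS : ∀ s : F, s ≠ 0 → ∀ v, S (s • b₀) v = S b₀ v := by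
      intro s hs v
      simp only [S]
      exact Fintype.sum_equiv (Equiv.mulRight₀ s hs) _ _ (fun t => by simp [smul_smul])
    let φf : F → ℂ := fun s => c (s • b₀) e / α
    have hφf : ∀ s, s ≠ 0 → ap τ (trB (s • b₀)) (S b₀ e) = φf s • S b₀ e := by
      intro s hs
      obtain ⟨φ', h1, h2, -⟩ := heig _ e (hsb s hs) (by rw [hspan s hs]; exact hel)
      rw [hSS s hs] at h1
      simp only [φf]
      rw [h2, mul_div_assoc, div_self hα0, mul_one]
      exact h1
    have hel0 : e ≠ 0 := hnotline hel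
    have hDx : ap τ D (x e) = ζ • x e := by
      have hmemD : ap τ D (x e) ∈ E τ ψ e := by
        rw [mem_E]
        intro a
        have e' : trA a * D = D * trA (fun k => d₀ * a k / dv k) := by
          rw [diagEl_mul_trA]
          congr 1
          apply congrArg trA
          funext k
          field_simp [hd0, hdi k]
        rw [← ap_mul, e', ap_mul, (mem_E τ).mp (hxE e), ap_smul]
        congr 2
        simp only [e, single_dotProduct, one_mul, hDl]
        field_simp
      obtain ⟨ζ', hζ'⟩ := hEline e hel0 _ hmemD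
      have h1 := herm_ap τ D (x e) u
      have h2 := herm_ap τ D (x e) (x e)
      rw [hζ', hζ, herm_smul_left, herm_smul_right, hxu e hel0] at h1
      rw [hζ', herm_smul_left, herm_smul_right, hxx e hel0] at h2
      rw [hζ']
      congr 1
      have hne : star ζ' ≠ 0 := fun h0 => hα0 (by rw [← h2, h0, zero_mul])
      exact (mul_right_cancel₀ hα0 (mul_left_cancel₀ hne (h1.trans h2.symm))).symm
    have hζ1 : star ζ * ζ = 1 := by
      have h2 := herm_ap τ D (x e) (x e)
      rw [hDx, herm_smul_left, herm_smul_right, hxx e hel0, ← mul_assoc] at h2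
      exact mul_right_cancel₀ hα0 (h2.trans (one_mul _).symm)
    have hscale : ∀ s, c ((ρ * s) • b₀) e = c (s • b₀) e := by
      intro s
      have h1 := herm_ap τ D (x e) (ap τ (trB (s • b₀)) u)
      have hb' : (fun i => d₀ * (s • b₀) i / dv i) = (ρ * s) • b₀ := by
        funext i
        by_cases hi : i = i₀
        · subst hi; simp [b₀, v₀, hρ]; ring
        · simp [b₀, v₀, hi]
      rw [hDx, ← ap_mul, diagEl_mul_trB, ap_mul, hb', hζ, ap_smul, herm_smul_left,
        herm_smul_right, ← mul_assoc, hζ1, one_mul] at h1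
      exact h1
    have hρ0 : ρ ≠ 0 := div_ne_zero hd0 (hdi i₀)
    have hmulφ : ∀ s t : F, s ≠ 0 → t ≠ 0 → s + t ≠ 0 → φf (s + t) = φf s * φf t := by
      intro s t hs ht hst
      have h1 := hφf (s + t) hst
      rw [add_smul, trB_add, ap_mul, hφf t ht, ap_smul, hφf s hs, smul_smul] at h1
      have hS0 : S b₀ e ≠ 0 := by
        intro h0
        have h1 := hφ
        have h2 := congrArg (herm τ (x e)) h0
        rw [herm_zero_right] at h2
        simp only [S, herm_sum_right] at h2
        rw [Finset.sum_eq_single (0 : F) (fun t _ ht => hxv _ _ (fun e' => ht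
          (smul_left_injective F hv₀ (show t • b₀ = (0 : F) • b₀ by
            rw [zero_smul]; exact (add_eq_left.mp e'.symm)))))
          (by simp), zero_smul, add_zero, hxx e hel0] at h2
        exact hα0 h2
      have := smul_left_injective ℂ hS0 h1
      rw [← this, mul_comm]
    have hφnz : ∀ s : F, s ≠ 0 → φf s ≠ 0 := by
      intro s hs h0
      have := hφf s hs
      rw [h0, zero_smul] at this
      have h1 := ap_injective τ _ (this.trans (ap_zero τ _).symm)
      have h2 := congrArg (herm τ (x e)) h1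
      rw [herm_zero_right] at h2
      simp only [S, herm_sum_right] at h2
      rw [Finset.sum_eq_single (0 : F) (fun t _ ht => hxv _ _ (fun e' => ht
        (smul_left_injective F hv₀ (show t • b₀ = (0 : F) • b₀ by
          rw [zero_smul]; exact (add_eq_left.mp e'.symm)))))
        (by simp), zero_smul, add_zero, hxx e hel0] at h2
      exact hα0 h2
    have hone : ∀ s : F, s ≠ 0 → φf s = 1 := by
      intro s hs
      have hρ' : ρ - 1 ≠ 0 := sub_ne_zero.mpr hρ1
      set t := s / (ρ - 1) with ht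
      have ht0 : t ≠ 0 := div_ne_zero hs hρ'
      have h1 : φf (ρ * t) = φf t := by simp only [φf, hscale]
      have h2 := hmulφ t s ht0 hs (by
        rw [show t + s = ρ * t by rw [ht]; field_simp; ring]; exact mul_ne_zero hρ0 ht0)
      rw [show t + s = ρ * t by rw [ht]; field_simp; ring, h1] at h2
      exact (mul_eq_left₀ (hφnz t ht0)).mp h2.symm
    have hφ1 : φ = 1 := by
      have := hone 1 one_ne_zero
      simp only [φf, one_smul, e] at this
      rw [hφ, mul_div_assoc, div_self hα0, mul_one] at this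
      exact this
    rw [hφ1, one_mul]
    -- `v` is in the coset of a multiple of `e`
    obtain ⟨t, s, hts, ht⟩ : ∃ t s : F, v = t • e + s • b₀ ∧ t ≠ 0 := by
      have hvd : v = v l • e + v i₀ • b₀ := by
        subst hm2
        funext i
        have hcases : i = l ∨ i = i₀ := by
          fin_cases i <;> fin_cases l <;> simp [i₀] at hl ⊢
        rcases hcases with rfl | rfl
        · simp [e, b₀, v₀, hl]
        · simp [e, b₀, v₀, Ne.symm hl]
      refine ⟨v l, v i₀, hvd, fun h => hv ?_⟩
      rw [hvd, h, zero_smul, zero_add]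
      exact Submodule.smul_mem _ _ (Submodule.mem_span_singleton_self _)
    subst hts
    obtain ⟨h, h1, h2⟩ := exists_stab_translation (b := b₀) (v := t • e) (by
      rw [LinearIndependent.pair_iff' hv₀]
      intro r hr
      exact hel (Submodule.mem_span_singleton.mpr ⟨t⁻¹ * r, by
        rw [mul_smul, hr, smul_smul, inv_mul_cancel₀ ht, one_smul]⟩)) s
    rw [← h2]
    conv_lhs => rw [← h1, hcL']
    -- move `t • e` back to `e` by scaling
    obtain ⟨g, hg1, hg2⟩ : ∃ g : SpecialLinearGroup (Fin m) F,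
        b₀ ᵥ* g.1 = t⁻¹ • b₀ ∧ e ᵥ* g.1 = t • e := by
      refine ⟨⟨diagonal (fun i => if i = i₀ then t⁻¹ else t), ?_⟩, ?_, ?_⟩
      · subst hm2
        rw [det_diagonal, Fin.prod_univ_two]
        simp [i₀, ht]
      · funext i
        by_cases hi : i = i₀ <;> simp [b₀, v₀, vecMul_diagonal, hi]
      · funext i
        by_cases hi : i = l <;> simp [e, vecMul_diagonal, hi, hl]
    have h3 := hone t ht
    simp only [φf, div_eq_one_iff_eq hα0] at h3
    rw [← h3]
    have h4 := hcL' g (t • b₀) e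
    rw [smul_vecMul, hg1, hg2, smul_smul, mul_inv_cancel₀ ht, one_smul] at h4
    exact h4
  obtain ⟨κ, hκ, hκv⟩ := hconst
  -- split the product along the line of `b₀`
  have hsplit : herm τ u (ap τ (trB b₀) u) =
      ((Finset.univ.filter (fun v => v ∉ F ∙ b₀)).card : ℂ) * (κ * α) +
        herm τ (S b₀ 0) (ap τ (trB b₀) (S b₀ 0)) := by
    conv_lhs => arg 2; simp only [u]
    rw [herm_sum_left, ← Finset.sum_filter_add_sum_filter_not _ (fun v => v ∉ F ∙ b₀)]
    congr 1
    · rw [Finset.sum_congr rfl (fun v hv => hκv v (Finset.mem_filter.mp hv).2), Finset.sum_const,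
        nsmul_eq_mul]
    · conv_rhs => arg 2; simp only [S]
      rw [herm_sum_left]
      refine (Finset.sum_bij (fun s _ => (0 : Fin m → F) + s • b₀) (fun s _ => ?_)
        (fun s _ t _ h => ?_) (fun v hv => ?_) (fun s _ => ?_)).symm
      · simp [Submodule.mem_span_singleton]
      · exact smul_left_injective F hv₀ (add_left_cancel h)
      · obtain ⟨s, hs⟩ := Submodule.mem_span_singleton.mp (not_not.mp (Finset.mem_filter.mp hv).2)
        exact ⟨s, Finset.mem_univ _, by rw [zero_add, hs]⟩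
      · exact hcC b₀ 0 _ hv₀ (by simp [Submodule.mem_span_singleton])
  have hcount : (Finset.univ.filter (fun v : Fin m → F => v ∉ F ∙ b₀)).card = q ^ m - q := by
    have h1 : (Finset.univ.filter (fun v : Fin m → F => v ∈ F ∙ b₀)).card = q := by
      rw [hq, ← Finset.card_univ (α := F)]
      refine (Finset.card_bij (fun s _ => s • b₀) (fun s _ => ?_) (fun s _ t _ h => ?_)
        (fun v hv => ?_)).symm
      · simp [Submodule.mem_span_singleton]
      · exact smul_left_injective F hv₀ h
      · obtain ⟨s, hs⟩ := Submodule.mem_span_singleton.mp (Finset.mem_filter.mp hv).2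
        exact ⟨s, Finset.mem_univ _, hs⟩
    have h2 := Finset.card_filter_add_card_filter_not
      (s := (Finset.univ : Finset (Fin m → F))) (fun v => v ∈ F ∙ b₀)
    rw [h1, Finset.card_univ, Fintype.card_fun, Fintype.card_fin, ← hq] at h2
    omega
  have hS0 : ‖herm τ (S b₀ 0) (ap τ (trB b₀) (S b₀ 0))‖ ≤ ((q - 1 : ℕ) : ℝ) * ‖α‖ := by
    refine (norm_herm_le τ _ _).trans (le_of_eq ?_)
    have : herm τ (S b₀ 0) (S b₀ 0) = ((q - 1 : ℕ) : ℂ) * α := by
      simp only [S, herm_sum_left, herm_sum_right]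
      rw [← Finset.add_sum_erase _ _ (Finset.mem_univ (0 : F))]
      rw [show x ((0 : Fin m → F) + (0 : F) • b₀) = 0 by simp [x]]
      simp only [herm_zero_left, herm_zero_right, Finset.sum_const_zero, zero_add]
      rw [Finset.sum_congr rfl (g := fun _ => α)]
      · rw [Finset.sum_const, Finset.card_erase_of_mem (Finset.mem_univ _), Finset.card_univ,
          nsmul_eq_mul, hq]
      · intro s hs
        have hs0 := Finset.ne_of_mem_erase hs
        refine (Finset.sum_eq_single s (fun t _ ht => hxv _ _ (fun e' => ht ?_)) (by simp)).trans ?_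
        · exact smul_left_injective F hv₀ (by simpa using e')
        · simpa using hxx _ (smul_ne_zero hs0 hv₀)
    rw [this, norm_mul, Complex.norm_natCast]
  rw [hγ, hcount] at hsplit
  have h1 : ((q ^ m - q : ℕ) : ℝ) * ‖α‖ ≤ ‖α‖ + ((q - 1 : ℕ) : ℝ) * ‖α‖ := by
    calc ((q ^ m - q : ℕ) : ℝ) * ‖α‖ = ‖((q ^ m - q : ℕ) : ℂ) * (κ * α)‖ := by
          rw [norm_mul, norm_mul, hκ, one_mul, Complex.norm_natCast]
      _ = ‖-α - herm τ (S b₀ 0) (ap τ (trB b₀) (S b₀ 0))‖ := by rw [hsplit]; congr 1; ring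
      _ ≤ ‖-α‖ + _ := norm_sub_le _ _
      _ ≤ _ := by rw [norm_neg]; linarith
  have hαpos : 0 < ‖α‖ := norm_pos_iff.mpr hα0
  have h2 : ((q ^ m - q : ℕ) : ℝ) ≤ ((1 + (q - 1) : ℕ) : ℝ) := by
    push_cast
    nlinarith
  have h3 : q ^ m - q ≤ 1 + (q - 1) := by exact_mod_cast h2
  have hq2 : 2 ≤ q := Fintype.one_lt_card
  have hpm : q ^ 2 ≤ q ^ m := Nat.pow_le_pow_right (by omega) hm
  rcases eq_or_lt_of_le hq2 with h | h
  · rcases eq_or_lt_of_le hm with h' | h'
    · exact (hexc.1 h'.symm).1 h.symm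
    · have : 2 ^ 3 ≤ q ^ m := h ▸ Nat.pow_le_pow_right (by norm_num) h'
      omega
  · have : 3 * q ≤ q ^ 2 := by nlinarith
    omega

end Cfsg.Agent.CrossChar56.SLExact
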