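import Cfsg.Agent.CrossChar56.SL
import Cfsg.Agent.CrossChar56.Mult
import Cfsg.Agent.CrossChar56.Common
import Cfsg.Agent.Lib.LinearGroup.Generation

/-!
Auxiliary facts for the exact minimal degree of `SL_n(q)`: an invariant inner product and
transitivity of `SL` on independent pairs of vectors.
-/

set_option autoImplicit false

noncomputable section

namespace Cfsg.Agent.CrossChar56

open Matrix

section Herm

variable {G : Type*} [Group G] {d : ℕ} (τ : G →* GL (Fin d) ℂ)

/-- action on vectors -/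
def ap (g : G) (x : Fin d → ℂ) : Fin d → ℂ := (τ g : Matrix (Fin d) (Fin d) ℂ) *ᵥ x

theorem ap_mul (g h : G) (x : Fin d → ℂ) : ap τ (g * h) x = ap τ g (ap τ h x) := by
  simp [ap, mulVec_mulVec]

theorem ap_one (x : Fin d → ℂ) : ap τ 1 x = x := by simp [ap]

theorem ap_inv_ap (g : G) (x : Fin d → ℂ) : ap τ g⁻¹ (ap τ g x) = x := by
  rw [← ap_mul, inv_mul_cancel, ap_one]

theorem ap_smul (g : G) (c : ℂ) (x : Fin d → ℂ) : ap τ g (c • x) = c • ap τ g x := by
  simp [ap, mulVec_smul]

theorem ap_add (g : G) (x y : Fin d → ℂ) : ap τ g (x + y) = ap τ g x + ap τ g y := by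
  simp [ap, mulVec_add]

theorem ap_sum {ι : Type*} (s : Finset ι) (g : G) (f : ι → Fin d → ℂ) :
    ap τ g (∑ i ∈ s, f i) = ∑ i ∈ s, ap τ g (f i) := by
  simp [ap, mulVec_sum]

theorem ap_zero (g : G) : ap τ g 0 = 0 := by simp [ap]

theorem ap_injective (g : G) : Function.Injective (ap τ g) := fun x y h => by
  rw [← ap_inv_ap τ g x, h, ap_inv_ap]

variable [Fintype G]

/-- invariant inner product, conjugate-linear in the first argument -/
def herm (x y : Fin d → ℂ) : ℂ := ∑ g : G, star (ap τ g x) ⬝ᵥ ap τ g y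

theorem herm_ap (h : G) (x y : Fin d → ℂ) : herm τ (ap τ h x) (ap τ h y) = herm τ x y := by
  simp only [herm, ← ap_mul]
  exact Fintype.sum_equiv (Equiv.mulRight h) _ _ (fun g => rfl)

theorem herm_ap_left (h : G) (x y : Fin d → ℂ) :
    herm τ (ap τ h x) y = herm τ x (ap τ h⁻¹ y) := by
  rw [← herm_ap τ h x (ap τ h⁻¹ y), ← ap_mul τ h h⁻¹, mul_inv_cancel, ap_one]

theorem herm_add_right (x y z : Fin d → ℂ) : herm τ x (y + z) = herm τ x y + herm τ x z := by
  simp [herm, ap_add, dotProduct_add, Finset.sum_add_distrib]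

theorem herm_add_left (x y z : Fin d → ℂ) : herm τ (x + y) z = herm τ x z + herm τ y z := by
  simp [herm, ap_add, add_dotProduct, Finset.sum_add_distrib]

theorem herm_smul_right (c : ℂ) (x y : Fin d → ℂ) : herm τ x (c • y) = c * herm τ x y := by
  simp [herm, ap_smul, dotProduct_smul, Finset.mul_sum]

theorem herm_smul_left (c : ℂ) (x y : Fin d → ℂ) : herm τ (c • x) y = star c * herm τ x y := by
  simp [herm, ap_smul, smul_dotProduct, Finset.mul_sum]

theorem herm_zero_right (x : Fin d → ℂ) : herm τ x 0 = 0 := by simp [herm, ap_zero]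

theorem herm_zero_left (x : Fin d → ℂ) : herm τ 0 x = 0 := by simp [herm, ap_zero]

theorem herm_sum_right {ι : Type*} (s : Finset ι) (x : Fin d → ℂ) (f : ι → Fin d → ℂ) :
    herm τ x (∑ i ∈ s, f i) = ∑ i ∈ s, herm τ x (f i) := by
  classical
  induction s using Finset.induction_on with
  | empty => simp [herm_zero_right]
  | insert a t ha ih => simp [Finset.sum_insert ha, herm_add_right, ih]

theorem herm_sum_left {ι : Type*} (s : Finset ι) (x : Fin d → ℂ) (f : ι → Fin d → ℂ) :
    herm τ (∑ i ∈ s, f i) x = ∑ i ∈ s, herm τ (f i) x := by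
  classical
  induction s using Finset.induction_on with
  | empty => simp [herm_zero_left]
  | insert a t ha ih => simp [Finset.sum_insert ha, herm_add_left, ih]

theorem herm_sub_left (x y z : Fin d → ℂ) : herm τ (x - y) z = herm τ x z - herm τ y z := by
  rw [eq_sub_iff_add_eq, ← herm_add_left, sub_add_cancel]

theorem herm_sub_right (x y z : Fin d → ℂ) : herm τ x (y - z) = herm τ x y - herm τ x z := by
  rw [eq_sub_iff_add_eq, ← herm_add_right, sub_add_cancel]

theorem eq_zero_of_herm {x : Fin d → ℂ} (h : herm τ x x = 0) : x = 0 := by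
  have h1 : ∀ g : G, 0 ≤ ∑ i, Complex.normSq (ap τ g x i) :=
    fun g => Finset.sum_nonneg fun i _ => Complex.normSq_nonneg _
  have h2 : ∑ g : G, ∑ i, Complex.normSq (ap τ g x i) = 0 := by
    have := congrArg Complex.re h
    simpa [herm, dotProduct, Complex.normSq_apply] using this
  have h3 := (Finset.sum_eq_zero_iff_of_nonneg (fun g _ => h1 g)).mp h2 1 (Finset.mem_univ _)
  funext i
  have h4 := (Finset.sum_eq_zero_iff_of_nonneg (fun i _ => Complex.normSq_nonneg _)).mp h3 i
    (Finset.mem_univ _)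
  rw [ap_one] at h4
  exact Complex.normSq_eq_zero.mp h4

/-- vectors with constant mutual product, distinct from the squares, give a lower bound -/
theorem le_dim_of_equiangular {ι : Type*} [Fintype ι] (z : ι → Fin d → ℂ) {α β : ℂ}
    (hd : ∀ i, herm τ (z i) (z i) = α) (ho : ∀ i j, i ≠ j → herm τ (z i) (z j) = β) (hne : α ≠ β) :
    Fintype.card ι - 1 ≤ d := by
  classical
  rcases isEmpty_or_nonempty ι with hE | ⟨⟨i₀⟩⟩
  · simp
  have hli : LinearIndependent ℂ (fun i : {i // i ≠ i₀} => z i.1) := by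
    rw [Fintype.linearIndependent_iff]
    intro c hc
    let c' : ι → ℂ := fun i => if h : i ≠ i₀ then c ⟨i, h⟩ else 0
    have hc' : ∑ i, c' i • z i = 0 := by
      rw [← hc, ← Finset.sum_erase_add _ _ (Finset.mem_univ i₀)]
      simp only [c', ne_eq, not_true_eq_false, dif_neg, not_false_eq_true, zero_smul, add_zero]
      rw [Finset.sum_subtype (Finset.univ.erase i₀) (p := fun i => i ≠ i₀) (by simp)]
      exact Finset.sum_congr rfl fun i _ => by simp [i.2]
    have hk : ∀ k, (α - β) * c' k + β * ∑ i, c' i = 0 := by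
      intro k
      have := congrArg (herm τ (z k)) hc'
      simp only [herm_sum_right, herm_smul_right, herm_zero_right] at this
      rw [← this, Finset.mul_sum, ← Finset.sum_erase_add _ _ (Finset.mem_univ k),
        ← Finset.sum_erase_add _ (fun i => c' i * herm τ (z k) (z i)) (Finset.mem_univ k), hd]
      rw [Finset.sum_congr rfl (fun i hi => by
        rw [ho k i (Ne.symm (Finset.ne_of_mem_erase hi)), mul_comm] :
          ∀ i ∈ Finset.univ.erase k, c' i * herm τ (z k) (z i) = β * c' i)]
      ring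
    have hsum : β * ∑ i, c' i = 0 := by
      have := hk i₀
      simpa [c'] using this
    intro i
    have := hk i.1
    rw [hsum, add_zero] at this
    have h5 := (mul_eq_zero.mp this).resolve_left (sub_ne_zero.mpr hne)
    simpa [c', i.2] using h5
  have h := hli.fintype_card_le_finrank
  rw [Module.finrank_fin_fun] at h
  rw [Fintype.card_subtype_compl, Fintype.card_subtype_eq] at h
  exact h

end Herm

section Pair

variable {F : Type*} [Field F] {ι : Type*} [Fintype ι] [DecidableEq ι]

/-- linear functional with prescribed values on an independent family -/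
theorem exists_dot_eq {κ : Type*} (w : κ → ι → F) (hw : LinearIndependent F w) (c : κ → F) :
    ∃ f : ι → F, ∀ k, f ⬝ᵥ w k = c k := by
  classical
  let B := Module.Basis.span hw
  obtain ⟨φ, hφ⟩ := LinearMap.exists_extend (B.constr F c)
  refine ⟨fun i => φ (Pi.single i 1), fun k => ?_⟩
  have h1 : φ (w k) = c k := by
    have h2 := DFunLike.congr_fun hφ (B k)
    rw [Module.Basis.constr_basis] at h2
    simpa [B, Module.Basis.span_apply] using h2
  rw [← h1]
  conv_rhs => rw [pi_eq_sum_univ' (w k)]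
  simp [dotProduct, map_sum, mul_comm]

/-- transvection with a prescribed action -/
theorem exists_sl_shear {a x : ι → F} {f : ι → F} (hfa : f ⬝ᵥ a = 1) (hfx : f ⬝ᵥ (x - a) = 0) :
    ∃ h : SpecialLinearGroup ι F, h.1 *ᵥ a = x ∧ ∀ b, f ⬝ᵥ b = 0 → h.1 *ᵥ b = b := by
  have key : ∀ b, (1 + replicateCol Unit (x - a) * replicateRow Unit f) *ᵥ b = b + (f ⬝ᵥ b) • (x - a) := by
    intro b
    rw [add_mulVec, one_mulVec, ← mulVec_mulVec]
    congr 1
    ext i
    simp [mulVec, dotProduct, mul_comm]
  refine ⟨⟨1 + replicateCol Unit (x - a) * replicateRow Unit f, ?_⟩, ?_, fun b hb => ?_⟩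
  · rw [det_one_add_replicateCol_mul_replicateRow, hfx, add_zero]
  · show (1 + _) *ᵥ a = x
    rw [key, hfa, one_smul, add_sub_cancel]
  · show (1 + _) *ᵥ b = b
    rw [key, hb, zero_smul, add_zero]

/-- moving one non-zero vector to another -/
theorem exists_sl_col (h2 : 2 ≤ Fintype.card ι) {a x : ι → F} (ha : a ≠ 0) (hx : x ≠ 0) :
    ∃ h : SpecialLinearGroup ι F, h.1 *ᵥ a = x := by
  have step : ∀ {a x : ι → F}, LinearIndependent F ![a, x] →
      ∃ h : SpecialLinearGroup ι F, h.1 *ᵥ a = x := by
    intro a x hli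
    obtain ⟨f, hf⟩ := exists_dot_eq _ hli ![1, 1]
    obtain ⟨h, hh, -⟩ := exists_sl_shear (a := a) (x := x) (f := f) (by simpa using hf 0)
      (by
        have e0 : f ⬝ᵥ a = 1 := by simpa using hf 0
        have e1 : f ⬝ᵥ x = 1 := by simpa using hf 1
        rw [dotProduct_sub, e0, e1, sub_self])
    exact ⟨h, hh⟩
  by_cases h : x ∈ F ∙ a
  · obtain ⟨u, hu⟩ : ∃ u, u ∉ F ∙ a := by
      by_contra hcon
      push Not at hcon
      have htop : (F ∙ a) = ⊤ := Submodule.eq_top_iff'.mpr hcon
      have h1 : Module.finrank F (F ∙ a) ≤ 1 := by rw [finrank_span_singleton ha]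
      rw [htop, finrank_top, Module.finrank_fintype_fun_eq_card] at h1
      omega
    have h1 : LinearIndependent F ![a, u] := by
      rw [LinearIndependent.pair_iff' ha]
      exact fun c hc => hu (Submodule.mem_span_singleton.mpr ⟨c, hc⟩)
    have h2 : LinearIndependent F ![u, x] := by
      rw [LinearIndependent.pair_symm_iff, LinearIndependent.pair_iff' hx]
      exact fun c hc => hu (hc ▸ Submodule.smul_mem _ c h)
    obtain ⟨g1, hg1⟩ := step h1
    obtain ⟨g2, hg2⟩ := step h2
    exact ⟨g2 * g1, by rw [SpecialLinearGroup.coe_mul, ← mulVec_mulVec, hg1, hg2]⟩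
  · exact step (by
      rw [LinearIndependent.pair_iff' ha]
      exact fun c hc => h (Submodule.mem_span_singleton.mpr ⟨c, hc⟩))

/-- fixing `e`, the special linear group is transitive outside the line of `e` (dimension ≥ 3) -/
theorem exists_sl_fix (h3 : 3 ≤ Fintype.card ι) {e a x : ι → F} (he : e ≠ 0) (ha : a ∉ F ∙ e)
    (hx : x ∉ F ∙ e) : ∃ h : SpecialLinearGroup ι F, h.1 *ᵥ e = e ∧ h.1 *ᵥ a = x := by
  have hpair : ∀ {a : ι → F}, a ∉ F ∙ e → LinearIndependent F ![a, e] := fun {a} ha => by
    rw [LinearIndependent.pair_symm_iff, LinearIndependent.pair_iff' he]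
    exact fun c hc => ha (Submodule.mem_span_singleton.mpr ⟨c, hc⟩)
  have step : ∀ {a x : ι → F}, a ∉ F ∙ e → x ∉ Submodule.span F (Set.range ![a, e]) →
      ∃ h : SpecialLinearGroup ι F, h.1 *ᵥ e = e ∧ h.1 *ᵥ a = x := by
    intro a x ha hx
    have hli : LinearIndependent F ![x, a, e] := linearIndependent_fin_cons.mpr ⟨hpair ha, hx⟩
    obtain ⟨f, hf⟩ := exists_dot_eq _ hli ![1, 1, 0]
    have e0 : f ⬝ᵥ x = 1 := by simpa using hf 0
    have e1 : f ⬝ᵥ a = 1 := by simpa using hf 1
    have e2 : f ⬝ᵥ e = 0 := by simpa using hf 2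
    obtain ⟨h, hh, hfix⟩ := exists_sl_shear (x := x) e1 (by rw [dotProduct_sub, e0, e1, sub_self])
    exact ⟨h, hfix e e2, hh⟩
  by_cases hx2 : x ∈ Submodule.span F (Set.range ![a, e])
  · obtain ⟨u, hu⟩ : ∃ u, u ∉ Submodule.span F (Set.range ![a, e]) := by
      by_contra hcon
      push Not at hcon
      have htop := Submodule.eq_top_iff'.mpr hcon
      have h1 := finrank_span_eq_card (hpair ha)
      rw [htop, finrank_top, Module.finrank_fintype_fun_eq_card, Fintype.card_fin] at h1
      omega
    have hue : u ∉ F ∙ e := fun h => hu (Submodule.span_mono (by simp) h)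
    have hxu : x ∉ Submodule.span F (Set.range ![u, e]) := by
      intro h
      have hle : Submodule.span F (Set.range ![x, e]) ≤
          Submodule.span F (Set.range ![a, e]) ⊓ Submodule.span F (Set.range ![u, e]) := by
        rw [Submodule.span_le]
        rintro _ ⟨i, rfl⟩
        fin_cases i
        · exact ⟨hx2, h⟩
        · exact ⟨Submodule.subset_span ⟨1, by simp⟩, Submodule.subset_span ⟨1, by simp⟩⟩
      have hfa := finrank_span_eq_card (hpair ha)
      have hfx := finrank_span_eq_card (hpair hx)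
      have hfu := finrank_span_eq_card (hpair hue)
      have e1 := Submodule.eq_of_le_of_finrank_eq (hle.trans inf_le_left) (hfx.trans hfa.symm)
      have e2 := Submodule.eq_of_le_of_finrank_eq (hle.trans inf_le_right) (hfx.trans hfu.symm)
      apply hu
      rw [← e1, e2]
      exact Submodule.subset_span ⟨0, by simp⟩
    obtain ⟨g1, he1, hg1⟩ := step ha hu
    obtain ⟨g2, he2, hg2⟩ := step hue hxu
    exact ⟨g2 * g1, by rw [SpecialLinearGroup.coe_mul, ← mulVec_mulVec, he1, he2],
      by rw [SpecialLinearGroup.coe_mul, ← mulVec_mulVec, hg1, hg2]⟩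
  · exact step ha hx2

/-- the transpose-inverse automorphism -/
def slDual : SpecialLinearGroup ι F →* SpecialLinearGroup ι F where
  toFun g := ⟨(g⁻¹).1ᵀ, by rw [det_transpose]; exact (g⁻¹).2⟩
  map_one' := by apply Subtype.ext; simp
  map_mul' g h := by
    apply Subtype.ext
    show ((g * h)⁻¹).1ᵀ = (g⁻¹).1ᵀ * (h⁻¹).1ᵀ
    rw [_root_.mul_inv_rev, SpecialLinearGroup.coe_mul, transpose_mul]

theorem slDual_slDual (g : SpecialLinearGroup ι F) : slDual (slDual g) = g := by
  apply Subtype.ext
  show ((slDual g)⁻¹).1ᵀ = g.1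
  rw [← map_inv]
  show ((g⁻¹)⁻¹).1ᵀᵀ = g.1
  rw [inv_inv, transpose_transpose]

theorem slDual_vecMul (g : SpecialLinearGroup ι F) (v : ι → F) :
    (slDual g).1 *ᵥ v = v ᵥ* (g⁻¹).1 := mulVec_transpose _ _

theorem exists_sl_fix_row (h3 : 3 ≤ Fintype.card ι) {e a x : ι → F} (he : e ≠ 0) (ha : a ∉ F ∙ e)
    (hx : x ∉ F ∙ e) : ∃ h : SpecialLinearGroup ι F, e ᵥ* h.1 = e ∧ a ᵥ* h.1 = x := by
  obtain ⟨h, h1, h2⟩ := exists_sl_fix h3 he ha hx
  refine ⟨(slDual h)⁻¹, ?_, ?_⟩ <;> rw [← slDual_vecMul, slDual_slDual]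
  · exact h1
  · exact h2

theorem exists_sl_row (h2 : 2 ≤ Fintype.card ι) {a x : ι → F} (ha : a ≠ 0) (hx : x ≠ 0) :
    ∃ h : SpecialLinearGroup ι F, a ᵥ* h.1 = x := by
  obtain ⟨h, hh⟩ := exists_sl_col h2 ha hx
  exact ⟨(slDual h)⁻¹, by rw [← slDual_vecMul, slDual_slDual]; exact hh⟩

end Pair

section StabGen

variable {F : Type*} [Field F] {μ : Type*} [Fintype μ] [DecidableEq μ]

/-- the stabiliser of a basis row vector is generated by its elementary transvections -/
theorem row_stab_le {i₀ : μ} {H : Subgroup (SpecialLinearGroup μ F)}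
    (hH : ∀ (i j : μ) (hij : i ≠ j), i ≠ i₀ → ∀ c, SpecialLinearGroup.transvection hij c ∈ H)
    (h : SpecialLinearGroup μ F) (hh : (Pi.single i₀ 1 : μ → F) ᵥ* h.1 = Pi.single i₀ 1) :
    h ∈ H := by
  classical
  have hrow : ∀ j, h.1 i₀ j = if j = i₀ then 1 else 0 := fun j => by
    have := congrFun hh j
    simpa [Matrix.single_vecMul, Pi.single_apply] using this
  let e : ({k : μ // k = i₀} ⊕ {k : μ // ¬ k = i₀}) ≃ μ := Equiv.sumCompl _
  let emb : SpecialLinearGroup {k : μ // ¬ k = i₀} F →* SpecialLinearGroup μ F :=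
    { toFun := fun A => ⟨Matrix.reindex e e (fromBlocks 1 0 0 A.1), by
        rw [det_reindex_self, det_fromBlocks_zero₂₁, det_one, one_mul, A.2]⟩
      map_one' := by apply Subtype.ext; simp [fromBlocks_one]
      map_mul' := fun A B => by
        apply Subtype.ext
        show Matrix.reindex e e (fromBlocks 1 0 0 (A.1 * B.1)) =
          Matrix.reindex e e (fromBlocks 1 0 0 A.1) * Matrix.reindex e e (fromBlocks 1 0 0 B.1)
        simp only [Matrix.reindex_apply, submatrix_mul_equiv, fromBlocks_multiply]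
        simp }
  have hemb : ∀ (A : SpecialLinearGroup {k : μ // ¬ k = i₀} F) (i j : μ), (emb A).1 i j =
      if hi : i = i₀ then (if j = i₀ then 1 else 0) else (if hj : j = i₀ then 0 else A.1 ⟨i, hi⟩ ⟨j, hj⟩) := by
    intro A i j
    show (fromBlocks 1 0 0 A.1) (e.symm i) (e.symm j) = _
    by_cases hi : i = i₀ <;> by_cases hj : j = i₀ <;>
      simp [e, Equiv.sumCompl, hi, hj, Matrix.one_apply, Subtype.ext_iff]
  have hrange : ∀ A, emb A ∈ H := by
    have : Subgroup.comap emb H = ⊤ := by
      refine LinearGroup.eq_top_of_transvection_mem fun i j hij c => ?_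
      rw [Subgroup.mem_comap]
      have hij' : (i : μ) ≠ (j : μ) := fun e => hij (Subtype.ext e)
      have : emb (SpecialLinearGroup.transvection hij c) = SpecialLinearGroup.transvection hij' c := by
        apply Subtype.ext
        ext k l
        rw [hemb]
        show _ = (Matrix.transvection (i : μ) (j : μ) c) k l
        have hi2 := i.2
        have hj2 := j.2
        by_cases hk : k = i₀ <;> by_cases hl : l = i₀ <;>
          simp [Matrix.transvection, SpecialLinearGroup.transvection_coe, Matrix.single_apply, hk, hl,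
            Matrix.one_apply, Subtype.ext_iff, hi2, hj2, Ne.symm, eq_comm (a := i₀)]
      rw [this]
      exact hH _ _ hij' i.2 c
    intro A
    have hA : A ∈ Subgroup.comap emb H := this ▸ Subgroup.mem_top A
    exact hA
  suffices ∀ (s : Finset μ), i₀ ∉ s → ∀ g : SpecialLinearGroup μ F,
      (∀ j, g.1 i₀ j = if j = i₀ then 1 else 0) → (∀ i, i ≠ i₀ → i ∉ s → g.1 i i₀ = 0) → g ∈ H from
    this (Finset.univ.erase i₀) (by simp) h hrow (fun i hi hi' => absurd (by simp [hi]) hi')
  intro s
  induction s using Finset.induction_on with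
  | empty =>
    intro _ g hr hc
    let e' := e
    have hblk : g.1 = Matrix.reindex e e (fromBlocks 1 0 0
        (g.1.submatrix (Subtype.val : {k : μ // ¬ k = i₀} → μ) Subtype.val)) := by
      ext i j
      show _ = (fromBlocks 1 0 0 _) (e.symm i) (e.symm j)
      by_cases hi : i = i₀ <;> by_cases hj : j = i₀
      · subst hi hj; simp [e, Equiv.sumCompl, hr]
      · subst hi; simp [e, Equiv.sumCompl, hr, hj]
      · subst hj; simp [e, Equiv.sumCompl, hi, hc i hi]
      · simp [e, Equiv.sumCompl, hi, hj]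
    have hdet : (g.1.submatrix (Subtype.val : {k : μ // ¬ k = i₀} → μ) Subtype.val).det = 1 := by
      have := congrArg Matrix.det hblk
      rw [det_reindex_self, det_fromBlocks_zero₂₁, det_one, one_mul] at this
      rw [← this, g.2]
    have : g = emb ⟨_, hdet⟩ := Subtype.ext hblk
    rw [this]
    exact hrange _
  | insert a t ha ih =>
    intro hi₀ g hr hc
    have hne : a ≠ i₀ := fun e => hi₀ (by simp [e])
    have hmem := ih (fun h => hi₀ (Finset.mem_insert_of_mem h))
      (SpecialLinearGroup.transvection hne (-(g.1 a i₀)) * g) ?_ ?_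
    · have h2 := mul_mem (inv_mem (hH a i₀ hne hne (-(g.1 a i₀)))) hmem
      rwa [inv_mul_cancel_left] at h2
    · intro j
      show (Matrix.transvection a i₀ (-(g.1 a i₀)) * g.1) i₀ j = _
      rw [Matrix.transvection_mul_apply_of_ne _ _ _ _ (Ne.symm hne)]
      exact hr j
    · intro i hi hit
      show (Matrix.transvection a i₀ (-(g.1 a i₀)) * g.1) i i₀ = 0
      by_cases hia : i = a
      · subst hia
        rw [Matrix.transvection_mul_apply_same, hr]
        simp
      · rw [Matrix.transvection_mul_apply_of_ne _ _ _ _ hia]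
        exact hc i hi (by simp [hia, hit])

end StabGen

end Cfsg.Agent.CrossChar56
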