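import Mathlib.LinearAlgebra.FiniteDimensional.Lemmas
import Mathlib.LinearAlgebra.Dimension.Finite
import Mathlib.Algebra.BigOperators.Group.Finset.Basic
import Mathlib.Data.Fintype.BigOperators
import Mathlib.LinearAlgebra.Dual.Lemmas
import Mathlib.FieldTheory.Finiteness
import Mathlib.FieldTheory.Finite.Basic
import Mathlib.Algebra.CharP.Two

/-!
Lower bound for the orbit of a quadratic form with non-zero polar form in characteristic 2.
-/

set_option autoImplicit false

namespace Cfsg.Agent.CrossChar56.QuadOrbit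

universe u

variable {F : Type*} [Field F] [Fintype F] [CharP F 2]

/-- the polar form -/
def pol {V : Type u} [AddCommGroup V] (Q : V → F) (x y : V) : F := Q (x + y) - Q x - Q y

/-- quadratic map in characteristic 2 -/
structure IsQuad {V : Type u} [AddCommGroup V] [Module F V] (Q : V → F) : Prop where
  smul : ∀ (c : F) x, Q (c • x) = c * c * Q x
  add : ∀ x y z, pol Q (x + y) z = pol Q x z + pol Q y z
  hsmul : ∀ (c : F) x y, pol Q (c • x) y = c * pol Q x y

variable {V : Type u} [AddCommGroup V] [Module F V] {Q : V → F}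

/-- orbit of a form -/
def orb (F : Type*) [Field F] {V : Type u} [AddCommGroup V] [Module F V] (Q : V → F) :
    Set (V → F) :=
  Set.range (fun g : V ≃ₗ[F] V => fun x => Q (g x))

omit [Fintype F] [CharP F 2] [Module F V] in
theorem pol_comm (Q : V → F) (x y : V) : pol Q x y = pol Q y x := by
  simp only [pol, add_comm x y]; ring

theorem IsQuad.map_zero (hQ : IsQuad Q) : Q 0 = 0 := by
  have := hQ.smul 0 0
  simpa using this

theorem IsQuad.pol_self (hQ : IsQuad Q) (x : V) : pol Q x x = 0 := by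
  have h : x + x = (0 : V) := by
    rw [← two_smul F x, (CharTwo.two_eq_zero : (2 : F) = 0), zero_smul]
  simp only [pol, h, hQ.map_zero, zero_sub]
  linear_combination (-(Q x)) * (CharTwo.two_eq_zero : (2 : F) = 0)

theorem IsQuad.pol_zero (hQ : IsQuad Q) (x : V) : pol Q 0 x = 0 := by
  have := hQ.hsmul 0 0 x
  simpa using this

theorem IsQuad.map_add (_hQ : IsQuad Q) (x y : V) : Q (x + y) = Q x + Q y + pol Q x y := by
  simp only [pol]; ring

/-- the functional `y ↦ pol Q y x` -/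
def toDual (hQ : IsQuad Q) (x : V) : V →ₗ[F] F where
  toFun y := pol Q y x
  map_add' y z := hQ.add y z x
  map_smul' c y := hQ.hsmul c y x

variable [FiniteDimensional F V]

omit [Fintype F] [CharP F 2] in
theorem exists_equiv_line {e x : V} (he : e ≠ 0) (hx : x ≠ 0) {H H' : Submodule F V}
    (hH : IsCompl (F ∙ e) H) (hH' : IsCompl (F ∙ x) H') (k : H ≃ₗ[F] H') :
    ∃ g : V ≃ₗ[F] V, g e = x ∧ ∀ a : H, g a = (k a : V) := by
  let l : (F ∙ e) ≃ₗ[F] (F ∙ x) :=
    (LinearEquiv.toSpanNonzeroSingleton F V e he).symm.trans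
      (LinearEquiv.toSpanNonzeroSingleton F V x hx)
  have hl : (l ⟨e, Submodule.mem_span_singleton_self e⟩ : V) = x := by
    have h2 : (LinearEquiv.toSpanNonzeroSingleton F V e he).symm
        ⟨e, Submodule.mem_span_singleton_self e⟩ = 1 := by
      rw [LinearEquiv.symm_apply_eq]; exact Subtype.ext (by simp)
    simp [l, h2]
  let G : V ≃ₗ[F] V := (Submodule.prodEquivOfIsCompl _ _ hH).symm.trans
    ((LinearEquiv.prodCongr l k).trans (Submodule.prodEquivOfIsCompl _ _ hH'))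
  refine ⟨G, ?_, fun a => ?_⟩
  · have he' : (Submodule.prodEquivOfIsCompl _ _ hH).symm e =
        (⟨e, Submodule.mem_span_singleton_self e⟩, 0) :=
      Submodule.prodEquivOfIsCompl_symm_apply_left _ _ hH ⟨e, Submodule.mem_span_singleton_self e⟩
    simp [G, he', hl]
  · have ha' : (Submodule.prodEquivOfIsCompl _ _ hH).symm (a : V) = (0, a) :=
      Submodule.prodEquivOfIsCompl_symm_apply_right _ _ hH a
    simp [G, ha']

omit [Fintype F] [CharP F 2] in
theorem finrank_compl {v : V} (hv : v ≠ 0) {H : Submodule F V} (hH : IsCompl (F ∙ v) H) :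
    Module.finrank F H + 1 = Module.finrank F V := by
  have h1 := Submodule.finrank_add_eq_of_isCompl hH
  rw [finrank_span_singleton hv] at h1
  omega

omit [Fintype F] [CharP F 2] in
theorem isCompl_ker {z : V} {Λ : V →ₗ[F] F} (hΛ : Λ z = 1) : IsCompl (F ∙ z) (LinearMap.ker Λ) := by
  constructor
  · rw [Submodule.disjoint_def]
    intro v hv hv'
    obtain ⟨a, rfl⟩ := Submodule.mem_span_singleton.mp hv
    simp [hΛ] at hv'
    simp [hv']
  · rw [codisjoint_iff, Submodule.eq_top_iff']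
    intro v
    exact Submodule.mem_sup.mpr ⟨Λ v • z, Submodule.smul_mem _ _ (Submodule.mem_span_singleton_self z),
      v - Λ v • z, by simp [hΛ], by abel⟩

omit [Fintype F] [CharP F 2] in
theorem exists_equiv_functional {e x : V} (he : e ≠ 0) (hx : x ≠ 0) {φ ψ : V →ₗ[F] F}
    (hφ : φ ≠ 0) (hψ : ψ ≠ 0) (hφe : φ e = 0) (hψx : ψ x = 0) :
    ∃ g : V ≃ₗ[F] V, g e = x ∧ ∀ v, ψ (g v) = φ v := by
  obtain ⟨f, hf⟩ : ∃ f, φ f = 1 := LinearMap.surjective_iff_ne_zero.mpr hφ 1
  obtain ⟨y, hy⟩ : ∃ y, ψ y = 1 := LinearMap.surjective_iff_ne_zero.mpr hψ 1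
  have hf0 : f ≠ 0 := by rintro rfl; simp at hf
  have hy0 : y ≠ 0 := by rintro rfl; simp at hy
  obtain ⟨K₁, hK₁⟩ := Submodule.exists_isCompl (F ∙ (⟨e, hφe⟩ : LinearMap.ker φ))
  obtain ⟨K₂, hK₂⟩ := Submodule.exists_isCompl (F ∙ (⟨x, hψx⟩ : LinearMap.ker ψ))
  have he' : (⟨e, hφe⟩ : LinearMap.ker φ) ≠ 0 := fun h => he (congrArg Subtype.val h)
  have hx' : (⟨x, hψx⟩ : LinearMap.ker ψ) ≠ 0 := fun h => hx (congrArg Subtype.val h)
  have d0 : Module.finrank F (LinearMap.ker φ) = Module.finrank F (LinearMap.ker ψ) := by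
    have h1 := finrank_compl hf0 (isCompl_ker hf)
    have h2 := finrank_compl hy0 (isCompl_ker hy)
    omega
  have d1 : Module.finrank F K₁ = Module.finrank F K₂ := by
    have h1 := finrank_compl he' hK₁
    have h2 := finrank_compl hx' hK₂
    omega
  let l : (F ∙ (⟨e, hφe⟩ : LinearMap.ker φ)) ≃ₗ[F] (F ∙ (⟨x, hψx⟩ : LinearMap.ker ψ)) :=
    (LinearEquiv.toSpanNonzeroSingleton F _ _ he').symm.trans
      (LinearEquiv.toSpanNonzeroSingleton F _ _ hx')
  let k : LinearMap.ker φ ≃ₗ[F] LinearMap.ker ψ :=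
    (Submodule.prodEquivOfIsCompl _ _ hK₁).symm.trans
      ((LinearEquiv.prodCongr l (LinearEquiv.ofFinrankEq _ _ d1)).trans
        (Submodule.prodEquivOfIsCompl _ _ hK₂))
  obtain ⟨g, hg1, hg2⟩ := exists_equiv_line hf0 hy0 (isCompl_ker hf) (isCompl_ker hy) k
  refine ⟨g, ?_, fun v => ?_⟩
  · rw [show g e = (k ⟨e, hφe⟩ : V) from hg2 ⟨e, hφe⟩]
    have h3 : (Submodule.prodEquivOfIsCompl _ _ hK₁).symm (⟨e, hφe⟩ : LinearMap.ker φ) =
        (⟨⟨e, hφe⟩, Submodule.mem_span_singleton_self _⟩, 0) :=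
      Submodule.prodEquivOfIsCompl_symm_apply_left _ _ hK₁
        ⟨⟨e, hφe⟩, Submodule.mem_span_singleton_self _⟩
    have h4 : (LinearEquiv.toSpanNonzeroSingleton F _ _ he').symm
        ⟨⟨e, hφe⟩, Submodule.mem_span_singleton_self _⟩ = 1 := by
      rw [LinearEquiv.symm_apply_eq]; exact Subtype.ext (by simp)
    simp [k, l, h3, h4]
  · have hv : v - φ v • f ∈ LinearMap.ker φ := by simp [hf]
    have h3 : g v = φ v • y + (k ⟨_, hv⟩ : V) := by
      rw [← hg1, ← hg2 ⟨_, hv⟩, ← map_smul, ← map_add]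
      congr 1
      simp
    rw [h3, map_add, map_smul, hy, (k ⟨_, hv⟩).2]
    simp

theorem exists_sq (a : F) : ∃ c : F, c * c = a :=
  (FiniteField.isSquare_of_char_two (CharP.ringChar_of_prime_eq_zero Nat.prime_two
    (CharTwo.two_eq_zero (R := F))) a).imp fun _ h => h.symm

/-- some point with prescribed non-zero value outside the radical -/
theorem exists_value (hQ : IsQuad Q) {a b : V} (hab : pol Q a b ≠ 0) {s : F} (hs : s ≠ 0) :
    ∃ x, Q x = s ∧ ∃ y, pol Q y x ≠ 0 := by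
  have key : ∀ x : V, Q x ≠ 0 → (∃ y, pol Q y x ≠ 0) → ∃ x', Q x' = s ∧ ∃ y, pol Q y x' ≠ 0 := by
    rintro x hx ⟨y, hy⟩
    obtain ⟨c, hc⟩ := exists_sq (s / Q x)
    have hc0 : c ≠ 0 := by rintro rfl; rw [zero_mul] at hc; exact div_ne_zero hs hx hc.symm
    refine ⟨c • x, by rw [hQ.smul, hc, div_mul_cancel₀ s hx], y, ?_⟩
    rw [pol_comm, hQ.hsmul, pol_comm]
    exact mul_ne_zero hc0 hy
  by_cases ha : Q a = 0
  · by_cases hb : Q b = 0
    · refine key (a + b) (by rw [hQ.map_add, ha, hb]; simpa using hab) ⟨b, ?_⟩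
      rw [pol_comm, hQ.add, hQ.pol_self, add_zero]
      exact hab
    · exact key b hb ⟨a, hab⟩
  · exact key a ha ⟨b, by rwa [pol_comm]⟩

theorem layer_one (hQ : IsQuad Q) {a b : V} (hab : pol Q a b ≠ 0) {e : V} (he : e ≠ 0)
    {H : Submodule F V} (hH : IsCompl (F ∙ e) H) {s : F} (hs : s ≠ 0) {φ : H →ₗ[F] F}
    (hφ : φ ≠ 0) :
    ∃ Q₀ : V → F, IsQuad Q₀ ∧ orb F Q₀ ⊆ orb F Q ∧ Q₀ e = s ∧ ∀ h : H, pol Q₀ h e = φ h := by
  obtain ⟨x, hxs, y, hy⟩ := exists_value hQ hab hs
  have hx : x ≠ 0 := by rintro rfl; rw [hQ.map_zero] at hxs; exact hs hxs.symm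
  let Φ : V →ₗ[F] F := φ.comp (Submodule.projectionOnto H (F ∙ e) hH.symm)
  have hΦe : Φ e = 0 := by
    simp [Φ, Submodule.projectionOnto_apply_of_mem_right hH.symm (Submodule.mem_span_singleton_self e)]
  have hΦh : ∀ h : H, Φ h = φ h := fun h => by simp [Φ]
  have hΦ : Φ ≠ 0 := by
    intro h
    apply hφ
    ext h'
    rw [← hΦh, h]; rfl
  obtain ⟨g, hge, hg⟩ := exists_equiv_functional he hx hΦ
    (fun h => hy (DFunLike.congr_fun h y) : toDual hQ x ≠ 0) hΦe (hQ.pol_self x)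
  have hpol : ∀ u v, pol (fun w => Q (g w)) u v = pol Q (g u) (g v) := fun u v => by simp [pol]
  refine ⟨fun w => Q (g w), ⟨fun c v => by simp [hQ.smul], fun u v w => by simp [hpol, hQ.add],
    fun c u v => by simp [hpol, hQ.hsmul]⟩, ?_, by simp [hge, hxs], fun h => ?_⟩
  · rintro _ ⟨g', rfl⟩
    exact ⟨g'.trans g, rfl⟩
  · rw [hpol, hge, ← hΦh]
    exact hg h

omit [Fintype F] [CharP F 2] in
theorem exists_transvection {e : V} {θ : V →ₗ[F] F} (hθ : θ e = 0) :
    ∃ τ : V ≃ₗ[F] V, ∀ v, τ v = v + θ v • e := by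
  refine ⟨LinearEquiv.ofLinear (LinearMap.id + θ.smulRight e) (LinearMap.id - θ.smulRight e) ?_ ?_,
    fun v => rfl⟩
  · ext v; simp [hθ]
  · ext v; simp [hθ]

theorem card_dual (W : Type u) [AddCommGroup W] [Module F W] [FiniteDimensional F W] :
    Nat.card (W →ₗ[F] F) = Fintype.card F ^ Module.finrank F W := by
  rw [Module.natCard_eq_pow_finrank (K := F), Nat.card_eq_fintype_card, Subspace.dual_finrank_eq]

theorem layer_one_count (hQ : IsQuad Q) {a b : V} (hab : pol Q a b ≠ 0) {e : V} (he : e ≠ 0)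
    {H : Submodule F V} (hH : IsCompl (F ∙ e) H) :
    (Fintype.card F - 1) * (Fintype.card F ^ Module.finrank F H - 1) *
      Fintype.card F ^ Module.finrank F H ≤ 2 * Nat.card {Q' : orb F Q // Q'.1 e ≠ 0} := by
  classical
  haveI : Finite V := Module.finite_of_finite F
  haveI : Fintype V := Fintype.ofFinite V
  haveI : Finite (H →ₗ[F] F) := Module.finite_of_finite F
  haveI : Fintype (H →ₗ[F] F) := Fintype.ofFinite _
  choose Q₀ hQ₀ hsub hs₀ hrow using fun (p : {s : F // s ≠ 0} × {φ : H →ₗ[F] F // φ ≠ 0}) =>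
    layer_one hQ hab he hH p.1.2 p.2.2
  have hmap : ∀ (p : {s : F // s ≠ 0} × {φ : H →ₗ[F] F // φ ≠ 0}) (θ : H →ₗ[F] F),
      ∃ Q' : {Q' : orb F Q // Q'.1 e ≠ 0}, Q'.1.1 e = p.1.1 ∧
        (∀ h : H, pol Q'.1.1 h e = p.2.1 h) ∧
        ∀ h : H, Q'.1.1 h = Q₀ p h + θ h * θ h * p.1.1 + θ h * p.2.1 h := by
    intro p θ
    let Θ : V →ₗ[F] F := θ.comp (Submodule.projectionOnto H (F ∙ e) hH.symm)
    have hΘe : Θ e = 0 := by
      simp [Θ, Submodule.projectionOnto_apply_of_mem_right hH.symm (Submodule.mem_span_singleton_self e)]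
    obtain ⟨τ, hτ⟩ := exists_transvection hΘe
    have hτe : τ e = e := by rw [hτ, hΘe, zero_smul, add_zero]
    have hτh : ∀ h : H, τ h = (h : V) + θ h • e := fun h => by rw [hτ]; simp [Θ]
    have hq := hQ₀ p
    have hval : ∀ h : H, Q₀ p (τ h) = Q₀ p h + θ h * θ h * p.1.1 + θ h * p.2.1 h := fun h => by
      rw [hτh, hq.map_add, hq.smul, hs₀, pol_comm, hq.hsmul, pol_comm, hrow]
    have hmem : (fun v => Q₀ p (τ v)) ∈ orb F Q := hsub p ⟨τ, rfl⟩
    refine ⟨⟨⟨_, hmem⟩, ?_⟩, ?_, fun h => ?_, hval⟩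
    · show Q₀ p (τ e) ≠ 0
      rw [hτe, hs₀]; exact p.1.2
    · show Q₀ p (τ e) = _
      rw [hτe, hs₀]
    · show Q₀ p (τ (↑h + e)) - Q₀ p (τ h) - Q₀ p (τ e) = _
      rw [map_add, hτe]
      show pol (Q₀ p) (τ h) e = _
      rw [hτh, hq.add, hq.hsmul, hq.pol_self, hrow, mul_zero, add_zero]
  choose Φ hΦe hΦp hΦh using hmap
  let S : Finset (({s : F // s ≠ 0} × {φ : H →ₗ[F] F // φ ≠ 0}) × (H →ₗ[F] F)) := Finset.univ
  have hfib : ∀ c ∈ S.image (fun x => Φ x.1 x.2), (S.filter (fun x => Φ x.1 x.2 = c)).card ≤ 2 := by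
    intro c hc
    obtain ⟨⟨p, θ⟩, -, rfl⟩ := Finset.mem_image.mp hc
    refine (Finset.card_le_card (?_ : _ ⊆ ({(p, θ), (p, θ + p.1.1⁻¹ • p.2.1)} : Finset _))).trans
      Finset.card_le_two
    rintro ⟨p', θ'⟩ hp'
    have hQQ : (Φ p' θ').1.1 = (Φ p θ).1.1 := congrArg (fun z => z.1.1) (Finset.mem_filter.mp hp').2
    obtain rfl : p' = p := by
      refine Prod.ext (Subtype.ext ?_) (Subtype.ext (LinearMap.ext fun h => ?_))
      · rw [← hΦe p' θ', hQQ, hΦe]
      · rw [← hΦp p' θ' h, hQQ, hΦp]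
    have hprod : ∀ h : H, (θ' - θ) h * ((θ' - θ) h * p'.1.1 + p'.2.1 h) = 0 := by
      intro h
      have h1 := hΦh p' θ' h
      rw [hQQ, hΦh] at h1
      simp only [LinearMap.sub_apply]
      linear_combination -h1 + (-(θ h * θ' h * p'.1.1) + θ h * θ h * p'.1.1) *
        (CharTwo.two_eq_zero : (2 : F) = 0)
    have hor : θ' - θ = 0 ∨ p'.1.1 • (θ' - θ) + p'.2.1 = 0 := by
      by_contra hn
      push Not at hn
      obtain ⟨u, hu⟩ : ∃ u, (θ' - θ) u ≠ 0 := by
        by_contra h; push Not at h; exact hn.1 (LinearMap.ext h)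
      obtain ⟨v, hv⟩ : ∃ v, (p'.1.1 • (θ' - θ) + p'.2.1) v ≠ 0 := by
        by_contra h; push Not at h; exact hn.2 (LinearMap.ext h)
      have e1 := (mul_eq_zero.mp (hprod u)).resolve_left hu
      have e2 : (θ' - θ) v = 0 := (mul_eq_zero.mp (hprod v)).resolve_right (by
        simpa [mul_comm] using hv)
      have e3 := hprod (u + v)
      simp only [map_add, e2, add_zero] at e3
      rcases mul_eq_zero.mp e3 with h | h
      · exact hu h
      · apply hv
        simp only [LinearMap.add_apply, LinearMap.smul_apply, smul_eq_mul]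
        rw [mul_comm] at e1
        linear_combination h - e1 + p'.1.1 * e2
    rcases hor with h | h
    · simp [sub_eq_zero.mp h]
    · have h2 : θ' = θ + p'.1.1⁻¹ • p'.2.1 := by
        ext u
        have hu := DFunLike.congr_fun h u
        simp only [LinearMap.add_apply, LinearMap.smul_apply, LinearMap.sub_apply, smul_eq_mul,
          LinearMap.zero_apply] at hu ⊢
        have hi : p'.1.1⁻¹ * p'.1.1 = 1 := inv_mul_cancel₀ p'.1.2
        linear_combination p'.1.1⁻¹ * hu - (θ' u - θ u) * hi -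
          (p'.1.1⁻¹ * p'.2.1 u) * (CharTwo.two_eq_zero : (2 : F) = 0)
      simp [h2]
  have h := Finset.card_le_mul_card_image S 2 hfib
  have hle : (S.image (fun x => Φ x.1 x.2)).card ≤ Nat.card {Q' : orb F Q // Q'.1 e ≠ 0} := by
    haveI : Fintype {Q' : orb F Q // Q'.1 e ≠ 0} := Fintype.ofFinite _
    rw [Nat.card_eq_fintype_card]
    exact Finset.card_le_univ _
  have hS : S.card = (Fintype.card F - 1) * (Fintype.card F ^ Module.finrank F H - 1) *
      Fintype.card F ^ Module.finrank F H := by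
    have h1 : Fintype.card (H →ₗ[F] F) = Fintype.card F ^ Module.finrank F H := by
      rw [← Nat.card_eq_fintype_card, card_dual]
    simp only [S, Finset.card_univ, Fintype.card_prod, Fintype.card_subtype_compl,
      Fintype.card_subtype_eq, h1]
  omega

theorem layer_two_count (hQ : IsQuad Q) {e : V} (he : e ≠ 0) {H : Submodule F V}
    (hH : IsCompl (F ∙ e) H) {z : V} (hz : z ≠ 0) (hzz : Q z = 0) {H₀ : Submodule F V}
    (hH₀ : IsCompl (F ∙ z) H₀) (k : H ≃ₗ[F] H₀) :
    Nat.card (orb F (fun a : H => Q (k a))) ≤ Nat.card {Q' : orb F Q // Q'.1 e = 0} := by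
  haveI : Finite V := Module.finite_of_finite F
  have hl : ∀ C : orb F (fun a : H => Q (k a)), ∃ Q' : {Q' : orb F Q // Q'.1 e = 0},
      ∀ a : H, Q'.1.1 a = C.1 a := by
    rintro ⟨C, g, rfl⟩
    obtain ⟨G, hGe, hG⟩ := exists_equiv_line he hz hH hH₀ (g.trans k)
    exact ⟨⟨⟨_, G, rfl⟩, by show Q (G e) = 0; rw [hGe, hzz]⟩,
      fun a => by show Q (G a) = _; rw [hG]; rfl⟩
  choose Φ hΦ using hl
  refine Nat.card_le_card_of_injective Φ (fun C C' h => Subtype.ext ?_)
  funext a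
  rw [← hΦ C, ← hΦ C', h]

theorem exists_singular (hQ : IsQuad Q) (hd : 3 ≤ Module.finrank F V) :
    ∃ z, z ≠ 0 ∧ Q z = 0 := by
  obtain ⟨x, hx⟩ : ∃ x : V, x ≠ 0 :=
    haveI : Nontrivial V := Module.nontrivial_of_finrank_pos (R := F) (by omega)
    exists_ne 0
  by_cases hQx : Q x = 0
  · exact ⟨x, hx, hQx⟩
  obtain ⟨y, hy, hyx⟩ : ∃ y, y ∈ LinearMap.ker (toDual hQ x) ∧ y ∉ F ∙ x := by
    by_contra hc
    push Not at hc
    have h1 := Submodule.finrank_mono (show LinearMap.ker (toDual hQ x) ≤ F ∙ x from hc)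
    rw [finrank_span_singleton hx] at h1
    have h2 := LinearMap.finrank_range_add_finrank_ker (toDual hQ x)
    have h3 : Module.finrank F (LinearMap.range (toDual hQ x)) ≤ 1 := by
      simpa using Submodule.finrank_le (LinearMap.range (toDual hQ x))
    omega
  obtain ⟨c, hc⟩ := exists_sq (Q y / Q x)
  refine ⟨c • x + y, fun h => hyx ?_, ?_⟩
  · rw [eq_neg_of_add_eq_zero_right h]
    exact Submodule.neg_mem _ (Submodule.smul_mem _ _ (Submodule.mem_span_singleton_self x))
  · have hp : pol Q x y = 0 := by rw [pol_comm]; exact hy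
    rw [hQ.map_add, hQ.smul, hQ.hsmul, hp, hc, div_mul_cancel₀ _ hQx, mul_zero, add_zero,
      CharTwo.add_self_eq_zero]

theorem exists_compl_pol (hQ : IsQuad Q) (hd : 3 ≤ Module.finrank F V) {a b z : V}
    (hab : pol Q a b ≠ 0) (hz : z ≠ 0) :
    ∃ H₀ : Submodule F V, IsCompl (F ∙ z) H₀ ∧ ∃ u v : H₀, pol Q (u : V) v ≠ 0 := by
  obtain ⟨H₁, hH₁⟩ := Submodule.exists_isCompl (F ∙ z)
  by_cases hall : ∃ u v : H₁, pol Q (u : V) v ≠ 0
  · exact ⟨H₁, hH₁, hall⟩
  push Not at hall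
  obtain ⟨u, hu⟩ : ∃ u : H₁, pol Q z u ≠ 0 := by
    by_contra hc
    push Not at hc
    apply hab
    obtain ⟨a₁, a₂, rfl, -⟩ := Submodule.existsUnique_add_of_isCompl hH₁ a
    obtain ⟨b₁, b₂, rfl, -⟩ := Submodule.existsUnique_add_of_isCompl hH₁ b
    obtain ⟨r, hr⟩ := Submodule.mem_span_singleton.mp a₁.2
    obtain ⟨s, hs⟩ := Submodule.mem_span_singleton.mp b₁.2
    rw [← hr, ← hs, hQ.add, pol_comm Q (r • z), pol_comm Q (a₂ : V), hQ.add, hQ.add, hQ.hsmul,
      hQ.hsmul, pol_comm Q z (r • z), hQ.hsmul, hQ.pol_self, pol_comm Q (b₂ : V) (r • z), hQ.hsmul, hc,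
      hc, hall]
    ring
  obtain ⟨u', hu'⟩ : ∃ u' : H₁, u' ∉ F ∙ u := by
    by_contra hc
    push Not at hc
    have h1 : Module.finrank F (F ∙ u) ≤ 1 := by simpa using finrank_span_le_card ({u} : Set H₁)
    rw [Submodule.eq_top_iff'.mpr hc, finrank_top] at h1
    have := finrank_compl hz hH₁
    omega
  have hznot : z ∉ Submodule.span F {(u : V), (u' : V) + z} := by
    rw [Submodule.mem_span_pair]
    rintro ⟨r, s, hrs⟩
    have hmem : (1 - s) • z ∈ H₁ := by
      have e : (1 - s) • z = r • (u : V) + s • (u' : V) := by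
        rw [sub_smul, one_smul]; nth_rewrite 1 [← hrs]; rw [smul_add]; abel
      rw [e]
      exact add_mem (H₁.smul_mem _ u.2) (H₁.smul_mem _ u'.2)
    have h0 : (1 - s) • z = 0 := Submodule.disjoint_def.mp hH₁.disjoint _
      (Submodule.smul_mem _ _ (Submodule.mem_span_singleton_self z)) hmem
    obtain rfl : s = 1 := (sub_eq_zero.mp ((smul_eq_zero.mp h0).resolve_right hz)).symm
    apply hu'
    rw [Submodule.mem_span_singleton]
    refine ⟨-r, Subtype.ext ?_⟩
    rw [one_smul, ← add_assoc] at hrs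
    have h3 : r • (u : V) + (u' : V) = 0 := by simpa using hrs
    simp only [Submodule.coe_smul, neg_smul]
    exact neg_eq_of_add_eq_zero_right h3
  obtain ⟨f, hf, hf'⟩ := Submodule.exists_dual_map_eq_bot_of_notMem hznot inferInstance
  have hker : ∀ w ∈ Submodule.span F {(u : V), (u' : V) + z}, ((f z)⁻¹ • f) w = 0 := by
    intro w hw
    have : f w ∈ Submodule.map f (Submodule.span F {(u : V), (u' : V) + z}) :=
      Submodule.mem_map_of_mem hw
    rw [hf', Submodule.mem_bot] at this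
    simp [this]
  refine ⟨LinearMap.ker ((f z)⁻¹ • f), isCompl_ker (by simp [inv_mul_cancel₀ hf]),
    ⟨(u : V), hker _ (Submodule.subset_span (by simp))⟩,
    ⟨(u' : V) + z, hker _ (Submodule.subset_span (by simp))⟩, ?_⟩
  show pol Q (u : V) ((u' : V) + z) ≠ 0
  rw [pol_comm, hQ.add, hall, zero_add]
  exact hu

theorem orbit_bound : ∀ (n : ℕ) (V : Type u) [AddCommGroup V] [Module F V]
    [FiniteDimensional F V], Module.finrank F V = n → ∀ (Q : V → F), IsQuad Q →
    ∀ a b : V, pol Q a b ≠ 0 →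
    ∑ i ∈ Finset.range n, (Fintype.card F - 1) * (Fintype.card F ^ i - 1) * Fintype.card F ^ i
      ≤ 2 * Nat.card (orb F Q) := by
  intro n
  induction n with
  | zero => intros; simp
  | succ n ih =>
    intro V _ _ _ hn Q hQ a b hab
    haveI : Finite V := Module.finite_of_finite F
    have ha0 : a ≠ 0 := by rintro rfl; exact hab (hQ.pol_zero b)
    obtain ⟨H, hH⟩ := Submodule.exists_isCompl (F ∙ a)
    have hHn : Module.finrank F H = n := by have := finrank_compl ha0 hH; omega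
    have hsplit : Nat.card (orb F Q) = Nat.card {Q' : orb F Q // Q'.1 a ≠ 0} +
        Nat.card {Q' : orb F Q // Q'.1 a = 0} := by
      classical
      rw [← Nat.card_congr (Equiv.sumCompl (fun Q' : orb F Q => Q'.1 a = 0)), Nat.card_sum,
        add_comm]
    have h1 := layer_one_count hQ hab ha0 hH
    rw [hHn] at h1
    rw [Finset.sum_range_succ, hsplit]
    by_cases h3 : 2 ≤ n
    · obtain ⟨z, hz, hzz⟩ := exists_singular hQ (by omega)
      obtain ⟨H₀, hH₀, u, v, huv⟩ := exists_compl_pol hQ (by omega) hab hz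
      have hk : Module.finrank F H = Module.finrank F H₀ := by
        have := finrank_compl hz hH₀; omega
      let k : H ≃ₗ[F] H₀ := LinearEquiv.ofFinrankEq _ _ hk
      have hpol : ∀ x y : H, pol (fun c : H => Q (k c)) x y = pol Q (k x : V) (k y) := fun x y => by
        simp [pol]
      have hQ' : IsQuad (fun c : H => Q (k c)) :=
        ⟨fun c x => by simp [hQ.smul], fun x y w => by simp [hpol, hQ.add],
          fun c x y => by simp [hpol, hQ.hsmul]⟩
      have h2 := ih H hHn _ hQ' (k.symm u) (k.symm v) (by simpa [hpol] using huv)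
      have h4 := layer_two_count hQ ha0 hH hz hzz hH₀ k
      omega
    · have : ∑ i ∈ Finset.range n,
          (Fintype.card F - 1) * (Fintype.card F ^ i - 1) * Fintype.card F ^ i = 0 := by
        apply Finset.sum_eq_zero
        intro i hi
        obtain rfl : i = 0 := by have := Finset.mem_range.mp hi; omega
        simp
      omega

end Cfsg.Agent.CrossChar56.QuadOrbit
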