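import Cfsg.Agent.CrossChar56.Idem
import Mathlib.LinearAlgebra.SymplecticGroup
import Mathlib.Data.Fintype.Pi

set_option autoImplicit false

namespace Cfsg.Agent.CrossChar56

open Matrix

variable {F : Type*} [Field F] {m : ℕ}

/-- symmetric matrix supported on the first row and column -/
def symS (a : Fin (m + 1) → F) : Matrix (Fin (m + 1)) (Fin (m + 1)) F :=
  vecMulVec (Pi.single 0 1) a + vecMulVec a (Pi.single 0 1) -
    a 0 • vecMulVec (Pi.single 0 1) (Pi.single 0 1)

theorem symS_transpose (a : Fin (m + 1) → F) : (symS a)ᵀ = symS a := by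
  simp [symS, transpose_vecMulVec, add_comm]

theorem symS_add (a b : Fin (m + 1) → F) : symS (a + b) = symS a + symS b := by
  simp only [symS, vecMulVec_add, add_vecMulVec, Pi.add_apply, add_smul]
  abel

theorem symS_zero : symS (0 : Fin (m + 1) → F) = 0 := by
  ext i j; simp [symS, vecMulVec_apply]

theorem conj_vecMulVec {n : Type*} [Fintype n] (g : Matrix n n F) (u v : n → F) :
    g * vecMulVec u v * gᵀ = vecMulVec (g *ᵥ u) (g *ᵥ v) := by
  rw [mul_vecMulVec, vecMulVec_mul, vecMul_transpose]

theorem conj_symS (g : Matrix (Fin (m + 1)) (Fin (m + 1)) F) (a : Fin (m + 1) → F) :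
    g * symS a * gᵀ = vecMulVec (g *ᵥ Pi.single 0 1) (g *ᵥ a) +
      vecMulVec (g *ᵥ a) (g *ᵥ Pi.single 0 1) -
      a 0 • vecMulVec (g *ᵥ Pi.single 0 1) (g *ᵥ Pi.single 0 1) := by
  simp only [symS, mul_add, add_mul, mul_sub, sub_mul, mul_smul_comm, smul_mul_assoc, conj_vecMulVec]

theorem siegel_mem (a : Fin (m + 1) → F) :
    fromBlocks 1 (symS a) 0 1 ∈ symplecticGroup (Fin (m + 1)) F := by
  rw [SymplecticGroup.mem_iff]
  simp [Matrix.J, fromBlocks_multiply, fromBlocks_transpose, symS_transpose]

/-- the abelian subgroup -/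
def siegelX (a : Fin (m + 1) → F) : symplecticGroup (Fin (m + 1)) F :=
  ⟨fromBlocks 1 (symS a) 0 1, siegel_mem a⟩

theorem siegelX_add (a b : Fin (m + 1) → F) : siegelX (a + b) = siegelX a * siegelX b := by
  apply Subtype.ext
  rw [Submonoid.coe_mul]
  simp only [siegelX]
  simp [fromBlocks_multiply, symS_add, add_comm]

theorem siegelX_zero : siegelX (0 : Fin (m + 1) → F) = 1 := by
  apply Subtype.ext
  simp only [siegelX]
  simp [symS_zero, fromBlocks_one]

/-- the Levi element -/
def levi (g : GL (Fin (m + 1)) F) : symplecticGroup (Fin (m + 1)) F :=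
  ⟨fromBlocks (g : Matrix (Fin (m + 1)) (Fin (m + 1)) F) 0 0
    ((g⁻¹ : GL (Fin (m + 1)) F) : Matrix (Fin (m + 1)) (Fin (m + 1)) F)ᵀ, by
    rw [SymplecticGroup.mem_iff]
    simp [Matrix.J, fromBlocks_multiply, fromBlocks_transpose, ← transpose_mul]⟩

theorem levi_mul (g : GL (Fin (m + 1)) F) {a b : Fin (m + 1) → F}
    (h : (g : Matrix (Fin (m + 1)) (Fin (m + 1)) F) * symS a *
      (g : Matrix (Fin (m + 1)) (Fin (m + 1)) F)ᵀ = symS b) :
    levi g * siegelX a = siegelX b * levi g := by
  apply Subtype.ext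
  rw [Submonoid.coe_mul, Submonoid.coe_mul]
  simp only [siegelX, levi]
  simp [fromBlocks_multiply, ← h, Matrix.mul_assoc, ← transpose_mul]

theorem siegelX_not_central :
    siegelX (Pi.single 0 1 : Fin (m + 1) → F) ∉
      Subgroup.center (symplecticGroup (Fin (m + 1)) F) := by
  intro hc
  have h := congrArg Subtype.val (Subgroup.mem_center_iff.mp hc
    ⟨Matrix.J (Fin (m + 1)) F, SymplecticGroup.J_mem _ _⟩)
  simp only [Submonoid.coe_mul, siegelX] at h
  simp only [Matrix.J, fromBlocks_multiply] at h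
  have h2 := congrFun (congrFun (fromBlocks_inj.mp h).2.2.2 0) 0
  simp [symS, vecMulVec_apply] at h2

variable [Fintype F] {K : Type*} [Field K] {d : ℕ}

theorem sp_degree_bound (hodd : Odd (Fintype.card F)) (hK : ringChar K ≠ ringChar F)
    (ρ : symplecticGroup (Fin (m + 1)) F →* GL (Fin d) K)
    (hker : ρ.ker ≤ Subgroup.center (symplecticGroup (Fin (m + 1)) F)) :
    Fintype.card F ^ m * (Fintype.card F - 1) / 2 ≤ d := by
  classical
  have h2 : (2 : F) ≠ 0 := Ring.two_ne_zero (by
    intro h
    have := FiniteField.even_card_iff_char_two.mp h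
    rw [Nat.odd_iff] at hodd
    omega)
  obtain ⟨K', _, f, ψ, hψ, hcard⟩ := exists_ext F K hK
  have hinj : Function.Injective (Units.map f.mapMatrix.toMonoidHom :
      GL (Fin d) K → GL (Fin d) K') := by
    intro x y hxy
    apply Units.ext
    exact Matrix.map_injective f.injective (congrArg Units.val hxy)
  let σ : symplecticGroup (Fin (m + 1)) F →* GL (Fin d) K' :=
    (Units.map f.mapMatrix.toMonoidHom).comp ρ
  let R : (Fin (m + 1) → F) → Matrix (Fin d) (Fin d) K' :=
    fun a => (σ (siegelX a) : Matrix (Fin d) (Fin d) K')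
  have hR : ∀ a b, R (a + b) = R a * R b := fun a b => by simp [R, siegelX_add]
  have hR0 : R 0 = 1 := by simp [R, siegelX_zero]
  have hc : (Fintype.card (Fin (m + 1) → F) : K') ≠ 0 := by
    rw [Fintype.card_fun, Nat.cast_pow]; exact pow_ne_zero _ hcard
  have hone : R (Pi.single 0 1) ≠ 1 := by
    intro h
    apply siegelX_not_central (F := F) (m := m)
    apply hker
    rw [MonoidHom.mem_ker]
    apply hinj
    rw [map_one]
    exact Units.ext h
  obtain ⟨v, hv, hvd⟩ := exists_proj_ne hψ hR0 hR hc hone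
  have hv0 : v 0 ≠ 0 := by simpa using hvd
  have move : ∀ (g : GL (Fin (m + 1)) F) (φ : (Fin (m + 1) → F) → Fin (m + 1) → F),
      Function.Injective φ →
      (∀ a, (g : Matrix (Fin (m + 1)) (Fin (m + 1)) F) * symS a *
        (g : Matrix (Fin (m + 1)) (Fin (m + 1)) F)ᵀ = symS (φ a)) →
      ∀ {x w : Fin (m + 1) → F}, (∀ a, w ⬝ᵥ φ a = x ⬝ᵥ a) →
        proj ψ R x ≠ 0 → proj ψ R w ≠ 0 := by
    intro g φ hφ hg x w hxw hx
    refine proj_ne_transfer (σ (levi g)) φ (Finite.injective_iff_bijective.mp hφ) (fun a => ?_) hxw hx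
    simp only [R]
    rw [← Units.val_mul, ← map_mul, levi_mul g (hg a), map_mul, Units.val_mul]
  -- translations
  have trans : ∀ w : Fin (m + 1) → F, w 0 = v 0 → proj ψ R w ≠ 0 := by
    intro w hw
    let y : Fin (m + 1) → F := (2 * v 0)⁻¹ • (v - w)
    have hy0 : y 0 = 0 := by simp [y, hw]
    let G : Matrix (Fin (m + 1)) (Fin (m + 1)) F := 1 + vecMulVec (Pi.single 0 1) y
    have hG : ∀ u, G *ᵥ u = u + (y ⬝ᵥ u) • Pi.single 0 1 := by
      intro u
      simp [G, add_mulVec, vecMulVec_mulVec]
    have hdet : G.det = 1 := by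
      simp only [G, vecMulVec_eq Unit, det_one_add_replicateCol_mul_replicateRow, dotProduct_single,
        hy0]
      simp
    let φ : (Fin (m + 1) → F) → (Fin (m + 1) → F) :=
      fun a => a + (2 * (y ⬝ᵥ a)) • Pi.single 0 1
    refine move (G.nonsingInvUnit (by rw [hdet]; exact isUnit_one)) φ ?_ ?_ ?_ hv
    · intro a b hab
      have h1 := congrArg (fun u => y ⬝ᵥ u) hab
      simp [φ, dotProduct_add, hy0] at h1
      simpa [φ, h1] using hab
    · intro a
      show G * symS a * Gᵀ = symS (φ a)
      rw [conj_symS, hG, hG]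
      ext i j
      simp [symS, φ, vecMulVec_apply, hy0]
      ring
    · intro a
      have hwy : (2 * w 0) • y = v - w := by
        simp only [y, hw, smul_smul]
        rw [mul_inv_cancel₀ (mul_ne_zero h2 hv0), one_smul]
      have := congrArg (fun u => u ⬝ᵥ a) hwy
      simp [smul_dotProduct, sub_dotProduct] at this
      simp [φ, dotProduct_add, dotProduct_smul]
      linear_combination this
  -- torus
  have torus : ∀ (t : F), t ≠ 0 → ∀ w : Fin (m + 1) → F, w 0 = v 0 / (t * t) →
      proj ψ R w ≠ 0 := by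
    intro t ht w hw
    let c : Fin (m + 1) → F := Function.update (fun _ => (1 : F)) 0 t
    let u : Fin (m + 1) → F := fun i => t * c i * w i
    have hu : u 0 = v 0 := by simp [u, c, hw]; field_simp
    have hdet : IsUnit (Matrix.diagonal c).det := by
      rw [det_diagonal, isUnit_iff_ne_zero, Finset.prod_ne_zero_iff]
      intro i _
      simp only [c, Function.update_apply]
      split <;> simp [ht]
    refine move ((Matrix.diagonal c).nonsingInvUnit hdet) (fun a i => t * c i * a i) ?_ ?_ ?_
      (trans u hu)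
    · intro a b hab
      funext i
      have h1 := congrFun hab i
      refine mul_left_cancel₀ (mul_ne_zero ht ?_) h1
      simp only [c, Function.update_apply]
      split <;> simp [ht]
    · intro a
      show Matrix.diagonal c * symS a * (Matrix.diagonal c)ᵀ = _
      rw [conj_symS]
      ext i j
      by_cases hi : i = 0 <;> by_cases hj : j = 0 <;>
        simp [symS, vecMulVec_apply, mulVec_diagonal, c, hi, hj, Pi.single_apply] <;> ring
    · intro a
      simp only [dotProduct, u]
      exact Finset.sum_congr rfl fun i _ => by ring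
  let Sq : Finset F := (Finset.univ.erase (0 : F)).image (fun t => v 0 / (t * t))
  have hSq : Fintype.card F - 1 ≤ 2 * Sq.card := by
    rw [← Finset.card_univ, ← Finset.card_erase_of_mem (Finset.mem_univ (0 : F))]
    refine Finset.card_le_mul_card_image _ 2 (fun b hb => ?_)
    obtain ⟨t, ht, rfl⟩ := Finset.mem_image.mp hb
    refine (Finset.card_le_card (?_ : _ ⊆ ({t, -t} : Finset F))).trans Finset.card_le_two
    intro s hs
    simp only [Finset.mem_filter, Finset.mem_erase] at hs ht
    have h3 : s * s = t * t := by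
      have := hs.2
      rw [div_eq_div_iff (mul_ne_zero hs.1.1 hs.1.1) (mul_ne_zero ht.1 ht.1)] at this
      exact (mul_left_cancel₀ hv0 this).symm
    rcases mul_self_eq_mul_self_iff.mp h3 with h | h <;> simp [h]
  have hcount := card_le_dim hψ hR hc
    (Fintype.piFinset (fun i : Fin (m + 1) => if i = 0 then Sq else Finset.univ))
    (fun w hw => by
      have h0 := Fintype.mem_piFinset.mp hw 0
      simp only [if_true, Sq, Finset.mem_image, Finset.mem_erase] at h0
      obtain ⟨t, ⟨ht, -⟩, htw⟩ := h0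
      exact torus t ht w htw.symm)
  rw [Fintype.card_piFinset, Fin.prod_univ_succ] at hcount
  simp [Fin.succ_ne_zero] at hcount
  calc Fintype.card F ^ m * (Fintype.card F - 1) / 2
      ≤ Fintype.card F ^ m * (2 * Sq.card) / 2 := Nat.div_le_div_right (Nat.mul_le_mul_left _ hSq)
    _ = Sq.card * Fintype.card F ^ m := by
      rw [mul_comm (Fintype.card F ^ m), mul_assoc, Nat.mul_div_cancel_left _ (by norm_num)]
    _ ≤ d := hcount

end Cfsg.Agent.CrossChar56
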