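import Cfsg.Agent.CrossChar56.Common
import Cfsg.Agent.CrossChar56.Sp
import Cfsg.Agent.CrossChar56.HermOrbit
import Cfsg.Agent.CrossChar56.QuadOrbit
import Cfsg.Agent.Lib.Symplectic.Simple

set_option autoImplicit false

namespace Cfsg.Agent.CrossChar56.SpBound

open Matrix

variable {F : Type*} [Field F] {n : ℕ}

/-- symmetric matrices -/
def Sym (n : ℕ) (F : Type*) [Field F] : AddSubgroup (Matrix (Fin n) (Fin n) F) where
  carrier := {S | Sᵀ = S}
  add_mem' {a b} ha hb := by
    show (a + b)ᵀ = a + b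
    rw [transpose_add, ha, hb]
  zero_mem' := transpose_zero
  neg_mem' {a} ha := by
    show (-a)ᵀ = -a
    rw [transpose_neg, ha]

/-- the Siegel subgroup -/
def sieg (S : Sym n F) : symplecticGroup (Fin n) F :=
  ⟨fromBlocks 1 S.1 0 1, by
    have h : S.1ᵀ = S.1 := S.2
    rw [SymplecticGroup.mem_iff]
    simp [Matrix.J, fromBlocks_multiply, fromBlocks_transpose, h]⟩

theorem sieg_add (a b : Sym n F) : sieg (a + b) = sieg a * sieg b := by
  apply Subtype.ext
  rw [Submonoid.coe_mul]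
  simp only [sieg]
  simp [fromBlocks_multiply, add_comm]

theorem sieg_zero : sieg (0 : Sym n F) = 1 := by
  apply Subtype.ext
  simp only [sieg]
  simp [fromBlocks_one]

/-- congruence action of an invertible matrix on symmetric matrices -/
def cong (M : Matrix (Fin n) (Fin n) F) (S : Sym n F) : Sym n F :=
  ⟨M * S.1 * Mᵀ, by
    have h : S.1ᵀ = S.1 := S.2
    show (M * S.1 * Mᵀ)ᵀ = M * S.1 * Mᵀ
    rw [transpose_mul, transpose_mul, transpose_transpose, h, Matrix.mul_assoc]⟩

/-- the Levi element -/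
def lev (g : GL (Fin n) F) : symplecticGroup (Fin n) F :=
  ⟨fromBlocks (g : Matrix (Fin n) (Fin n) F) 0 0
    ((g⁻¹ : GL (Fin n) F) : Matrix (Fin n) (Fin n) F)ᵀ, by
    rw [SymplecticGroup.mem_iff]
    simp [Matrix.J, fromBlocks_multiply, fromBlocks_transpose, ← transpose_mul]⟩

theorem lev_mul (g : GL (Fin n) F) (S : Sym n F) :
    lev g * sieg S = sieg (cong (g : Matrix (Fin n) (Fin n) F) S) * lev g := by
  apply Subtype.ext
  rw [Submonoid.coe_mul, Submonoid.coe_mul]
  simp only [sieg, lev, cong]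
  simp [fromBlocks_multiply, Matrix.mul_assoc, ← transpose_mul]

theorem sieg_not_central {S : Sym n F} (hS : S ≠ 0) :
    sieg S ∉ Subgroup.center (symplecticGroup (Fin n) F) := by
  intro hc
  have h := congrArg Subtype.val (Subgroup.mem_center_iff.mp hc
    ⟨Matrix.J (Fin n) F, SymplecticGroup.J_mem _ _⟩)
  simp only [Submonoid.coe_mul, sieg] at h
  simp only [Matrix.J, fromBlocks_multiply] at h
  have h2 := (fromBlocks_inj.mp h).2.2.2
  simp at h2
  exact hS h2

/-- rank one element `c • x xᵀ` -/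
def rk1 (c : F) (x : Fin n → F) : Sym n F :=
  ⟨c • vecMulVec x x, by
    show (c • vecMulVec x x)ᵀ = _
    rw [transpose_smul, transpose_vecMulVec]⟩

/-- rank two element `c • (x yᵀ + y xᵀ)` -/
def rk2 (c : F) (x y : Fin n → F) : Sym n F :=
  ⟨c • (vecMulVec x y + vecMulVec y x), by
    show (c • (vecMulVec x y + vecMulVec y x))ᵀ = _
    rw [transpose_smul, transpose_add, transpose_vecMulVec, transpose_vecMulVec, add_comm]⟩

/-- rank one character as a character of `F` -/
def lineChar (χ : AddChar (Sym n F) ℂ) (x : Fin n → F) : AddChar F ℂ :=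
  χ.compAddMonoidHom (AddMonoidHom.mk' (fun c => rk1 c x) (fun a b => Subtype.ext (add_smul a b _)))

/-- rank two character as a character of `F` -/
def pairChar (χ : AddChar (Sym n F) ℂ) (x y : Fin n → F) : AddChar F ℂ :=
  χ.compAddMonoidHom (AddMonoidHom.mk' (fun c => rk2 c x y) (fun a b => Subtype.ext (add_smul a b _)))

variable [Fintype F]

/-- Data: a non-degenerate dictionary between characters of symmetric matrices and forms. -/
structure Dict (n : ℕ) (F : Type*) [Field F] where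
  q : AddChar (Sym n F) ℂ → (Fin n → F) → F
  B : AddChar (Sym n F) ℂ → (Fin n → F) → (Fin n → F) → F
  q_smul : ∀ χ (a : F) x, q χ (a • x) = a * a * q χ x
  q_add : ∀ χ x y, q χ (x + y) = q χ x + q χ y + B χ x y
  B_add : ∀ χ x y z, B χ (x + y) z = B χ x z + B χ y z
  B_smul : ∀ χ (a : F) x y, B χ (a • x) y = a * B χ x y
  B_symm : ∀ χ x y, B χ y x = B χ x y
  q_zero : ∀ χ x, q χ x = 0 → χ (rk1 1 x) = 1
  B_zero : ∀ χ x y, B χ x y = 0 → χ (rk2 1 x y) = 1
  equivariant : ∀ χ φ (M : Matrix (Fin n) (Fin n) F), (∀ S, φ (cong M S) = χ S) →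
    ∀ x, q φ (M *ᵥ x) = q χ x

theorem exists_dict (n : ℕ) (F : Type*) [Field F] [Fintype F] : Nonempty (Dict n F) := by
  obtain ⟨ψ₁, hψ₁⟩ := AddChar.exists_apply_ne_zero.mpr (one_ne_zero : (1 : F) ≠ 0)
  have hψ : ψ₁.IsPrimitive := AddChar.IsPrimitive.of_ne_one (AddChar.ne_one_iff.mpr ⟨1, hψ₁⟩)
  obtain ⟨θ, hθ⟩ := exists_shift hψ
  have hθ0 : ∀ φ : AddChar F ℂ, θ φ = 0 → φ 1 = 1 := fun φ h => by rw [hθ φ 1, h]; simp
  refine ⟨⟨fun χ x => θ (lineChar χ x), fun χ x y => θ (pairChar χ x y),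
    ?_, ?_, ?_, ?_, ?_, ?_, ?_, ?_⟩⟩
  · intro χ a x
    apply shift_inj hψ
    intro c
    rw [← hθ, show a * a * θ (lineChar χ x) * c = θ (lineChar χ x) * (a * a * c) by ring, ← hθ]
    simp only [lineChar, AddChar.compAddMonoidHom_apply, AddMonoidHom.mk'_apply]
    congr 1
    apply Subtype.ext
    simp only [rk1]
    rw [smul_vecMulVec, vecMulVec_smul, smul_smul, smul_smul]
    congr 1; ring
  · intro χ x y
    apply shift_inj hψ
    intro c
    rw [add_mul, add_mul, AddChar.map_add_eq_mul, AddChar.map_add_eq_mul, ← hθ, ← hθ, ← hθ, ← hθ]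
    simp only [lineChar, pairChar, AddChar.compAddMonoidHom_apply, AddMonoidHom.mk'_apply,
      ← AddChar.map_add_eq_mul]
    congr 1
    apply Subtype.ext
    simp only [rk1, rk2, AddSubgroup.coe_add]
    rw [add_vecMulVec, vecMulVec_add, vecMulVec_add]
    simp only [smul_add]
    abel
  · intro χ x y z
    apply shift_inj hψ
    intro c
    rw [add_mul, AddChar.map_add_eq_mul, ← hθ, ← hθ, ← hθ]
    simp only [pairChar, AddChar.compAddMonoidHom_apply, AddMonoidHom.mk'_apply,
      ← AddChar.map_add_eq_mul]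
    congr 1
    apply Subtype.ext
    simp only [rk2, AddSubgroup.coe_add]
    rw [add_vecMulVec, vecMulVec_add]
    simp only [smul_add]
    abel
  · intro χ a x y
    apply shift_inj hψ
    intro c
    rw [← hθ, show a * θ (pairChar χ x y) * c = θ (pairChar χ x y) * (a * c) by ring, ← hθ]
    simp only [pairChar, AddChar.compAddMonoidHom_apply, AddMonoidHom.mk'_apply]
    congr 1
    apply Subtype.ext
    simp only [rk2]
    rw [smul_vecMulVec, vecMulVec_smul, ← smul_add, smul_smul, mul_comm]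
  · intro χ x y
    congr 1
    ext c
    simp only [pairChar, AddChar.compAddMonoidHom_apply, AddMonoidHom.mk'_apply]
    congr 1
    apply Subtype.ext
    simp only [rk2]
    rw [add_comm]
  · intro χ x h
    exact hθ0 _ h
  · intro χ x y h
    exact hθ0 _ h
  · intro χ φ M h x
    congr 1
    ext c
    simp only [lineChar, AddChar.compAddMonoidHom_apply, AddMonoidHom.mk'_apply]
    rw [← h]
    congr 1
    apply Subtype.ext
    simp only [rk1, cong]
    rw [Matrix.mul_smul, Matrix.smul_mul, conj_vecMulVec]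

theorem symplectic_ker (hn : 2 ≤ n) (hq : n = 2 → Fintype.card F ≠ 2) {d : ℕ}
    (ρ : Representation ℂ (symplecticGroup (Fin n) F) (Fin d → ℂ)) (hρ : ρ.IsIrreducible)
    (hd : 2 ≤ d) {S : Sym n F} (hS : S ≠ 0) : toGLHom ρ (sieg S) ≠ 1 := by
  classical
  have hperf : commutator (symplecticGroup (Fin n) F) = ⊤ :=
    Cfsg.Agent.Symplectic.commutator_eq_top (by
      rcases Nat.lt_or_ge n 3 with h | h
      · have := hq (by omega)
        have := Fintype.one_lt_card (α := F)
        exact Or.inr (Or.inl ⟨by omega, by omega⟩)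
      · exact Or.inl h)
  haveI : IsSimpleGroup (symplecticGroup (Fin n) F ⧸ Subgroup.center (symplecticGroup (Fin n) F)) :=
    Cfsg.Agent.Symplectic.isSimpleGroup_PSp hn hperf
  intro h
  have hne : (toGLHom ρ).ker ≠ ⊤ := by
    intro htop
    obtain ⟨g, hg⟩ := exists_ne_one_of_irreducible ρ hρ hd
    apply hg
    rw [← toGLHom_eq_one_iff ρ g, ← MonoidHom.mem_ker, htop]
    exact Subgroup.mem_top g
  exact sieg_not_central hS (normal_le_center hperf hne (MonoidHom.mem_ker.mpr h))

theorem orbit_le_dim (D : Dict n F) {d : ℕ} (σ : symplecticGroup (Fin n) F →* GL (Fin d) ℂ)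
    [Fintype (Sym n F)] {χ : AddChar (Sym n F) ℂ}
    (hχ : Cx.proj (fun S => (σ (sieg S) : Matrix (Fin d) (Fin d) ℂ)) χ ≠ 0)
    {E : Type*} [Finite E] (val : ((Fin n → F) → F) → E)
    (O : Set E) (hO : ∀ e ∈ O, ∃ g : (Fin n → F) ≃ₗ[F] (Fin n → F), val (fun x => D.q χ (g x)) = e) :
    Nat.card O ≤ d := by
  classical
  have hR : ∀ a b : Sym n F, (σ (sieg (a + b)) : Matrix (Fin d) (Fin d) ℂ) =
      σ (sieg a) * σ (sieg b) := fun a b => by simp [sieg_add]
  have key : ∀ g : (Fin n → F) ≃ₗ[F] (Fin n → F), ∃ φ : AddChar (Sym n F) ℂ,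
      Cx.proj (fun S => (σ (sieg S) : Matrix (Fin d) (Fin d) ℂ)) φ ≠ 0 ∧
      ∀ x, D.q φ x = D.q χ (g x) := by
    intro g
    let M : GL (Fin n) F :=
      ⟨LinearMap.toMatrix' g.symm.toLinearMap, LinearMap.toMatrix' g.toLinearMap,
        by rw [← LinearMap.toMatrix'_comp]; simp,
        by rw [← LinearMap.toMatrix'_comp]; simp⟩
    let back : Sym n F →+ Sym n F :=
      AddMonoidHom.mk' (cong ((M⁻¹ : GL (Fin n) F) : Matrix (Fin n) (Fin n) F))
        (fun a b => Subtype.ext (by simp [cong, Matrix.mul_add, Matrix.add_mul]))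
    have hcc : ∀ (P Q : GL (Fin n) F) (S : Sym n F), P * Q = 1 →
        cong (P : Matrix (Fin n) (Fin n) F) (cong (Q : Matrix (Fin n) (Fin n) F) S) = S := by
      intro P Q S hPQ
      apply Subtype.ext
      simp only [cong]
      rw [show (P : Matrix (Fin n) (Fin n) F) * ((Q : Matrix (Fin n) (Fin n) F) * S.1 *
          (Q : Matrix (Fin n) (Fin n) F)ᵀ) * (P : Matrix (Fin n) (Fin n) F)ᵀ =
          ((P : Matrix (Fin n) (Fin n) F) * (Q : Matrix (Fin n) (Fin n) F)) * S.1 * ((P : Matrix (Fin n) (Fin n) F) * (Q : Matrix (Fin n) (Fin n) F))ᵀ by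
        rw [transpose_mul]; simp only [Matrix.mul_assoc]]
      rw [← Units.val_mul, hPQ]
      simp
    refine ⟨χ.compAddMonoidHom back, ?_, ?_⟩
    · refine Cx.transfer (σ (lev M)) (cong (M : Matrix (Fin n) (Fin n) F))
        (Function.bijective_iff_has_inverse.mpr ⟨back, fun S => hcc M⁻¹ M S (inv_mul_cancel M),
          fun S => hcc M M⁻¹ S (mul_inv_cancel M)⟩) (fun S => ?_) (fun S => ?_) hχ
      · rw [← Units.val_mul, ← map_mul, lev_mul, map_mul, Units.val_mul]
      · rw [AddChar.compAddMonoidHom_apply]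
        exact congrArg χ (hcc M⁻¹ M S (inv_mul_cancel M))
    · intro x
      have h := D.equivariant χ (χ.compAddMonoidHom back) (M : Matrix (Fin n) (Fin n) F)
        (fun S => by rw [AddChar.compAddMonoidHom_apply]; exact congrArg χ (hcc M⁻¹ M S (inv_mul_cancel M)))
        (g x)
      rw [← h]
      congr 1
      simp [M, LinearMap.toMatrix'_mulVec]
  choose φ hφ0 hφq using key
  choose g hg using hO
  let f : O → AddChar (Sym n F) ℂ := fun e => φ (g e.1 e.2)
  haveI : Fintype O := Fintype.ofFinite _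
  have hf : Function.Injective f := by
    intro a b hab
    apply Subtype.ext
    have h : D.q (φ (g a.1 a.2)) = D.q (φ (g b.1 b.2)) := congrArg D.q hab
    rw [funext (hφq _), funext (hφq _)] at h
    rw [← hg a.1 a.2, ← hg b.1 b.2, h]
  have := Cx.card_le_dim hR (Finset.univ.image f) (fun c hc => by
    obtain ⟨e, -, rfl⟩ := Finset.mem_image.mp hc
    exact hφ0 _)
  rw [Finset.card_image_of_injective _ hf, Finset.card_univ] at this
  rwa [Nat.card_eq_fintype_card]

theorem odd_bound (hn : 2 ≤ n) (hodd : Odd (Fintype.card F)) {d : ℕ}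
    (ρ : Representation ℂ (symplecticGroup (Fin n) F) (Fin d → ℂ)) (hρ : ρ.IsIrreducible)
    (hd : 2 ≤ d) : (Fintype.card F ^ n - 1) / 2 ≤ d := by
  classical
  haveI : Fintype (Sym n F) := Fintype.ofFinite _
  have hchar : ringChar F ≠ 2 := by
    intro h
    have := FiniteField.even_card_iff_char_two.mp h
    rw [Nat.odd_iff] at hodd
    omega
  have h2 : (2 : F) ≠ 0 := Ring.two_ne_zero hchar
  obtain ⟨D⟩ := exists_dict n F
  let i₀ : Fin n := ⟨0, by omega⟩
  have hS : rk1 (1 : F) (Pi.single i₀ 1 : Fin n → F) ≠ 0 := by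
    intro h
    have := congrFun (congrFun (congrArg Subtype.val h) i₀) i₀
    simp [rk1, vecMulVec_apply] at this
  obtain ⟨χ, hχ, hχ0⟩ := Cx.exists_proj_ne
    (R := fun S => (toGLHom ρ (sieg S) : Matrix (Fin d) (Fin d) ℂ))
    (by simp [sieg_zero]) (fun a b => by simp [sieg_add])
    (fun h => symplectic_ker hn (fun _ h2' => by rw [h2'] at hodd; exact absurd hodd (by decide))
      ρ hρ hd hS (Units.ext h))
  have hq : D.q χ (Pi.single i₀ 1) ≠ 0 := fun h => hχ0 (D.q_zero _ _ h)
  have hB : HermOrbit.IsHerm (RingHom.id F) (D.B χ) :=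
    ⟨D.B_add χ, D.B_smul χ, D.B_symm χ⟩
  have hdiag : ∀ x, D.B χ x x = 2 * D.q χ x := fun x => by
    have h := D.q_add χ x x
    rw [← two_smul F x, D.q_smul] at h
    linear_combination -h
  have hx : D.B χ (Pi.single i₀ 1) (Pi.single i₀ 1) ≠ 0 := by
    rw [hdiag]; exact mul_ne_zero h2 hq
  have hle : Nat.card (HermOrbit.orb F (D.B χ)) ≤ d := by
    refine orbit_le_dim D (toGLHom ρ) hχ (fun f x y => f (x + y) - f x - f y) _ ?_
    rintro e ⟨g, rfl⟩
    refine ⟨g, funext fun x => funext fun y => ?_⟩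
    simp only [map_add, D.q_add]
    ring
  have hnorm : 2 * (HermOrbit.norms (RingHom.id F)).card = Fintype.card F - 1 := by
    simp only [HermOrbit.norms, RingHom.id_apply]
    rw [mul_comm, ← Finset.card_univ, ← Finset.card_erase_of_mem (Finset.mem_univ (0 : F))]
    symm
    rw [Finset.card_eq_sum_card_image (fun a => a * a)]
    rw [Finset.sum_const_nat]
    intro b hb
    obtain ⟨t, ht, rfl⟩ := Finset.mem_image.mp hb
    have ht0 : t ≠ 0 := (Finset.mem_erase.mp ht).1
    have hne : t ≠ -t := fun h => ht0 ((mul_eq_zero.mp (by linear_combination h : (2 : F) * t = 0)).resolve_left h2)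
    rw [show ({x ∈ Finset.univ.erase (0 : F) | x * x = t * t} : Finset F) = {t, -t} by
      ext x
      simp only [Finset.mem_filter, Finset.mem_erase, Finset.mem_univ, and_true,
        Finset.mem_insert, Finset.mem_singleton, mul_self_eq_mul_self_iff]
      constructor
      · exact fun h => h.2
      · rintro (rfl | rfl) <;> simp [ht0]]
    exact Finset.card_pair hne
  have hc : HermOrbit.Cond (RingHom.id F) := by
    refine ⟨fun _ => rfl, ⟨1, by simpa [one_add_one_eq_two] using h2⟩, ?_, Or.inr ?_⟩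
    · intro s t _ _ hs ht r _
      obtain ⟨a, b, hab⟩ := FiniteField.exists_root_sum_quadratic
        (f := Polynomial.C s * Polynomial.X ^ 2 - Polynomial.C r) (g := Polynomial.C t * Polynomial.X ^ 2)
        (by rw [Polynomial.degree_sub_eq_left_of_degree_lt] <;>
              rw [Polynomial.degree_C_mul_X_pow 2 hs]
            · rfl
            · exact lt_of_le_of_lt Polynomial.degree_C_le (by decide))
        (Polynomial.degree_C_mul_X_pow 2 ht) (Nat.odd_iff.mp hodd)
      refine ⟨a, b, ?_⟩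
      simp at hab ⊢
      linear_combination hab
    · rw [hnorm]
      refine le_of_eq ?_
      rw [← Finset.card_univ, ← Finset.card_erase_of_mem (Finset.mem_univ (0 : F))]
      congr 1
      ext x
      simp [HermOrbit.fixNZ]
  have h := (HermOrbit.orbit_bound hc n (Fin n → F) (Module.finrank_fin_fun F) _ hB _ hx).trans hle
  have hgeom : (Fintype.card F - 1) * ∑ i ∈ Finset.range n, Fintype.card F ^ i =
      Fintype.card F ^ n - 1 := by
    have h1 := geom_sum_mul_add (Fintype.card F - 1) n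
    rw [Nat.sub_add_cancel (show 1 ≤ Fintype.card F from Fintype.card_pos)] at h1
    rw [mul_comm]
    omega
  calc (Fintype.card F ^ n - 1) / 2
      = (2 * ((HermOrbit.norms (RingHom.id F)).card * ∑ i ∈ Finset.range n, Fintype.card F ^ i)) / 2 := by
        rw [← hgeom, ← hnorm, mul_assoc]
    _ ≤ d := by rw [Nat.mul_div_cancel_left _ (by norm_num)]; exact h

theorem geom_even (q : ℕ) (hq : 1 ≤ q) : ∀ n : ℕ,
    (∑ i ∈ Finset.range n, (q - 1) * (q ^ i - 1) * q ^ i) * (q + 1) + (q ^ n + q ^ (n + 1)) =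
      q ^ (2 * n) + q := by
  intro n
  induction n with
  | zero => simp
  | succ n ih =>
    rw [Finset.sum_range_succ, add_mul]
    obtain ⟨r, rfl⟩ : ∃ r, q = r + 1 := ⟨q - 1, by omega⟩
    obtain ⟨s, hs⟩ : ∃ s, (r + 1) ^ n = s + 1 := ⟨(r + 1) ^ n - 1, by
      have := Nat.one_le_pow n (r + 1) (by omega); omega⟩
    have e2 : (r + 1) ^ (2 * n) = (s + 1) * (s + 1) := by rw [← hs, two_mul, pow_add]
    have e3 : (r + 1) ^ (2 * (n + 1)) = (s + 1) * (s + 1) * ((r + 1) * (r + 1)) := by
      rw [← e2, ← sq, ← pow_add]; ring_nf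
    rw [e2] at ih
    have e4 : (r + 1) ^ (n + 1) = (s + 1) * (r + 1) := by rw [pow_succ, hs]
    have e5 : (r + 1) ^ (n + 1 + 1) = (s + 1) * (r + 1) * (r + 1) := by rw [pow_succ, e4]
    rw [e4, hs] at ih
    rw [e5, e4, e3, hs]
    simp only [Nat.add_sub_cancel] at ih ⊢
    linarith [ih]

theorem even_bound (hn : 2 ≤ n) (heven : Even (Fintype.card F))
    (hex : n = 2 → Fintype.card F ≠ 2) {d : ℕ}
    (ρ : Representation ℂ (symplecticGroup (Fin n) F) (Fin d → ℂ)) (hρ : ρ.IsIrreducible)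
    (hd : 2 ≤ d) :
    (Fintype.card F ^ n - 1) * (Fintype.card F ^ n - Fintype.card F) /
      (2 * (Fintype.card F + 1)) ≤ d := by
  classical
  haveI : Fintype (Sym n F) := Fintype.ofFinite _
  haveI : CharP F 2 := by
    have h : ringChar F = 2 := FiniteField.even_card_iff_char_two.mpr (Nat.even_iff.mp heven)
    exact h ▸ ringChar.charP F
  obtain ⟨D⟩ := exists_dict n F
  let x₀ : Fin n → F := Pi.single ⟨0, by omega⟩ 1
  let y₀ : Fin n → F := Pi.single ⟨1, by omega⟩ 1
  have hS : rk2 (1 : F) x₀ y₀ ≠ 0 := by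
    intro h
    have := congrFun (congrFun (congrArg Subtype.val h) ⟨0, by omega⟩) ⟨1, by omega⟩
    simp [rk2, vecMulVec_apply, x₀, y₀, Pi.single_apply, Fin.ext_iff] at this
  obtain ⟨χ, hχ, hχ0⟩ := Cx.exists_proj_ne
    (R := fun S => (toGLHom ρ (sieg S) : Matrix (Fin d) (Fin d) ℂ))
    (by simp [sieg_zero]) (fun a b => by simp [sieg_add])
    (fun h => symplectic_ker hn hex ρ hρ hd hS (Units.ext h))
  have hpol : ∀ x y, QuadOrbit.pol (D.q χ) x y = D.B χ x y := fun x y => by
    simp [QuadOrbit.pol, D.q_add]; ring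
  have hQ : QuadOrbit.IsQuad (D.q χ) :=
    ⟨D.q_smul χ, fun x y z => by simp [hpol, D.B_add], fun c x y => by simp [hpol, D.B_smul]⟩
  have hab : QuadOrbit.pol (D.q χ) x₀ y₀ ≠ 0 := by
    rw [hpol]; exact fun h => hχ0 (D.B_zero _ _ _ h)
  have hle : Nat.card (QuadOrbit.orb F (D.q χ)) ≤ d := by
    refine orbit_le_dim D (toGLHom ρ) hχ id _ ?_
    rintro e ⟨g, rfl⟩
    exact ⟨g, rfl⟩
  have h := QuadOrbit.orbit_bound n (Fin n → F) (Module.finrank_fin_fun F) _ hQ _ _ hab
  have hg := geom_even (Fintype.card F) Fintype.card_pos n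
  set q := Fintype.card F
  set Sg := ∑ i ∈ Finset.range n, (q - 1) * (q ^ i - 1) * q ^ i
  have hq1 : 1 ≤ q := Fintype.card_pos
  have e : (q ^ n - 1) * (q ^ n - q) = Sg * (q + 1) := by
    have h1 : q ≤ q ^ n := Nat.le_self_pow (by omega) q
    zify [h1, le_trans hq1 h1]
    have hg' : (Sg : ℤ) * (q + 1) + ((q : ℤ) ^ n + (q : ℤ) ^ n * q) = (q : ℤ) ^ n * (q : ℤ) ^ n + q := by
      rw [← pow_succ, ← pow_add, ← two_mul]; exact_mod_cast hg
    linear_combination -hg'
  rw [e, ← Nat.div_div_eq_div_mul]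
  calc Sg * (q + 1) / 2 / (q + 1) = Sg * (q + 1) / (q + 1) / 2 := by
        rw [Nat.div_div_eq_div_mul, Nat.div_div_eq_div_mul, mul_comm 2]
    _ = Sg / 2 := by rw [Nat.mul_div_cancel _ (by omega)]
    _ ≤ d := by omega

end Cfsg.Agent.CrossChar56.SpBound
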