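import Cfsg.Agent.CrossChar56.Idem
import Mathlib.LinearAlgebra.Matrix.SpecialLinearGroup
import Mathlib.LinearAlgebra.Matrix.SchurComplement
import Mathlib.LinearAlgebra.Dual.Lemmas

set_option autoImplicit false

namespace Cfsg.Agent.CrossChar56

open Matrix

variable {F : Type*} [Field F]

/-- A determinant one matrix moving one non-zero row vector to another (dimension at least 2). -/
theorem exists_sl_move {m : ℕ} (hm : 2 ≤ m) {v w : Fin m → F} (hv : v ≠ 0) (hw : w ≠ 0) :
    ∃ h : SpecialLinearGroup (Fin m) F, v ᵥ* h.1 = w := by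
  have step : ∀ {a b : Fin m → F}, LinearIndependent F ![a, b] →
      ∃ h : SpecialLinearGroup (Fin m) F, a ᵥ* h.1 = b := by
    intro a b hab
    obtain ⟨f, hfa, hfb⟩ : ∃ f : Fin m → F, a ⬝ᵥ f = 1 ∧ b ⬝ᵥ f = 1 := by
      let B := Module.Basis.sumExtend hab
      obtain ⟨φ, hφ⟩ : ∃ φ : (Fin m → F) →ₗ[F] F, φ a = 1 ∧ φ b = 1 := by
        refine ⟨B.constr F (fun _ => (1 : F)), ?_, ?_⟩
        · have : B (Sum.inl 0) = a := by simp [B, Module.Basis.sumExtend]; rfl
          calc _ = B.constr F (fun _ => (1 : F)) (B (Sum.inl 0)) := by rw [this]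
            _ = 1 := Module.Basis.constr_basis _ _ _ _
        · have : B (Sum.inl 1) = b := by simp [B, Module.Basis.sumExtend]; rfl
          calc _ = B.constr F (fun _ => (1 : F)) (B (Sum.inl 1)) := by rw [this]
            _ = 1 := Module.Basis.constr_basis _ _ _ _
      refine ⟨fun i => φ (Pi.single i 1), ?_, ?_⟩
      · have h := congrArg φ (pi_eq_sum_univ' a)
        rw [hφ.1, map_sum] at h
        simp only [map_smul, smul_eq_mul] at h
        exact h.symm
      · have h := congrArg φ (pi_eq_sum_univ' b)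
        rw [hφ.2, map_sum] at h
        simp only [map_smul, smul_eq_mul] at h
        exact h.symm
    refine ⟨⟨1 + replicateCol Unit f * replicateRow Unit (b - a), ?_⟩, ?_⟩
    · rw [det_one_add_replicateCol_mul_replicateRow, sub_dotProduct, hfa, hfb]; ring
    · show a ᵥ* (1 + replicateCol Unit f * replicateRow Unit (b - a)) = b
      rw [vecMul_add, vecMul_one, ← vecMul_vecMul]
      ext i
      have : (a ᵥ* replicateCol Unit f) = fun _ => (1 : F) := by
        funext u; simpa [vecMul, dotProduct] using hfa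
      rw [this]
      simp [vecMul, dotProduct]
  by_cases h : LinearIndependent F ![v, w]
  · exact step h
  · obtain ⟨u, hu⟩ : ∃ u : Fin m → F, u ∉ F ∙ v := by
      by_contra hcon
      push Not at hcon
      have htop : (F ∙ v) = ⊤ := Submodule.eq_top_iff'.mpr hcon
      have h1 : Module.finrank F (F ∙ v) ≤ 1 := by rw [finrank_span_singleton hv]
      rw [htop, finrank_top, Module.finrank_fin_fun] at h1
      omega
    have hwv : w ∈ F ∙ v := by
      by_contra hc
      apply h
      rw [LinearIndependent.pair_iff' hv]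
      intro a ha
      exact hc (Submodule.mem_span_singleton.mpr ⟨a, ha⟩)
    have h1 : LinearIndependent F ![v, u] := by
      rw [LinearIndependent.pair_iff' hv]
      exact fun a ha => hu (Submodule.mem_span_singleton.mpr ⟨a, ha⟩)
    have h2 : LinearIndependent F ![u, w] := by
      rw [LinearIndependent.pair_symm_iff, LinearIndependent.pair_iff' hw]
      exact fun a ha => hu (ha ▸ Submodule.smul_mem _ a hwv)
    obtain ⟨g1, hg1⟩ := step h1
    obtain ⟨g2, hg2⟩ := step h2
    exact ⟨g1 * g2, by rw [SpecialLinearGroup.coe_mul, ← vecMul_vecMul, hg1, hg2]⟩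

variable {m : ℕ}

/-- the translation subgroup -/
def trA (a : Fin m → F) : SpecialLinearGroup (Fin 1 ⊕ Fin m) F :=
  ⟨fromBlocks 1 0 (replicateCol (Fin 1) a) 1, by simp⟩

/-- the Levi factor -/
def leviL (h : SpecialLinearGroup (Fin m) F) : SpecialLinearGroup (Fin 1 ⊕ Fin m) F :=
  ⟨fromBlocks 1 0 0 h.1, by simp⟩

theorem trA_add (a b : Fin m → F) : trA (a + b) = trA a * trA b := by
  apply Subtype.ext
  rw [SpecialLinearGroup.coe_mul]
  simp only [trA]
  simp [fromBlocks_multiply, replicateCol_add]

theorem trA_zero : trA (0 : Fin m → F) = 1 := by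
  apply Subtype.ext
  simp [trA, fromBlocks_one]

theorem levi_mul_trA (h : SpecialLinearGroup (Fin m) F) (a : Fin m → F) :
    leviL h * trA a = trA (h.1 *ᵥ a) * leviL h := by
  apply Subtype.ext
  rw [SpecialLinearGroup.coe_mul, SpecialLinearGroup.coe_mul]
  simp only [trA, leviL]
  simp [fromBlocks_multiply, replicateCol_mulVec]

theorem trA_not_central {a : Fin m → F} (ha : a ≠ 0) (hm : 2 ≤ m) :
    trA a ∉ Subgroup.center (SpecialLinearGroup (Fin 1 ⊕ Fin m) F) := by
  intro hc
  obtain ⟨r, -, hr⟩ := SpecialLinearGroup.mem_center_iff.mp hc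
  obtain ⟨i, hi⟩ := Function.ne_iff.mp ha
  apply hi
  have := congrFun (congrFun hr (Sum.inr i)) (Sum.inl 0)
  simpa [trA] using this.symm

variable [Fintype F] {K : Type*} [Field K] {d : ℕ}

theorem sl_degree_bound (hm : 2 ≤ m) (hK : ringChar K ≠ ringChar F)
    (ρ : SpecialLinearGroup (Fin 1 ⊕ Fin m) F →* GL (Fin d) K)
    (hker : ρ.ker ≤ Subgroup.center (SpecialLinearGroup (Fin 1 ⊕ Fin m) F)) :
    Fintype.card F ^ m - 1 ≤ d := by
  classical
  obtain ⟨K', _, f, ψ, hψ, hcard⟩ := exists_ext F K hK
  let σ : SpecialLinearGroup (Fin 1 ⊕ Fin m) F →* GL (Fin d) K' :=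
    (Units.map f.mapMatrix.toMonoidHom).comp ρ
  have hσ : Function.Injective (Units.map f.mapMatrix.toMonoidHom :
      GL (Fin d) K → GL (Fin d) K') := by
    intro x y hxy
    apply Units.ext
    exact Matrix.map_injective f.injective (congrArg Units.val hxy)
  let R : (Fin m → F) → Matrix (Fin d) (Fin d) K' := fun a => (σ (trA a) : Matrix _ _ _)
  have hR : ∀ a b, R (a + b) = R a * R b := fun a b => by simp [R, trA_add]
  have hR0 : R 0 = 1 := by simp [R, trA_zero]
  have hc : (Fintype.card (Fin m → F) : K') ≠ 0 := by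
    rw [Fintype.card_fun, Nat.cast_pow]; exact pow_ne_zero _ hcard
  have hone : R (fun _ => 1) ≠ 1 := by
    intro h
    apply trA_not_central (a := fun _ : Fin m => (1 : F))
      (by intro h0; exact one_ne_zero (congrFun h0 ⟨0, by omega⟩)) hm
    apply hker
    rw [MonoidHom.mem_ker]
    apply hσ
    rw [map_one]
    exact Units.ext h
  obtain ⟨v, hv, hvd⟩ := exists_proj_ne hψ hR0 hR hc hone
  have hv0 : v ≠ 0 := by rintro rfl; simp at hvd
  have hall : ∀ w : Fin m → F, w ≠ 0 → proj ψ R w ≠ 0 := by
    intro w hw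
    obtain ⟨h, hh⟩ := exists_sl_move hm hw hv0
    have hbij : Function.Bijective (fun a : Fin m → F => h.1 *ᵥ a) := by
      refine Finite.injective_iff_bijective.mp (Matrix.mulVec_injective_iff_isUnit.mpr ?_)
      rw [isUnit_iff_isUnit_det, h.2]; exact isUnit_one
    refine proj_ne_transfer (σ (leviL h)) _ hbij (fun a => ?_) (fun a => ?_) hv
    · show ((σ (leviL h)) : Matrix _ _ _) * (σ (trA a) : Matrix (Fin d) (Fin d) K') = _
      rw [← Units.val_mul, ← map_mul, levi_mul_trA, map_mul, Units.val_mul]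
    · rw [dotProduct_mulVec, hh]
  have := card_le_dim hψ hR hc (Finset.univ.filter (fun w : Fin m → F => w ≠ 0))
    (fun w hw => hall w (Finset.mem_filter.mp hw).2)
  rw [Finset.filter_ne', Finset.card_erase_of_mem (Finset.mem_univ _), Finset.card_univ,
    Fintype.card_fun, Fintype.card_fin] at this
  exact this

end Cfsg.Agent.CrossChar56

namespace Cfsg.Agent.CrossChar56

open Matrix

theorem sl_degree_bound_fin {F : Type*} [Field F] [Fintype F] {K : Type*} [Field K] {n d : ℕ}
    (hn : 3 ≤ n) (hK : ringChar K ≠ ringChar F)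
    (ρ : SpecialLinearGroup (Fin n) F →* GL (Fin d) K)
    (hker : ρ.ker ≤ Subgroup.center (SpecialLinearGroup (Fin n) F)) :
    Fintype.card F ^ (n - 1) - 1 ≤ d := by
  obtain ⟨m, rfl⟩ : ∃ m, n = 1 + m := ⟨n - 1, by omega⟩
  let e : SpecialLinearGroup (Fin 1 ⊕ Fin m) F ≃* SpecialLinearGroup (Fin (1 + m)) F :=
    { toFun := fun A => ⟨reindex finSumFinEquiv finSumFinEquiv A.1, by simp⟩
      invFun := fun A => ⟨reindex finSumFinEquiv.symm finSumFinEquiv.symm A.1, by simp⟩
      left_inv := fun A => by apply Subtype.ext; simp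
      right_inv := fun A => by apply Subtype.ext; simp
      map_mul' := fun A B => by
        apply Subtype.ext
        show reindex finSumFinEquiv finSumFinEquiv (A.1 * B.1) =
          reindex finSumFinEquiv finSumFinEquiv A.1 * reindex finSumFinEquiv finSumFinEquiv B.1
        simp [Matrix.submatrix_mul_equiv] }
  rw [Nat.add_sub_cancel_left]
  refine sl_degree_bound (by omega) hK (ρ.comp e.toMonoidHom) ?_
  intro x hx
  rw [Subgroup.mem_center_iff]
  intro y
  apply e.injective
  rw [map_mul, map_mul]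
  exact Subgroup.mem_center_iff.mp (hker hx) (e y)

end Cfsg.Agent.CrossChar56
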