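import Cfsg.Agent.CrossChar56.SLFixed

/-!
The exact lower bound for the degree of a non-trivial complex representation of `SL_n(q)`.

Split the space under the translations `trA`. If a non-trivial character has multiplicity at
least two there is nothing to do. Otherwise there is a vector `u`, fixed by the Levi factor,
with components in all these lines; either some vector is fixed by the stabiliser of a vector or
covector, or the products `⟨u, b u⟩` for the opposite translations lead to `q ^ m ≤ 2 q`.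
-/

set_option autoImplicit false

noncomputable section

namespace Cfsg.Agent.CrossChar56.SLExact

open Matrix
open scoped commutatorElement

variable {F : Type*} [Field F] {m : ℕ}

/-- the opposite translations -/
def trB (b : Fin m → F) : SpecialLinearGroup (Fin 1 ⊕ Fin m) F :=
  ⟨fromBlocks 1 (replicateRow (Fin 1) b) 0 1, by simp⟩

theorem trB_add (a b : Fin m → F) : trB (a + b) = trB a * trB b := by
  apply Subtype.ext
  rw [SpecialLinearGroup.coe_mul]
  simp [trB, fromBlocks_multiply, replicateRow_add, add_comm]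

theorem leviL_mul (g h : SpecialLinearGroup (Fin m) F) : leviL (g * h) = leviL g * leviL h := by
  apply Subtype.ext
  rw [SpecialLinearGroup.coe_mul]
  simp [leviL, fromBlocks_multiply]

theorem leviL_one : leviL (1 : SpecialLinearGroup (Fin m) F) = 1 := by
  apply Subtype.ext
  simp [leviL, fromBlocks_one]

/-- the Levi homomorphism -/
def leviHom : SpecialLinearGroup (Fin m) F →* SpecialLinearGroup (Fin 1 ⊕ Fin m) F where
  toFun := leviL
  map_one' := leviL_one
  map_mul' := leviL_mul

theorem levi_mul_trB (h : SpecialLinearGroup (Fin m) F) (b : Fin m → F) :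
    leviL h * trB b = trB (b ᵥ* (h⁻¹).1) * leviL h := by
  apply Subtype.ext
  show fromBlocks 1 0 0 h.1 * fromBlocks 1 (replicateRow (Fin 1) b) 0 1 =
    fromBlocks 1 (replicateRow (Fin 1) (b ᵥ* (h⁻¹).1)) 0 1 * fromBlocks 1 0 0 h.1
  simp only [fromBlocks_multiply, Matrix.mul_zero, Matrix.zero_mul, Matrix.one_mul, Matrix.mul_one,
    add_zero, zero_add]
  have : replicateRow (Fin 1) (b ᵥ* (h⁻¹).1) * h.1 = replicateRow (Fin 1) b := by
    rw [← replicateRow_vecMul, vecMul_vecMul, ← SpecialLinearGroup.coe_mul, inv_mul_cancel,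
      SpecialLinearGroup.coe_one, vecMul_one]
  rw [this]

/-- `1 - a b` when `b a = 0` -/
def corr (a b : Fin m → F) (h : b ⬝ᵥ a = 0) : SpecialLinearGroup (Fin m) F :=
  ⟨1 + replicateCol Unit (-a) * replicateRow Unit b, by
    rw [det_one_add_replicateCol_mul_replicateRow, dotProduct_neg, h, neg_zero, add_zero]⟩

theorem trB_mul_trA (a b : Fin m → F) (h : b ⬝ᵥ a = 0) :
    trB b * trA a = trA a * trB b * leviL (corr a b h) := by
  apply Subtype.ext
  show fromBlocks 1 (replicateRow (Fin 1) b) 0 1 * fromBlocks 1 0 (replicateCol (Fin 1) a) 1 =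
    fromBlocks 1 0 (replicateCol (Fin 1) a) 1 * fromBlocks 1 (replicateRow (Fin 1) b) 0 1 *
      fromBlocks 1 0 0 (1 + replicateCol Unit (-a) * replicateRow Unit b)
  simp only [fromBlocks_multiply]
  have hba : replicateRow (Fin 1) b * replicateCol (Fin 1) a = 0 := by
    ext i j
    simpa [Matrix.mul_apply, dotProduct] using h
  have hba' : replicateRow Unit b * replicateCol Unit a = 0 := by
    ext i j
    simpa [Matrix.mul_apply, dotProduct] using h
  have hab : (replicateCol (Fin 1) a * replicateRow (Fin 1) b : Matrix (Fin m) (Fin m) F) =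
      replicateCol Unit a * replicateRow Unit b := by
    ext i j; simp [Matrix.mul_apply]
  have hz : replicateRow (Fin 1) b * (replicateCol Unit a * replicateRow Unit b) = 0 := by
    rw [← hab, ← Matrix.mul_assoc, hba, Matrix.zero_mul]
  have hz' : (replicateCol Unit a * replicateRow Unit b) *
      (replicateCol Unit a * replicateRow Unit b) = 0 := by
    rw [Matrix.mul_assoc, ← Matrix.mul_assoc (replicateRow Unit b), hba', Matrix.zero_mul,
      Matrix.mul_zero]
  have hneg : replicateCol Unit (-a) * replicateRow Unit b =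
      -(replicateCol Unit a * replicateRow Unit b) := by
    ext i j; simp [Matrix.mul_apply]
  rw [hneg]
  simp [hba, Matrix.mul_add, Matrix.add_mul, hab, hz, hz']

theorem exists_stab_translation {b v : Fin m → F}
    (hli : LinearIndependent F ![b, v]) (s : F) :
    ∃ h : SpecialLinearGroup (Fin m) F, b ᵥ* h.1 = b ∧ v ᵥ* h.1 = v + s • b := by
  obtain ⟨f, hf⟩ := exists_dot_eq _ hli ![0, 1]
  have hfb : f ⬝ᵥ b = 0 := by simpa using hf 0
  have hfv : f ⬝ᵥ v = 1 := by simpa using hf 1
  have key : ∀ w : Fin m → F, w ᵥ* (1 + replicateCol Unit f * replicateRow Unit (s • b)) =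
      w + (f ⬝ᵥ w) • (s • b) := by
    intro w
    rw [vecMul_add, vecMul_one, ← vecMul_vecMul]
    congr 1
    funext i
    simp [vecMul, dotProduct, Finset.sum_mul, mul_comm (w _)]
  refine ⟨⟨1 + replicateCol Unit f * replicateRow Unit (s • b), ?_⟩, ?_, ?_⟩
  · rw [det_one_add_replicateCol_mul_replicateRow, smul_dotProduct, dotProduct_comm, hfb,
      smul_zero, add_zero]
  · show b ᵥ* (1 + _) = b
    rw [key, hfb, zero_smul, add_zero]
  · show v ᵥ* (1 + _) = _
    rw [key, hfv, one_smul]

/-- diagonal element `diag (d₀, dv)` -/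
def diagEl (d₀ : F) (dv : Fin m → F) (hd : d₀ * ∏ i, dv i = 1) :
    SpecialLinearGroup (Fin 1 ⊕ Fin m) F :=
  ⟨fromBlocks (diagonal fun _ => d₀) 0 0 (diagonal dv), by
    rw [det_fromBlocks_zero₂₁, det_diagonal, det_diagonal, Fin.prod_univ_one, hd]⟩

theorem diagEl_mul_trA (d₀ : F) (dv : Fin m → F) (hd : d₀ * ∏ i, dv i = 1) (a : Fin m → F) :
    diagEl d₀ dv hd * trA a = trA (fun i => dv i * a i / d₀) * diagEl d₀ dv hd := by
  have h0 : d₀ ≠ 0 := left_ne_zero_of_mul_eq_one hd
  apply Subtype.ext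
  show fromBlocks (diagonal fun _ => d₀) 0 0 (diagonal dv) *
      fromBlocks 1 0 (replicateCol (Fin 1) a) 1 =
    fromBlocks 1 0 (replicateCol (Fin 1) fun i => dv i * a i / d₀) 1 *
      fromBlocks (diagonal fun _ => d₀) 0 0 (diagonal dv)
  simp only [fromBlocks_multiply]
  congr 1 <;> ext i j <;> simp [Matrix.mul_apply, Matrix.diagonal_apply, h0, Fin.fin_one_eq_zero]

theorem diagEl_mul_trB (d₀ : F) (dv : Fin m → F) (hd : d₀ * ∏ i, dv i = 1) (b : Fin m → F) :
    diagEl d₀ dv hd * trB b = trB (fun i => d₀ * b i / dv i) * diagEl d₀ dv hd := by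
  have hi : ∀ i, dv i ≠ 0 := fun i =>
    (Finset.prod_ne_zero_iff.mp (right_ne_zero_of_mul_eq_one hd)) i (Finset.mem_univ i)
  apply Subtype.ext
  show fromBlocks (diagonal fun _ => d₀) 0 0 (diagonal dv) *
      fromBlocks 1 (replicateRow (Fin 1) b) 0 1 =
    fromBlocks 1 (replicateRow (Fin 1) fun i => d₀ * b i / dv i) 0 1 *
      fromBlocks (diagonal fun _ => d₀) 0 0 (diagonal dv)
  simp only [fromBlocks_multiply]
  congr 1 <;> ext i j <;> simp [Matrix.mul_apply, Matrix.diagonal_apply, hi, Fin.fin_one_eq_zero]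

theorem diagEl_mul_levi (d₀ : F) (dv : Fin m → F) (hd : d₀ * ∏ i, dv i = 1)
    (h : SpecialLinearGroup (Fin m) F) :
    ∃ h' : SpecialLinearGroup (Fin m) F,
      diagEl d₀ dv hd * leviL h = leviL h' * diagEl d₀ dv hd := by
  have hi : ∀ i, dv i ≠ 0 := fun i =>
    (Finset.prod_ne_zero_iff.mp (right_ne_zero_of_mul_eq_one hd)) i (Finset.mem_univ i)
  refine ⟨⟨diagonal dv * h.1 * diagonal (fun i => (dv i)⁻¹), ?_⟩, ?_⟩
  · rw [det_mul, det_mul, h.2, mul_one, det_diagonal, det_diagonal, ← Finset.prod_mul_distrib]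
    exact Finset.prod_eq_one fun i _ => mul_inv_cancel₀ (hi i)
  · apply Subtype.ext
    show fromBlocks (diagonal fun _ => d₀) 0 0 (diagonal dv) * fromBlocks 1 0 0 h.1 =
      fromBlocks 1 0 0 (diagonal dv * h.1 * diagonal (fun i => (dv i)⁻¹)) *
        fromBlocks (diagonal fun _ => d₀) 0 0 (diagonal dv)
    simp only [fromBlocks_multiply]
    simp [Matrix.mul_assoc, diagonal_mul_diagonal, hi]

theorem exists_cube_ne_one [Fintype F] (h2 : Fintype.card F ≠ 2) (h4 : Fintype.card F ≠ 4) :
    ∃ x : F, x ≠ 0 ∧ x ^ 3 ≠ 1 := by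
  classical
  obtain ⟨g, hg⟩ := IsCyclic.exists_generator (α := Fˣ)
  refine ⟨g, g.ne_zero, fun h => ?_⟩
  have h' : g ^ 3 = 1 := Units.ext (by simpa using h)
  have := orderOf_dvd_of_pow_eq_one h'
  rw [orderOf_eq_card_of_forall_mem_zpowers hg, Nat.card_eq_fintype_card, Fintype.card_units] at this
  have hp : 2 ≤ Fintype.card F := Fintype.one_lt_card
  rcases (Nat.dvd_prime Nat.prime_three).mp this with h | h <;> omega

section Rep

variable [Fintype F] [DecidableEq F] {d : ℕ} (τ : SpecialLinearGroup (Fin 1 ⊕ Fin m) F →* GL (Fin d) ℂ)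

/-- matrices of the translations -/
def R (a : Fin m → F) : Matrix (Fin d) (Fin d) ℂ := τ (trA a)

theorem R_add (a b : Fin m → F) : R τ (a + b) = R τ a * R τ b := by simp [R, trA_add]

theorem R_zero : R τ 0 = 1 := by simp [R, trA_zero]

/-- the character of a row vector -/
def chr (ψ : AddChar F ℂ) (v : Fin m → F) : AddChar (Fin m → F) ℂ :=
  ψ.compAddMonoidHom (AddMonoidHom.mk' (fun a => v ⬝ᵥ a) (dotProduct_add v))

theorem chr_apply (ψ : AddChar F ℂ) (v a : Fin m → F) : chr ψ v a = ψ (v ⬝ᵥ a) := rfl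

variable {ψ : AddChar F ℂ} (hψ : ψ.IsPrimitive)

theorem chr_injective (hψ : ψ.IsPrimitive) : Function.Injective (chr (m := m) ψ) := by
  intro v w h
  funext i
  apply shift_inj hψ
  intro c
  have := DFunLike.congr_fun h (Pi.single i c)
  simpa [chr_apply, mul_comm] using this

theorem chr_surjective (hψ : ψ.IsPrimitive) : Function.Surjective (chr (m := m) ψ) := by
  classical
  exact ((Fintype.bijective_iff_injective_and_card _).mpr
    ⟨chr_injective hψ, AddChar.card_eq.symm⟩).2

/-- eigenspace of a row vector -/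
abbrev E (ψ : AddChar F ℂ) (v : Fin m → F) : Submodule ℂ (Fin d → ℂ) := Cx.eig (R τ) (chr ψ v)

theorem mem_E {v : Fin m → F} {x : Fin d → ℂ} :
    x ∈ E τ ψ v ↔ ∀ a, ap τ (trA a) x = ψ (v ⬝ᵥ a) • x := by
  constructor
  · intro hx a
    obtain ⟨w, rfl⟩ := LinearMap.mem_range.mp hx
    show R τ a *ᵥ (Cx.proj (R τ) (chr ψ v) *ᵥ w) = _
    rw [mulVec_mulVec, Cx.R_mul_proj (R_add τ), smul_mulVec]
    rfl
  · intro h
    refine LinearMap.mem_range.mpr ⟨((Fintype.card (Fin m → F) : ℂ))⁻¹ • x, ?_⟩
    have : Cx.proj (R τ) (chr ψ v) *ᵥ x = (Fintype.card (Fin m → F) : ℂ) • x := by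
      simp only [Cx.proj, sum_mulVec, smul_mulVec]
      have h' : ∀ a, chr ψ v (-a) • (R τ a *ᵥ x) = x := fun a => by
        show _ • ap τ (trA a) x = x
        rw [h, chr_apply, smul_smul, ← AddChar.map_add_eq_mul, ← dotProduct_add, neg_add_cancel,
          dotProduct_zero, AddChar.map_zero_eq_one, one_smul]
      simp [h', Finset.sum_const, ← Nat.cast_smul_eq_nsmul ℂ]
    rw [Matrix.mulVecLin_apply, mulVec_smul, this, smul_smul,
      inv_mul_cancel₀ (Nat.cast_ne_zero.mpr Fintype.card_ne_zero), one_smul]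

theorem levi_mem_E {v : Fin m → F} {x : Fin d → ℂ} (hx : x ∈ E τ ψ v)
    (h : SpecialLinearGroup (Fin m) F) : ap τ (leviL h) x ∈ E τ ψ (v ᵥ* (h⁻¹).1) := by
  rw [mem_E] at hx ⊢
  intro a
  have e : trA a * leviL h = leviL h * trA ((h⁻¹).1 *ᵥ a) := by
    rw [levi_mul_trA, mulVec_mulVec, ← SpecialLinearGroup.coe_mul, mul_inv_cancel,
      SpecialLinearGroup.coe_one, one_mulVec]
  rw [← ap_mul, e, ap_mul, hx, ap_smul, dotProduct_mulVec]

include hψ in
theorem nontrivial_trA (hm : 2 ≤ m) (hfix : ∀ y, (∀ g, ap τ g y = y) → y = 0) (hd : 1 ≤ d) :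
    ∃ v : Fin m → F, v ≠ 0 ∧ E τ ψ v ≠ ⊥ := by
  classical
  have hex : ∃ a, R τ a ≠ 1 := by
    by_contra hcon
    push Not at hcon
    have hker : τ.ker = ⊤ := by
      refine LinearGroup.eq_top_of_transvection_mem fun i j hij c => ?_
      have h1 : ∀ (k : Fin m) (hk : (Sum.inr k : Fin 1 ⊕ Fin m) ≠ Sum.inl 0) (c : F),
          SpecialLinearGroup.transvection hk c ∈ τ.ker := by
        intro k hk c
        have : SpecialLinearGroup.transvection hk c = trA (Pi.single k c) := by
          apply Subtype.ext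
          show Matrix.transvection _ _ c = fromBlocks 1 0 (replicateCol (Fin 1) _) 1
          ext (a | a) (b | b) <;>
            simp [Matrix.transvection, Matrix.one_apply, Matrix.single_apply, Pi.single_apply,
              Fin.fin_one_eq_zero, eq_comm (a := k)]
        rw [MonoidHom.mem_ker, this]
        exact Units.ext (hcon _)
      have hcomm : ∀ {x y : SpecialLinearGroup (Fin 1 ⊕ Fin m) F}, x ∈ τ.ker ∨ y ∈ τ.ker →
          ⁅x, y⁆ ∈ τ.ker := by
        rintro x y (h | h) <;> simp [MonoidHom.mem_ker, commutatorElement_def,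
          MonoidHom.mem_ker.mp h]
      have h2 : ∀ (k l : Fin m) (hkl : (Sum.inr k : Fin 1 ⊕ Fin m) ≠ Sum.inr l) (c : F),
          SpecialLinearGroup.transvection hkl c ∈ τ.ker := by
        intro k l hkl c
        rw [← mul_one c, ← LinearGroup.commutator_transvection (k := Sum.inl 0) (by simp) (by simp)
          hkl c 1]
        exact hcomm (Or.inl (h1 k (by simp) c))
      rcases i with i | i <;> rcases j with j | j
      · exact absurd (congrArg Sum.inl (Subsingleton.elim i j)) hij
      · haveI : Nontrivial (Fin m) := Fin.nontrivial_iff_two_le.mpr hm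
        obtain ⟨k, hk⟩ := exists_ne j
        rw [← mul_one c, ← LinearGroup.commutator_transvection (k := Sum.inr k) (by simp)
          (by simp [hk]) hij c 1]
        exact hcomm (Or.inr (h2 k j (by simp [hk]) 1))
      · have : j = 0 := Subsingleton.elim _ _
        subst this
        exact h1 i hij c
      · exact h2 i j hij c
    let y : Fin d → ℂ := fun _ => 1
    have hy := hfix y (fun g => by
      have hg : τ g = 1 := MonoidHom.mem_ker.mp (hker ▸ Subgroup.mem_top g)
      simp [ap, hg])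
    exact one_ne_zero (congrFun hy ⟨0, hd⟩)
  obtain ⟨a, ha⟩ := hex
  obtain ⟨χ, hχ, hχa⟩ := Cx.exists_proj_ne (R_zero τ) (R_add τ) ha
  obtain ⟨v, rfl⟩ := chr_surjective hψ χ
  exact ⟨v, fun h => hχa (by simp [h, chr_apply]), Cx.eig_ne_bot hχ⟩

include hψ in
/-- products of vectors in distinct eigenspaces vanish -/
theorem herm_E {v w : Fin m → F} (hvw : v ≠ w) {x y : Fin d → ℂ}
    (hx : x ∈ E τ ψ v) (hy : y ∈ E τ ψ w) : herm τ x y = 0 := by
  obtain ⟨a, ha⟩ : ∃ a, chr ψ v a ≠ chr ψ w a := by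
    by_contra hcon
    push Not at hcon
    exact hvw (chr_injective hψ (DFunLike.ext _ _ hcon))
  have h := herm_ap τ (trA a) x y
  rw [(mem_E τ).mp hx, (mem_E τ).mp hy, herm_smul_left, herm_smul_right, ← mul_assoc] at h
  have hc : star (ψ (v ⬝ᵥ a)) = (ψ (v ⬝ᵥ a))⁻¹ := (AddChar.inv_apply_eq_conj ψ _).symm
  rw [hc] at h
  by_contra hne
  apply ha
  rw [chr_apply, chr_apply]
  have h' := mul_right_cancel₀ hne (h.trans (one_mul _).symm)
  have hv0 : ψ (v ⬝ᵥ a) ≠ 0 := fun e => by
    have := AddChar.map_add_eq_mul ψ (v ⬝ᵥ a) (-(v ⬝ᵥ a))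
    rw [e, zero_mul, add_neg_cancel, AddChar.map_zero_eq_one] at this
    exact one_ne_zero this
  exact (inv_mul_eq_one₀ hv0).mp h'

end Rep

end Cfsg.Agent.CrossChar56.SLExact
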