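import Cfsg.Agent.CrossChar56.SLExactAux
import Mathlib.LinearAlgebra.Projectivization.Cardinality

/-!
A representation of `SL_n` with a vector fixed by a vector stabiliser has degree at least
the number of projective points minus one.
-/

set_option autoImplicit false

noncomputable section

namespace Cfsg.Agent.CrossChar56

open Matrix

variable {F : Type*} [Field F] [Fintype F] {ι : Type*} [Fintype ι] [DecidableEq ι] {d : ℕ}

theorem fixed_degree (h3 : 3 ≤ Fintype.card ι)
    (τ : SpecialLinearGroup ι F →* GL (Fin d) ℂ)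
    (hfix : ∀ y, (∀ g, ap τ g y = y) → y = 0)
    {e : ι → F} (he : e ≠ 0) {x : Fin d → ℂ} (hx0 : x ≠ 0)
    (hx : ∀ g : SpecialLinearGroup ι F, g.1 *ᵥ e = e → ap τ g x = x) :
    Nat.card (Projectivization F (ι → F)) - 1 ≤ d := by
  classical
  haveI : Fintype (Projectivization F (ι → F)) := Fintype.ofFinite _
  have hmove : ∀ z : ι → F, z ≠ 0 → ∃ g : SpecialLinearGroup ι F, g.1 *ᵥ e = z :=
    fun z hz => exists_sl_col (by omega) he hz
  choose mv hmv using hmove
  let X : (ι → F) → Fin d → ℂ := fun z => if hz : z = 0 then 0 else ap τ (mv z hz) x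
  have hX0 : X 0 = 0 := by simp [X]
  have hinj : ∀ g : SpecialLinearGroup ι F, Function.Injective fun z => g.1 *ᵥ z := fun g =>
    Matrix.mulVec_injective_iff_isUnit.mpr (by rw [isUnit_iff_isUnit_det, g.2]; exact isUnit_one)
  have hXg : ∀ (g : SpecialLinearGroup ι F) z, ap τ g (X z) = X (g.1 *ᵥ z) := by
    intro g z
    by_cases hz : z = 0
    · subst hz; simp [hX0, ap_zero]
    have hgz : g.1 *ᵥ z ≠ 0 := fun h => hz (hinj g (h.trans (mulVec_zero g.1).symm))
    simp only [X, dif_neg hz, dif_neg hgz]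
    have h := hx ((mv _ hgz)⁻¹ * (g * mv z hz)) (by
      rw [SpecialLinearGroup.coe_mul, SpecialLinearGroup.coe_mul, ← mulVec_mulVec, ← mulVec_mulVec,
        hmv]
      have h2 := congrArg ((mv _ hgz)⁻¹.1 *ᵥ ·) (hmv _ hgz)
      rw [mulVec_mulVec, ← SpecialLinearGroup.coe_mul, inv_mul_cancel,
        SpecialLinearGroup.coe_one, one_mulVec] at h2
      exact h2.symm)
    conv_rhs => rw [← h, ← ap_mul, mul_inv_cancel_left]
    rw [← ap_mul]
  have hXe : X e = x := by
    simp only [X, dif_neg he]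
    exact hx _ (hmv e he)
  -- independent pairs have a common product
  have hpairs : ∀ z w z' w' : ι → F, z ≠ 0 → z' ≠ 0 → w ∉ F ∙ z → w' ∉ F ∙ z' →
      herm τ (X z) (X w) = herm τ (X z') (X w') := by
    intro z w z' w' hz hz' hw hw'
    obtain ⟨g, hg⟩ := exists_sl_col (by omega) hz hz'
    have hgw : g.1 *ᵥ w ∉ F ∙ z' := by
      intro h
      obtain ⟨c, hc⟩ := Submodule.mem_span_singleton.mp h
      apply hw
      rw [← hg, ← mulVec_smul] at hc
      exact Submodule.mem_span_singleton.mpr ⟨c, hinj g hc⟩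
    obtain ⟨k, hk1, hk2⟩ := exists_sl_fix h3 hz' hgw hw'
    rw [← herm_ap τ (k * g), hXg, hXg, SpecialLinearGroup.coe_mul, ← mulVec_mulVec, hg, hk1,
      ← mulVec_mulVec, hk2]
  let Z : Projectivization F (ι → F) → Fin d → ℂ := fun p => ∑ s : Fˣ, X ((s : F) • p.rep)
  have hrep : ∀ p p' : Projectivization F (ι → F), p ≠ p' → ∀ s : Fˣ,
      (s : F) • p'.rep ∉ F ∙ p.rep := by
    intro p p' hne s h
    apply hne
    obtain ⟨c, hc⟩ := Submodule.mem_span_singleton.mp h
    rw [← p.mk_rep, ← p'.mk_rep]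
    symm
    rw [Projectivization.mk_eq_mk_iff']
    refine ⟨(s : F)⁻¹ * c, ?_⟩
    rw [mul_smul, hc, smul_smul, inv_mul_cancel₀ s.ne_zero, one_smul]
  have hZsmul : ∀ (p : Projectivization F (ι → F)) (g : SpecialLinearGroup ι F) (z : ι → F)
      (hz : z ≠ 0), g.1 *ᵥ p.rep = z → ap τ g (Z p) = ∑ s : Fˣ, X ((s : F) • z) := by
    intro p g z hz hgz
    simp only [Z, ap_sum, hXg, mulVec_smul, hgz]
  have hZmk : ∀ (z : ι → F) (hz : z ≠ 0),
      ∑ s : Fˣ, X ((s : F) • z) = Z (Projectivization.mk F z hz) := by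
    intro z hz
    obtain ⟨u, hu⟩ := Projectivization.exists_smul_eq_mk_rep F z hz
    simp only [Z, ← hu, Units.smul_def, smul_smul]
    exact (Fintype.sum_equiv (Equiv.mulRight u) _ _ (fun s => by simp)).symm
  by_cases hZ : ∀ p, Z p = 0
  · -- the representatives are orthogonal
    refine le_trans ?_ (le_dim_of_equiangular τ (fun p : Projectivization F (ι → F) => X p.rep)
      (α := herm τ x x) (β := 0) (fun p => ?_) (fun p p' hne => ?_) ?_)
    · rw [Nat.card_eq_fintype_card]
    · obtain ⟨g, hg⟩ := exists_sl_col (by omega) he p.rep_nonzero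
      rw [← hg, ← hXg, herm_ap, hXe]
    · have h0 : herm τ (X p.rep) (Z p') = 0 := by rw [hZ p', herm_zero_right]
      simp only [Z, herm_sum_right] at h0
      have hc : ∀ s : Fˣ, herm τ (X p.rep) (X ((s : F) • p'.rep)) = herm τ (X p.rep) (X p'.rep) :=
        fun s => hpairs _ _ _ _ p.rep_nonzero p.rep_nonzero (hrep p p' hne s)
          (by simpa using hrep p p' hne 1)
      simp only [hc, Finset.sum_const, Finset.card_univ, nsmul_eq_mul, mul_eq_zero,
        Nat.cast_eq_zero] at h0
      exact h0.resolve_left Fintype.card_ne_zero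
    · exact fun h => hx0 (eq_zero_of_herm τ h)
  · push Not at hZ
    obtain ⟨p₀, hp₀⟩ := hZ
    have hall : ∀ p, ∃ g, ap τ g (Z p₀) = Z p := by
      intro p
      obtain ⟨g, hg⟩ := exists_sl_col (by omega) p₀.rep_nonzero p.rep_nonzero
      exact ⟨g, by rw [hZsmul p₀ g _ p.rep_nonzero hg]⟩
    by_cases hsub : ∀ p p' : Projectivization F (ι → F), p = p'
    · have : Subsingleton (Projectivization F (ι → F)) := ⟨hsub⟩
      rw [Nat.card_of_subsingleton p₀]
      exact Nat.zero_le _
    push Not at hsub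
    obtain ⟨p₁, p₂, h12⟩ := hsub
    let β : ℂ := herm τ (Z p₁) (Z p₂)
    have hβ : ∀ p p', p ≠ p' → herm τ (Z p) (Z p') = β := by
      intro p p' hne
      simp only [β, Z, herm_sum_left, herm_sum_right]
      refine Finset.sum_congr rfl fun s _ => Finset.sum_congr rfl fun t _ => ?_
      have hz : ∀ (p : Projectivization F (ι → F)) (u : Fˣ), (u : F) • p.rep ≠ 0 := fun p u =>
        smul_ne_zero u.ne_zero p.rep_nonzero
      refine hpairs _ _ _ _ (hz _ _) (hz _ _) ?_ ?_
      · rw [Submodule.span_singleton_smul_eq (Ne.isUnit t.ne_zero)]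
        exact hrep p p' hne _
      · rw [Submodule.span_singleton_smul_eq (Ne.isUnit t.ne_zero)]
        exact hrep p₁ p₂ h12 _
    refine le_trans ?_ (le_dim_of_equiangular τ Z (α := herm τ (Z p₀) (Z p₀)) (β := β)
      (fun p => ?_) hβ ?_)
    · rw [Nat.card_eq_fintype_card]
    · obtain ⟨g, hg⟩ := hall p
      rw [← hg, herm_ap]
    · intro hαβ
      apply hp₀
      apply hfix
      intro g
      have hne : g.1 *ᵥ p₀.rep ≠ 0 := fun h => p₀.rep_nonzero (hinj g (h.trans (mulVec_zero g.1).symm))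
      rw [hZsmul p₀ g _ hne rfl, hZmk _ hne]
      set p := Projectivization.mk F (g.1 *ᵥ p₀.rep) hne
      by_cases hp : p = p₀
      · rw [hp]
      rw [← sub_eq_zero]
      apply eq_zero_of_herm τ
      obtain ⟨g', hg'⟩ := hall p
      have hpp : herm τ (Z p) (Z p) = herm τ (Z p₀) (Z p₀) := by rw [← hg', herm_ap]
      rw [herm_sub_left, herm_sub_right, herm_sub_right, hpp, hβ _ _ hp, hβ _ _ (Ne.symm hp), hαβ]
      ring

end Cfsg.Agent.CrossChar56
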