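import Mathlib

/-!
The deleted permutation representation of a doubly transitive action is irreducible.
-/

set_option autoImplicit false

noncomputable section

namespace Cfsg.Agent.CrossChar56.Perm

open MulAction

theorem exists_irreducible {G X : Type*} [Group G] [Finite G] [MulAction G X] [Finite X]
    [IsMultiplyPretransitive G X 2] (hX : 2 ≤ Nat.card X) {k : ℕ} (hk : k + 1 = Nat.card X) :
    ∃ ρ : Representation ℂ G (Fin k → ℂ), ρ.IsIrreducible := by
  classical
  haveI : Fintype X := Fintype.ofFinite X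
  haveI : Fintype G := Fintype.ofFinite G
  rw [Nat.card_eq_fintype_card] at hX hk
  let tot : (X → ℂ) →ₗ[ℂ] ℂ := ∑ x, LinearMap.proj x
  have htot : ∀ f, tot f = ∑ x, f x := fun f => by simp [tot]
  let W := LinearMap.ker tot
  let act : G →* Module.End ℂ (X → ℂ) :=
    { toFun := fun g => LinearMap.funLeft ℂ ℂ (fun x => g⁻¹ • x)
      map_one' := by ext f x; simp [LinearMap.funLeft]
      map_mul' := fun g h => by ext f x; simp [LinearMap.funLeft, mul_smul] }
  have hact : ∀ g f x, act g f x = f (g⁻¹ • x) := fun g f x => rfl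
  have hW : ∀ g, ∀ f ∈ W, act g f ∈ W := fun g f hf => by
    show tot _ = 0
    rw [htot, ← LinearMap.mem_ker.mp hf, htot]
    exact Fintype.sum_equiv (MulAction.toPerm g⁻¹) _ _ (fun x => rfl)
  obtain ⟨x₁, x₂, h12⟩ := Fintype.exists_pair_of_one_lt_card (α := X) (by omega)
  have hdim : Module.finrank ℂ W = k := by
    have h1 : Function.Surjective tot := fun c => ⟨Pi.single x₁ c, by simp [htot]⟩
    have h2 := LinearMap.finrank_range_add_finrank_ker tot
    rw [LinearMap.range_eq_top.mpr h1, finrank_top, Module.finrank_self,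
      Module.finrank_fintype_fun_eq_card] at h2
    show Module.finrank ℂ (LinearMap.ker tot) = k
    omega
  let e : W ≃ₗ[ℂ] (Fin k → ℂ) :=
    LinearEquiv.ofFinrankEq _ _ (by rw [hdim, Module.finrank_fin_fun])
  let ρ : Representation ℂ G (Fin k → ℂ) :=
    { toFun := fun g => e.toLinearMap ∘ₗ (act g).restrict (hW g) ∘ₗ e.symm.toLinearMap
      map_one' := LinearMap.ext fun v => by
        show e ((act 1).restrict (hW 1) (e.symm v)) = v
        have h1 : (act 1).restrict (hW 1) (e.symm v) = e.symm v := Subtype.ext (by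
          rw [LinearMap.restrict_coe_apply, map_one]; rfl)
        rw [h1, LinearEquiv.apply_symm_apply]
      map_mul' := fun g h => by
        apply LinearMap.ext; intro v
        simp [LinearMap.restrict, LinearMap.codRestrict, LinearMap.domRestrict, Module.End.mul_apply] }
  have htrans : ∀ x y z : X, y ≠ x → z ≠ x → ∃ g : G, g • x = x ∧ g • y = z := fun x y z hy hz => by
    obtain ⟨g, h1, h2⟩ := ((MulAction.is_two_pretransitive_iff (G := G) (α := X)).mp inferInstance) hy.symm hz.symm
    exact ⟨g, h1, h2⟩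
  have key : ∀ U : Submodule ℂ (X → ℂ), U ≤ W → (∀ g, ∀ f ∈ U, act g f ∈ U) → U ≠ ⊥ → W ≤ U := by
    intro U hUW hU hne
    obtain ⟨f, hfU, hf⟩ := Submodule.exists_mem_ne_zero_of_ne_bot hne
    obtain ⟨x, hx⟩ := Function.ne_iff.mp hf
    let St := Finset.univ.filter (fun g : G => g • x = x)
    let f' : X → ℂ := ∑ g ∈ St, act g f
    have hf'U : f' ∈ U := Submodule.sum_mem _ fun g _ => hU g f hfU
    have hf'x : f' x = (St.card : ℂ) * f x := by
      simp only [f', Finset.sum_apply, hact]
      rw [Finset.sum_congr rfl (g := fun _ => f x) (fun g hg => by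
        rw [inv_smul_eq_iff.mpr (Finset.mem_filter.mp hg).2.symm])]
      simp
    obtain ⟨y₀, hy₀⟩ : ∃ y, y ≠ x := ⟨if x₁ = x then x₂ else x₁, by split_ifs with h <;> grind⟩
    have hconst : ∀ y, y ≠ x → f' y = f' y₀ := by
      intro y hy
      obtain ⟨g₀, h0, h1⟩ := htrans x y₀ y hy₀ hy
      simp only [f', Finset.sum_apply, hact]
      refine Finset.sum_equiv (Equiv.mulLeft g₀⁻¹) (fun g => ?_) (fun g _ => ?_)
      · simp [St, mul_smul, inv_smul_eq_iff, h0]
      · simp [mul_smul, h1]
    have hsum : f' x + ((Fintype.card X - 1 : ℕ) : ℂ) * f' y₀ = 0 := by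
      have h := LinearMap.mem_ker.mp (hUW hf'U)
      rw [htot, ← Finset.add_sum_erase _ _ (Finset.mem_univ x),
        Finset.sum_congr rfl (fun y hy => hconst y (Finset.ne_of_mem_erase hy)), Finset.sum_const,
        Finset.card_erase_of_mem (Finset.mem_univ x), Finset.card_univ, nsmul_eq_mul] at h
      exact h
    have hne' : f' x - f' y₀ ≠ 0 := by
      intro h
      rw [sub_eq_zero] at h
      rw [← h, ← one_add_mul] at hsum
      have hc : (1 : ℂ) + ((Fintype.card X - 1 : ℕ) : ℂ) ≠ 0 := by norm_cast; omega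
      have h0 := (mul_eq_zero.mp hsum).resolve_left hc
      rw [hf'x, mul_eq_zero, Nat.cast_eq_zero] at h0
      rcases h0 with h0 | h0
      · exact (Finset.card_pos.mpr ⟨1, by simp [St]⟩).ne' h0
      · exact hx h0
    -- `f'` is a combination of `δ_x` and the constant function
    have hpair : ∀ a b : X, (Pi.single a 1 - Pi.single b 1 : X → ℂ) ∈ U := by
      have hx' : ∀ z, ∃ g : G, g • x = z := fun z =>
        haveI : IsPretransitive G X := isPretransitive_of_is_two_pretransitive
        MulAction.exists_smul_eq G x z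
      intro a b
      obtain ⟨ga, hga⟩ := hx' a
      obtain ⟨gb, hgb⟩ := hx' b
      have : (Pi.single a 1 - Pi.single b 1 : X → ℂ) =
          (f' x - f' y₀)⁻¹ • (act ga f' - act gb f') := by
        have hval : ∀ g z, act g f' z = f' y₀ + if z = g • x then f' x - f' y₀ else 0 := by
          intro g z
          rw [hact]
          by_cases hz : z = g • x
          · simp [hz]
          · rw [if_neg hz, add_zero, hconst _ (fun h => hz (inv_smul_eq_iff.mp h))]
        funext z
        simp only [Pi.sub_apply, Pi.smul_apply, hval, hga, hgb, smul_eq_mul, Pi.single_apply]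
        split_ifs <;> field_simp <;> ring
      rw [this]
      exact Submodule.smul_mem _ _ (sub_mem (hU _ _ hf'U) (hU _ _ hf'U))
    intro w hw
    have : w = ∑ z, w z • (Pi.single z 1 - Pi.single x 1 : X → ℂ) := by
      have h0 : ∑ z, w z = 0 := (htot w).symm.trans (LinearMap.mem_ker.mp hw)
      simp only [smul_sub, Finset.sum_sub_distrib, ← Finset.sum_smul, h0, zero_smul, sub_zero]
      exact pi_eq_sum_univ' w
    rw [this]
    exact Submodule.sum_mem _ fun z _ => Submodule.smul_mem _ _ (hpair z x)
  refine ⟨ρ, ?_⟩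
  haveI : Nontrivial (Subrepresentation ρ) := by
    refine ⟨⟨⊥, fun g v hv => by simp [(Submodule.mem_bot ℂ).mp hv]⟩,
      ⟨⊤, fun _ _ _ => Submodule.mem_top⟩, fun h => ?_⟩
    have h' := congrArg (fun S : Subrepresentation ρ => Module.finrank ℂ S.toSubmodule) h
    simp [Module.finrank_fin_fun] at h'
    omega
  refine ⟨fun S => ?_⟩
  by_cases hS : S.toSubmodule = ⊥
  · exact Or.inl (Subrepresentation.toSubmodule_injective hS)
  refine Or.inr (Subrepresentation.toSubmodule_injective (Submodule.eq_top_iff'.mpr fun v => ?_))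
  have h := key ((S.toSubmodule.comap e.toLinearMap).map W.subtype) (Submodule.map_subtype_le _ _)
    (fun g f hf => by
      obtain ⟨w, hw, rfl⟩ := Submodule.mem_map.mp hf
      refine Submodule.mem_map.mpr ⟨(act g).restrict (hW g) w, ?_, rfl⟩
      show e _ ∈ S.toSubmodule
      have h1 := S.apply_mem_toSubmodule g (show e w ∈ S.toSubmodule from hw)
      simpa [ρ] using h1)
    (fun h => hS (by
      rw [Submodule.eq_bot_iff]
      intro v hv
      have h1 : ((e.symm v : W) : X → ℂ) ∈ (S.toSubmodule.comap e.toLinearMap).map W.subtype :=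
        Submodule.mem_map.mpr ⟨e.symm v, by simpa using hv, rfl⟩
      rw [h, Submodule.mem_bot] at h1
      exact (LinearEquiv.map_eq_zero_iff e.symm).mp (Subtype.ext h1)))
  obtain ⟨w, hw, hwv⟩ := Submodule.mem_map.mp (h (e.symm v).2)
  rw [Subtype.ext hwv] at hw
  simpa using hw

end Cfsg.Agent.CrossChar56.Perm
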