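import Cfsg.Agent.CrossChar56.SLExactAux
import Cfsg.Agent.Lib.CharCore.Basic
import Cfsg.Agent.Lib.CharInd.Char
import Mathlib.LinearAlgebra.Projectivization.Cardinality
import Mathlib.LinearAlgebra.Projectivization.Action
import Mathlib.Analysis.Fourier.FiniteAbelian.PontryaginDuality

/-!
The permutation character of `SL_n(q)` on non-zero vectors.
-/

set_option autoImplicit false

noncomputable section

namespace Cfsg.Agent.CrossChar56.PermChar

open Matrix MulAction

/-- Norm of a permutation character. -/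
theorem inner_fixed {G X : Type*} [Group G] [Fintype G] [MulAction G X] [Finite X] :
    Cfsg.classInner (fun g : G => (Nat.card (fixedBy X g) : ℂ))
        (fun g => (Nat.card (fixedBy X g) : ℂ)) =
      (Nat.card (Quotient (orbitRel G (X × X))) : ℂ) := by
  classical
  haveI : Fintype X := Fintype.ofFinite X
  haveI : Fintype (Quotient (orbitRel G (X × X))) := Fintype.ofFinite _
  have h := MulAction.sum_card_fixedBy_eq_card_orbits_mul_card_group G (X × X)
  have hfix : ∀ g : G, Fintype.card (fixedBy (X × X) g) =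
      Fintype.card (fixedBy X g) * Fintype.card (fixedBy X g) := by
    intro g
    rw [← Fintype.card_prod]
    refine Fintype.card_congr
      ⟨fun p => (⟨p.1.1, (Prod.ext_iff.mp p.2).1⟩, ⟨p.1.2, (Prod.ext_iff.mp p.2).2⟩),
        fun p => ⟨(p.1.1, p.2.1), Prod.ext p.1.2 p.2.2⟩, fun p => rfl, fun p => rfl⟩
  simp only [hfix] at h
  simp only [Cfsg.classInner, Nat.card_eq_fintype_card, Complex.conj_natCast]
  have h' := congrArg (Nat.cast : ℕ → ℂ) h
  push_cast at h'
  rw [h', mul_comm (Fintype.card (Quotient _) : ℂ), ← mul_assoc,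
    inv_mul_cancel₀ (Nat.cast_ne_zero.mpr Fintype.card_ne_zero), one_mul]

theorem inner_fixed_one {G X : Type*} [Group G] [Fintype G] [MulAction G X] [Finite X] :
    Cfsg.classInner (fun g : G => (Nat.card (fixedBy X g) : ℂ)) 1 =
      (Nat.card (Quotient (orbitRel G X)) : ℂ) := by
  classical
  haveI : Fintype X := Fintype.ofFinite X
  haveI : Fintype (Quotient (orbitRel G X)) := Fintype.ofFinite _
  have h := congrArg (Nat.cast : ℕ → ℂ)
    (MulAction.sum_card_fixedBy_eq_card_orbits_mul_card_group G X)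
  push_cast at h
  simp only [Cfsg.classInner, Nat.card_eq_fintype_card, Pi.one_apply, map_one, mul_one]
  rw [h, mul_comm (Fintype.card (Quotient _) : ℂ), ← mul_assoc,
    inv_mul_cancel₀ (Nat.cast_ne_zero.mpr Fintype.card_ne_zero), one_mul]

/-- Characters whose sum has the least possible norm are irreducible and distinct. -/
theorem sum_norm_extremal {G : Type*} [Group G] [Fintype G] {ι : Type*} [Fintype ι] [DecidableEq ι]
    (f : ι → G → ℂ) (hf : ∀ i, Cfsg.IsCharacter G (f i)) (i₀ : ι)
    (h0 : Cfsg.classInner (f i₀) (f i₀) = 2) (hne : ∀ i, f i ≠ 0)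
    (hsum : Cfsg.classInner (∑ i, f i) (∑ i, f i) = (Fintype.card ι : ℂ) + 1) :
    (∀ i, i ≠ i₀ → Cfsg.IsIrrCharacter G (f i)) ∧
      ∀ i j, i ≠ j → Cfsg.classInner (f i) (f j) = 0 := by
  choose n hn using fun i j => CharCore.IsCharacter.exists_classInner_eq_natCast (hf i) (hf j)
  have hdiag : ∀ i, 1 ≤ n i i := by
    intro i
    by_contra h
    apply hne i
    obtain ⟨m, hm⟩ := CharCore.IsCharacter.exists_sum (hf i)
    have h' : Cfsg.classInner (f i) (f i) = 0 := by rw [hn, show n i i = 0 by omega]; simp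
    rw [hm, CharCore.classInner_sum_sum] at h'
    simp only [Complex.conj_natCast] at h'
    have h'' : ∑ ψ, m ψ * m ψ = 0 := by exact_mod_cast h'
    rw [hm]
    refine Finset.sum_eq_zero fun ψ _ => ?_
    have := (Finset.sum_eq_zero_iff.mp h'') ψ (Finset.mem_univ ψ)
    rw [mul_self_eq_zero.mp this]; simp
  rw [CharCore.classInner_sum_left] at hsum
  simp only [CharCore.classInner_sum_right, hn] at hsum
  have hs : ∑ i, ∑ j, n i j = Fintype.card ι + 1 := by exact_mod_cast hsum
  have h20 : n i₀ i₀ = 2 := by rw [hn] at h0; exact_mod_cast h0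
  -- compare with the least possible value
  let low : ι → ι → ℕ := fun i j => if i = j then (if i = i₀ then 2 else 1) else 0
  have hle : ∀ p ∈ (Finset.univ : Finset (ι × ι)), low p.1 p.2 ≤ n p.1 p.2 := by
    rintro ⟨i, j⟩ -
    simp only [low]
    split_ifs with h h'
    · subst h h'; omega
    · subst h; exact hdiag i
    · exact Nat.zero_le _
  have hlow : ∑ p : ι × ι, low p.1 p.2 = Fintype.card ι + 1 := by
    rw [Fintype.sum_prod_type]
    simp only [low, Finset.sum_ite_eq, Finset.mem_univ, if_true]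
    rw [← Finset.add_sum_erase _ _ (Finset.mem_univ i₀), if_pos rfl,
      Finset.sum_congr rfl (fun i hi => if_neg (Finset.ne_of_mem_erase hi)), Finset.sum_const,
      Finset.card_erase_of_mem (Finset.mem_univ _), Finset.card_univ, smul_eq_mul, mul_one]
    have : 0 < Fintype.card ι := Fintype.card_pos_iff.mpr ⟨i₀⟩
    omega
  have heq : ∀ p : ι × ι, low p.1 p.2 = n p.1 p.2 := fun p =>
    (Finset.sum_eq_sum_iff_of_le hle).mp
      (by rw [hlow, Fintype.sum_prod_type, hs]) p (Finset.mem_univ p)
  refine ⟨fun i hi => CharCore.isIrrCharacter_iff.mpr ⟨hf i, ?_⟩, fun i j hij => ?_⟩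
  · rw [hn, ← heq (i, i)]; simp [low, hi]
  · rw [hn, ← heq (i, j)]; simp [low, hij]

variable {F : Type*} [Field F] [Fintype F] [DecidableEq F] {n : ℕ}

omit [Fintype F] [DecidableEq F] in
theorem mulVec_coe_mul (g h : SpecialLinearGroup (Fin n) F) (v : Fin n → F) :
    (g * h).1 *ᵥ v = g.1 *ᵥ (h.1 *ᵥ v) := by
  show (g.1 * h.1) *ᵥ v = _
  rw [mulVec_mulVec]

/-- non-zero vectors -/
abbrev NZ (n : ℕ) (F : Type*) [Field F] : Type _ := {v : Fin n → F // v ≠ 0}

instance instMulActionNZ : MulAction (SpecialLinearGroup (Fin n) F) (NZ n F) where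
  smul g v := ⟨g.1 *ᵥ v.1, fun h => v.2 (Matrix.mulVec_injective_iff_isUnit.mpr
    (by rw [isUnit_iff_isUnit_det, g.2]; exact isUnit_one) (h.trans (mulVec_zero g.1).symm))⟩
  one_smul v := Subtype.ext (show (1 : SpecialLinearGroup (Fin n) F).1 *ᵥ v.1 = v.1 by simp)
  mul_smul g h v := Subtype.ext (show (g * h).1 *ᵥ v.1 = g.1 *ᵥ (h.1 *ᵥ v.1) from
    mulVec_coe_mul g h v.1)

theorem nz_smul_val (g : SpecialLinearGroup (Fin n) F) (v : NZ n F) : (g • v).1 = g.1 *ᵥ v.1 := rfl

/-- invariant of a pair of non-zero vectors -/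
theorem card_orbits_pairs (hn : 3 ≤ n) :
    Nat.card (Quotient (orbitRel (SpecialLinearGroup (Fin n) F) (NZ n F × NZ n F))) =
      Fintype.card F := by
  classical
  have hcard : 2 ≤ Fintype.card (Fin n) := by simp; omega
  have hcard3 : 3 ≤ Fintype.card (Fin n) := by simp; omega
  let e₀ : Fin n → F := Pi.single ⟨0, by omega⟩ 1
  let e₁ : Fin n → F := Pi.single ⟨1, by omega⟩ 1
  have he₀ : e₀ ≠ 0 := by simp [e₀]
  have he₁ : e₁ ≠ 0 := by simp [e₁]
  have he₁' : e₁ ∉ F ∙ e₀ := by
    intro h
    obtain ⟨c, hc⟩ := Submodule.mem_span_singleton.mp h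
    have := congrFun hc ⟨1, by omega⟩
    simp [e₀, e₁, Pi.single_apply] at this
  let base : Option Fˣ → NZ n F × NZ n F := fun o => match o with
    | none => (⟨e₀, he₀⟩, ⟨e₁, he₁⟩)
    | some s => (⟨e₀, he₀⟩, ⟨(s : F) • e₀, smul_ne_zero s.ne_zero he₀⟩)
  let f : Option Fˣ → Quotient (orbitRel (SpecialLinearGroup (Fin n) F) (NZ n F × NZ n F)) :=
    fun o => Quotient.mk'' (base o)
  have hf : Function.Bijective f := by
    constructor
    · intro a b h
      obtain ⟨g, hg⟩ : base a ∈ orbit (SpecialLinearGroup (Fin n) F) (base b) :=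
        Quotient.eq''.mp h
      have h1 : g.1 *ᵥ (base b).1.1 = (base a).1.1 := congrArg (fun p => p.1.1) hg
      have h2 : g.1 *ᵥ (base b).2.1 = (base a).2.1 := congrArg (fun p => p.2.1) hg
      rcases a with _ | s <;> rcases b with _ | t
      · rfl
      · exfalso
        simp only [base, mulVec_smul] at h1 h2
        rw [h1] at h2
        exact he₁' (Submodule.mem_span_singleton.mpr ⟨t, h2⟩)
      · exfalso
        simp only [base] at h1 h2
        apply he₁'
        refine Submodule.mem_span_singleton.mpr ⟨s, Matrix.mulVec_injective_iff_isUnit.mpr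
          (show IsUnit g.1 by rw [isUnit_iff_isUnit_det, g.2]; exact isUnit_one) ?_⟩
        show g.1 *ᵥ ((s : F) • e₀) = g.1 *ᵥ e₁
        rw [mulVec_smul, h1, h2]
      · simp only [base, mulVec_smul] at h1 h2
        rw [h1] at h2
        exact congrArg some (Units.ext (smul_left_injective F he₀ h2.symm))
    · intro z
      obtain ⟨⟨x, y⟩, rfl⟩ := Quotient.exists_rep z
      obtain ⟨g, hg⟩ := exists_sl_col hcard he₀ x.2
      by_cases hy : y.1 ∈ F ∙ x.1
      · obtain ⟨c, hc⟩ := Submodule.mem_span_singleton.mp hy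
        have hc0 : c ≠ 0 := by rintro rfl; exact y.2 (by rw [← hc, zero_smul])
        refine ⟨some (Units.mk0 c hc0), Quotient.sound ?_⟩
        refine ⟨g⁻¹, ?_⟩
        have hx : x = g • (⟨e₀, he₀⟩ : NZ n F) := Subtype.ext hg.symm
        have hy' : y = g • (⟨c • e₀, smul_ne_zero hc0 he₀⟩ : NZ n F) := Subtype.ext (by
          rw [nz_smul_val, mulVec_smul, hg, hc])
        show (g⁻¹ • x, g⁻¹ • y) = _
        rw [hx, hy', inv_smul_smul, inv_smul_smul]
        rfl
      · have hge : g.1 *ᵥ e₁ ∉ F ∙ x.1 := by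
          intro h
          obtain ⟨c, hc⟩ := Submodule.mem_span_singleton.mp h
          rw [← hg, ← mulVec_smul] at hc
          exact he₁' (Submodule.mem_span_singleton.mpr ⟨c, Matrix.mulVec_injective_iff_isUnit.mpr
            (show IsUnit g.1 by rw [isUnit_iff_isUnit_det, g.2]; exact isUnit_one) hc⟩)
        obtain ⟨k, hk1, hk2⟩ := exists_sl_fix hcard3 x.2 hge hy
        refine ⟨none, Quotient.sound ⟨(k * g)⁻¹, ?_⟩⟩
        have hx : x = (k * g) • (⟨e₀, he₀⟩ : NZ n F) := Subtype.ext (by
          rw [nz_smul_val, mulVec_coe_mul, hg, hk1])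
        have hy' : y = (k * g) • (⟨e₁, he₁⟩ : NZ n F) := Subtype.ext (by
          rw [nz_smul_val, mulVec_coe_mul, hk2])
        show ((k * g)⁻¹ • x, (k * g)⁻¹ • y) = _
        rw [hx, hy', inv_smul_smul, inv_smul_smul]
  rw [← Nat.card_congr (Equiv.ofBijective f hf), Nat.card_eq_fintype_card, Fintype.card_option,
    Fintype.card_units]
  have := Fintype.one_lt_card (α := F)
  omega

theorem perm_character_decomposition (hn : 3 ≤ n) :
    ∃ χ : Fin (Fintype.card F - 1) → (SpecialLinearGroup (Fin n) F → ℂ),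
      (∀ i, Cfsg.IsIrrCharacter (SpecialLinearGroup (Fin n) F) (χ i)) ∧ Function.Injective χ ∧
      ∀ g : SpecialLinearGroup (Fin n) F,
        (Nat.card {v : Fin n → F // v ≠ 0 ∧ g.1 *ᵥ v = v} : ℂ) = 1 + ∑ i, χ i g := by
  classical
  haveI : Fintype (Projectivization F (Fin n → F)) := Fintype.ofFinite _
  set G := SpecialLinearGroup (Fin n) F
  let P := Projectivization F (Fin n → F)
  have hinj : ∀ g : G, Function.Injective fun z => g.1 *ᵥ z := fun g =>
    Matrix.mulVec_injective_iff_isUnit.mpr (by rw [isUnit_iff_isUnit_det, g.2]; exact isUnit_one)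
  have hsm : ∀ (g : G) (p : P), ∃ c : Fˣ, g.1 *ᵥ p.rep = (c : F) • (g • p).rep := by
    intro g p
    have hne : g.1 *ᵥ p.rep ≠ 0 := fun h => p.rep_nonzero (hinj g (h.trans (mulVec_zero g.1).symm))
    have hp : g • p = Projectivization.mk F (g.1 *ᵥ p.rep) hne := by
      conv_lhs => rw [← p.mk_rep, Projectivization.smul_mk]
      rfl
    obtain ⟨u, hu⟩ := Projectivization.exists_smul_eq_mk_rep F _ hne
    refine ⟨u⁻¹, ?_⟩
    rw [hp, ← hu, Units.smul_def, smul_smul, ← Units.val_mul, inv_mul_cancel, Units.val_one,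
      one_smul]
  choose co hco using hsm
  have hco_eq : ∀ (g : G) (p : P) (c : Fˣ), g.1 *ᵥ p.rep = (c : F) • (g • p).rep → c = co g p :=
    fun g p c h => Units.ext (smul_left_injective F (g • p).rep_nonzero (h.symm.trans (hco g p)))
  have hco_one : ∀ p : P, co 1 p = 1 := fun p => (hco_eq 1 p 1 (by simp)).symm
  have hco_mul : ∀ (g h : G) (p : P), co (g * h) p = co g (h • p) * co h p := fun g h p =>
    (hco_eq (g * h) p _ (by
      rw [mulVec_coe_mul, hco, mulVec_smul, hco, mul_smul, smul_smul,
        ← Units.val_mul, mul_comm])).symm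
  let M : (AddChar (Additive Fˣ) ℂ) → G → Matrix P P ℂ := fun θ g =>
    Matrix.of fun r p => if g • p = r then θ (Additive.ofMul (co g p)) else 0
  have hM1 : ∀ θ, M θ 1 = 1 := fun θ => by
    ext r p
    simp only [M, of_apply, one_smul, hco_one, ofMul_one, Matrix.one_apply, eq_comm (a := r)]
    split_ifs <;> simp [AddChar.map_zero_eq_one]
  have hMmul : ∀ θ g h, M θ (g * h) = M θ g * M θ h := fun θ g h => by
    ext r p
    rw [Matrix.mul_apply, Finset.sum_eq_single (h • p)]
    · simp only [M, of_apply, mul_smul, hco_mul, ofMul_mul, ite_mul, zero_mul, if_true]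
      split_ifs <;> simp [AddChar.map_add_eq_mul]
    · intro b _ hb
      simp [M, Ne.symm hb]
    · simp
  let ρ : (AddChar (Additive Fˣ) ℂ) → Representation ℂ G (P → ℂ) := fun θ =>
    { toFun := fun g => Matrix.toLinAlgEquiv' (M θ g)
      map_one' := by rw [hM1, map_one]
      map_mul' := fun g h => by rw [hMmul, map_mul] }
  let f : (AddChar (Additive Fˣ) ℂ) → G → ℂ := fun θ g => ∑ p : P, if g • p = p then θ (Additive.ofMul (co g p)) else 0
  have hf : ∀ θ, Cfsg.IsCharacter G (f θ) := by
    intro θ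
    convert CharInd.isCharacter_of_rep (ρ θ) using 1
    funext g
    show _ = LinearMap.trace ℂ (P → ℂ) (Matrix.toLin' (M θ g))
    rw [Matrix.trace_toLin'_eq]
    exact Finset.sum_congr rfl fun p _ => rfl
  have hf1 : ∀ θ, f θ 1 = (Fintype.card P : ℂ) := fun θ => by
    simp [f, hco_one, Finset.card_univ]
  have hP3 : 3 ≤ Fintype.card P := by
    rw [← Nat.card_eq_fintype_card, Projectivization.card'' F, Nat.card_fun, Nat.card_fin,
      Nat.card_eq_fintype_card, Nat.le_div_iff_mul_le (by
        have := Fintype.one_lt_card (α := F); omega)]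
    have hq := Fintype.one_lt_card (α := F)
    have : Fintype.card F ^ 2 * 2 ≤ Fintype.card F ^ n := by
      calc Fintype.card F ^ 2 * 2 ≤ Fintype.card F ^ 2 * Fintype.card F := Nat.mul_le_mul_left _ hq
        _ = Fintype.card F ^ 3 := by ring
        _ ≤ _ := Nat.pow_le_pow_right (by omega) hn
    have : 2 * Fintype.card F ≤ Fintype.card F ^ 2 := by nlinarith
    omega
  have hne : ∀ θ, f θ ≠ 0 := fun θ h => by
    have := hf1 θ
    rw [h, Pi.zero_apply] at this
    have h' : Fintype.card P = 0 := by exact_mod_cast this.symm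
    omega
  -- the sum is the permutation character
  have hfix : ∀ g : G, ∑ θ, f θ g = (Nat.card (fixedBy (NZ n F) g) : ℂ) := by
    intro g
    simp only [f]
    rw [Finset.sum_comm]
    have h1 : ∀ p : P, (∑ θ : (AddChar (Additive Fˣ) ℂ), if g • p = p then θ (Additive.ofMul (co g p)) else 0) =
        if g • p = p ∧ co g p = 1 then ((Fintype.card Fˣ : ℕ) : ℂ) else 0 := by
      intro p
      by_cases hp : g • p = p
      · simp only [hp, if_true, true_and]
        rw [AddChar.sum_apply_eq_ite]
        by_cases hc : co g p = 1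
        · simp [hc]
        · simp [hc, ofMul_eq_zero]
      · simp [hp]
    simp only [h1]
    rw [← Finset.sum_filter, Finset.sum_const, nsmul_eq_mul, ← Nat.cast_mul]
    congr 1
    rw [← Fintype.card_subtype, ← Fintype.card_prod, ← Nat.card_eq_fintype_card]
    refine Nat.card_congr (Equiv.ofBijective (fun x => ⟨⟨(x.2 : F) • x.1.1.rep,
      smul_ne_zero x.2.ne_zero x.1.1.rep_nonzero⟩, Subtype.ext ?_⟩) ⟨?_, ?_⟩)
    · obtain ⟨⟨p, hp1, hp2⟩, s⟩ := x
      show g.1 *ᵥ ((s : F) • p.rep) = (s : F) • p.rep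
      rw [mulVec_smul, hco, hp2, hp1, Units.val_one, one_smul]
    · rintro ⟨⟨p, hp⟩, s⟩ ⟨⟨p', hp'⟩, s'⟩ h
      have h' : (s : F) • p.rep = (s' : F) • p'.rep := congrArg (fun v => v.1.1) h
      have hpp : p = p' := by
        rw [← p.mk_rep, ← p'.mk_rep, Projectivization.mk_eq_mk_iff']
        exact ⟨(s : F)⁻¹ * s', by rw [mul_smul, ← h', smul_smul, inv_mul_cancel₀ s.ne_zero, one_smul]⟩
      subst hpp
      exact Prod.ext rfl (Units.ext (smul_left_injective F p.rep_nonzero h'))
    · rintro ⟨⟨v, hv⟩, hgv⟩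
      obtain ⟨u, hu⟩ := Projectivization.exists_smul_eq_mk_rep F v hv
      have hgv' : g.1 *ᵥ v = v := congrArg Subtype.val hgv
      set p := Projectivization.mk F v hv with hp
      have hgp : g • p = p := by
        rw [hp, Projectivization.smul_mk]
        exact (Projectivization.mk_eq_mk_iff' _ _ _ _ _).mpr ⟨1, by
          rw [one_smul]; exact hgv'.symm⟩
      have hc : co g p = 1 := (hco_eq g p 1 (by
        rw [hgp, ← hu, Units.smul_def, mulVec_smul, hgv', Units.val_one, one_smul])).symm
      refine ⟨(⟨p, hgp, hc⟩, u⁻¹), Subtype.ext (Subtype.ext ?_)⟩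
      show ((u⁻¹ : Fˣ) : F) • p.rep = v
      rw [← hu, Units.smul_def, smul_smul, ← Units.val_mul, inv_mul_cancel, Units.val_one, one_smul]
  -- the two norms
  have htot : Cfsg.classInner (∑ θ, f θ) (∑ θ, f θ) = (Fintype.card (AddChar (Additive Fˣ) ℂ) : ℂ) + 1 := by
    have he : (∑ θ, f θ) = fun g : G => (Nat.card (fixedBy (NZ n F) g) : ℂ) := by
      funext g; rw [Finset.sum_apply]; exact hfix g
    rw [he, inner_fixed, card_orbits_pairs hn]
    have : Fintype.card (AddChar (Additive Fˣ) ℂ) + 1 = Fintype.card F := by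
      rw [AddChar.card_eq, Fintype.card_additive, Fintype.card_units]
      have := Fintype.one_lt_card (α := F); omega
    exact_mod_cast this.symm
  have hf0 : f 0 = fun g : G => (Nat.card (fixedBy P g) : ℂ) := by
    funext g
    simp only [f, AddChar.zero_apply]
    rw [← Finset.sum_filter, Finset.sum_const, nsmul_eq_mul, mul_one, Nat.card_eq_fintype_card]
    congr 1
    rw [← Fintype.card_subtype]
    exact Fintype.card_congr (Equiv.subtypeEquivRight fun p => Iff.rfl)
  haveI h2t : IsMultiplyPretransitive G P 2 := inferInstance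
  haveI : IsPretransitive G P := isPretransitive_of_is_two_pretransitive
  obtain ⟨p₁, p₂, h12⟩ := Fintype.exists_pair_of_one_lt_card (α := P) (by omega)
  have h00 : Cfsg.classInner (f 0) (f 0) = 2 := by
    rw [hf0, inner_fixed]
    have hb : Nat.card (Quotient (orbitRel G (P × P))) = 2 := by
      let g2 : Bool → Quotient (orbitRel G (P × P)) := fun b =>
        Quotient.mk'' (if b then (p₁, p₁) else (p₁, p₂))
      have hbij : Function.Bijective g2 := by
        constructor
        · intro a b h
          obtain ⟨g, hg⟩ : (if a then (p₁, p₁) else (p₁, p₂)) ∈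
              orbit G (if b then (p₁, p₁) else (p₁, p₂)) := Quotient.eq''.mp h
          cases a <;> cases b <;> simp only [if_true, if_false, Bool.false_eq_true] at hg ⊢
          · exact absurd ((congrArg Prod.fst hg).symm.trans (congrArg Prod.snd hg)) h12
          · exfalso
            exact h12 (MulAction.injective g ((congrArg Prod.fst hg).trans (congrArg Prod.snd hg).symm))
        · intro z
          obtain ⟨⟨x, y⟩, rfl⟩ := Quotient.exists_rep z
          by_cases hxy : x = y
          · subst hxy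
            obtain ⟨g, hg⟩ := MulAction.exists_smul_eq G x p₁
            exact ⟨true, Quotient.sound ⟨g, Prod.ext hg hg⟩⟩
          · obtain ⟨g, hg1, hg2⟩ :=
              (MulAction.is_two_pretransitive_iff (G := G) (α := P)).mp h2t hxy h12
            exact ⟨false, Quotient.sound ⟨g, Prod.ext hg1 hg2⟩⟩
      rw [← Nat.card_congr (Equiv.ofBijective g2 hbij)]
      simp
    rw [hb]; norm_num
  have h01 : Cfsg.classInner (f 0) 1 = 1 := by
    rw [hf0, inner_fixed_one]
    haveI : Subsingleton (Quotient (orbitRel G P)) :=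
      ⟨fun a b => Quotient.inductionOn₂ a b fun x y => Quotient.sound (MulAction.exists_smul_eq G y x)⟩
    rw [Nat.card_of_subsingleton (Quotient.mk'' p₁), Nat.cast_one]
  obtain ⟨hirr, horth⟩ := sum_norm_extremal f hf 0 h00 hne htot
  have hred : Cfsg.IsIrrCharacter G (f 0 - 1) := by
    obtain ⟨m, hm⟩ := CharCore.IsCharacter.exists_sum (hf 0)
    let one' : Cfsg.IrrCharacter G := ⟨1, CharCore.isIrrCharacter_one⟩
    have hm1 : m one' = 1 := by
      have h := CharCore.classInner_sum_all (fun ψ => (m ψ : ℂ)) one'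
      rw [← hm] at h
      have := h.symm.trans h01
      exact_mod_cast this
    refine CharCore.isIrrCharacter_iff.mpr ⟨?_, ?_⟩
    · have he : f 0 - 1 = ∑ ψ : Cfsg.IrrCharacter G,
          (((if ψ = one' then 0 else m ψ : ℕ)) : ℂ) • (ψ : G → ℂ) := by
        rw [sub_eq_iff_eq_add, hm, ← Finset.add_sum_erase _ _ (Finset.mem_univ one'),
          ← Finset.add_sum_erase _ _ (Finset.mem_univ one'), hm1, if_pos rfl]
        rw [Finset.sum_congr rfl (fun ψ hψ => by rw [if_neg (Finset.ne_of_mem_erase hψ)] :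
          ∀ ψ ∈ Finset.univ.erase one', (((if ψ = one' then 0 else m ψ : ℕ)) : ℂ) • (ψ : G → ℂ) =
            (m ψ : ℂ) • (ψ : G → ℂ))]
        simp [one', add_comm]
      rw [he]
      exact CharCore.isCharacter_sum_irr _
    · rw [CharCore.classInner_sub_left, CharCore.classInner_sub_right, CharCore.classInner_sub_right,
        h00, h01]
      have h10 : Cfsg.classInner (1 : G → ℂ) (f 0) = 1 := by
        rw [← CharCore.conj_classInner, h01, map_one]
      have h11 : Cfsg.classInner (1 : G → ℂ) 1 = 1 := CharCore.classInner_irr_self one'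
      rw [h10, h11]; norm_num
  -- assemble
  let χ' : (AddChar (Additive Fˣ) ℂ) → G → ℂ := fun θ => if θ = 0 then f 0 - 1 else f θ
  have hχinj : Function.Injective χ' := by
    intro a b h
    by_contra hab
    by_cases ha : a = 0
    · have hb : b ≠ 0 := fun e => hab (ha.trans e.symm)
      simp only [χ', ha, if_true, if_neg hb] at h
      have := congrFun h 1
      rw [Pi.sub_apply, hf1, hf1, Pi.one_apply, sub_eq_self] at this
      exact one_ne_zero this
    · by_cases hb : b = 0
      · simp only [χ', hb, if_true, if_neg ha] at h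
        have := congrFun h 1
        rw [Pi.sub_apply, hf1, hf1, Pi.one_apply, eq_comm, sub_eq_self] at this
        exact one_ne_zero this
      · simp only [χ', if_neg ha, if_neg hb] at h
        have h1 := horth a b hab
        rw [← h, (CharCore.isIrrCharacter_iff.mp (hirr a ha)).2] at h1
        exact one_ne_zero h1
  have hΘ : Fintype.card (AddChar (Additive Fˣ) ℂ) = Fintype.card F - 1 := by
    rw [AddChar.card_eq, Fintype.card_additive, Fintype.card_units]
  let e : Fin (Fintype.card F - 1) ≃ (AddChar (Additive Fˣ) ℂ) := (Fintype.equivFinOfCardEq hΘ).symm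
  refine ⟨fun i => χ' (e i), fun i => ?_, hχinj.comp e.injective, fun g => ?_⟩
  · by_cases h : e i = 0
    · simp only [χ', h, if_true]; exact hred
    · simp only [χ', if_neg h]; exact hirr _ h
  · have hR : ∑ i, χ' (e i) g = ∑ θ, χ' θ g := e.sum_comp (fun θ => χ' θ g)
    have hN : Nat.card {v : Fin n → F // v ≠ 0 ∧ g.1 *ᵥ v = v} = Nat.card (fixedBy (NZ n F) g) :=
      Nat.card_congr ⟨fun v => ⟨⟨v.1, v.2.1⟩, Subtype.ext v.2.2⟩,
        fun v => ⟨v.1.1, v.1.2, congrArg Subtype.val v.2⟩, fun v => rfl, fun v => rfl⟩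
    rw [hR, hN, ← hfix g, ← Finset.add_sum_erase _ (fun θ => χ' θ g) (Finset.mem_univ (0 : (AddChar (Additive Fˣ) ℂ))),
      ← Finset.add_sum_erase _ (fun θ => f θ g) (Finset.mem_univ (0 : (AddChar (Additive Fˣ) ℂ)))]
    rw [Finset.sum_congr rfl (fun θ hθ => by simp [χ', Finset.ne_of_mem_erase hθ] :
      ∀ θ ∈ Finset.univ.erase (0 : (AddChar (Additive Fˣ) ℂ)), χ' θ g = f θ g)]
    simp [χ']

end Cfsg.Agent.CrossChar56.PermChar
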