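import Cfsg.Agent.CrossChar56.SUGroup
import Cfsg.Agent.CrossChar56.HermOrbit
import Cfsg.Agent.CrossChar56.Mult

/-!
Minimal degrees of complex representations of `SU_n(q)`.
-/

set_option autoImplicit false

noncomputable section

namespace Cfsg.Agent.CrossChar56.SU

open Matrix

variable {F : Type*} [Field F] [Fintype F] {q m r n : ℕ}

/-- Hermitian matrices -/
def Hm (σ : F →+* F) (m : ℕ) : AddSubgroup (Matrix (Fin m) (Fin m) F) where
  carrier := {S | Sᵀ = S.map σ}
  add_mem' {a b} ha hb := by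
    show (a + b)ᵀ = (a + b).map σ
    rw [transpose_add, ha, hb]
    ext i j; simp
  zero_mem' := by
    show (0 : Matrix (Fin m) (Fin m) F)ᵀ = (0 : Matrix (Fin m) (Fin m) F).map σ
    ext i j; simp
  neg_mem' {a} ha := by
    show (-a)ᵀ = (-a).map σ
    rw [transpose_neg, ha]
    ext i j; simp

namespace Frame

variable (D : Frame F q m r n)

theorem σσ (a : F) : D.σ (D.σ a) = a := Unitary.pow_q_pow_q D.hF a

theorem hm_isJ (S : Hm D.σ m) :
    IsJ D.σ D.δ (xM D.σ D.δ S.1 (0 : Matrix (Fin r) (Fin m) F)) := by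
  refine xM_isJ D.σσ D.hδ D.hδσ ?_
  rw [show S.1ᵀ = S.1.map D.σ from S.2]
  simp

/-- central Siegel element -/
def X0 (S : Hm D.σ m) : Cfsg.SU n F q := D.toS _ (D.hm_isJ S)

theorem X0_add (S T : Hm D.σ m) : D.X0 (S + T) = D.X0 S * D.X0 T := by
  rw [X0, X0, X0, D.toS_mul]
  apply D.toS_congr
  rw [xM_mul]
  simp

theorem X0_zero : D.X0 0 = 1 := by
  have h := D.X0_add 0 0
  rw [add_zero] at h
  exact mul_eq_left.mp h.symm

/-- `λ x y* + σλ y x*` -/
def rk2 (l : F) (x y : Fin m → F) : Hm D.σ m :=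
  ⟨l • vecMulVec x (D.σ ∘ y) + D.σ l • vecMulVec y (D.σ ∘ x), by
    ext i j
    simp [vecMulVec_apply, D.σσ]
    ring⟩

theorem rk2_add (a b : F) (x y : Fin m → F) : D.rk2 (a + b) x y = D.rk2 a x y + D.rk2 b x y := by
  apply Subtype.ext
  simp only [rk2, AddSubgroup.coe_add, map_add, add_smul]
  abel

/-- congruence -/
def cong (g : Matrix (Fin m) (Fin m) F) (S : Hm D.σ m) : Hm D.σ m :=
  ⟨g * S.1 * (g.map D.σ)ᵀ, by
    have h : S.1ᵀ = S.1.map D.σ := S.2
    show (g * S.1 * (g.map D.σ)ᵀ)ᵀ = (g * S.1 * (g.map D.σ)ᵀ).map D.σ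
    rw [transpose_mul, transpose_mul, transpose_transpose, h, Matrix.map_mul, Matrix.map_mul,
      ← Matrix.mul_assoc]
    have e : ((g.map D.σ)ᵀ).map D.σ = gᵀ := by ext i j; simp [D.σσ]
    rw [e]⟩

/-- admissible base changes: realised by Levi elements -/
def Adm (g : GL (Fin m) F) : Prop :=
  ∃ E : Matrix (Fin r) (Fin r) F, Eᵀ * E.map D.σ = 1 ∧
    (g : Matrix (Fin m) (Fin m) F).det *
      ((((g⁻¹ : GL (Fin m) F) : Matrix (Fin m) (Fin m) F).map D.σ)ᵀ).det * E.det = 1

theorem exists_levi (g : GL (Fin m) F) (hg : D.Adm g) :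
    ∃ L : Cfsg.SU n F q, ∀ S, L * D.X0 S = D.X0 (D.cong g S) * L := by
  obtain ⟨E, hE, hdet⟩ := hg
  set g' := (((g⁻¹ : GL (Fin m) F) : Matrix (Fin m) (Fin m) F).map D.σ)ᵀ with hg'
  have e : ((g : Matrix (Fin m) (Fin m) F).map D.σ)ᵀ * g' = 1 := by
    rw [hg', ← transpose_mul, ← Matrix.map_mul, ← Units.val_mul, inv_mul_cancel, Units.val_one,
      Matrix.map_one _ (map_zero _) (map_one _), transpose_one]
  have e2 : g'.map D.σ = ((g⁻¹ : GL (Fin m) F) : Matrix (Fin m) (Fin m) F)ᵀ := by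
    rw [hg']; ext i j; simp [D.σσ]
  have hL : IsJ D.σ D.δ (lM (g : Matrix (Fin m) (Fin m) F) g' E) := by
    refine lM_isJ ?_ ?_ hE hdet
    · rw [e2, ← transpose_mul, ← Units.val_mul, inv_mul_cancel, Units.val_one, transpose_one]
    · rw [hg', transpose_transpose, ← Matrix.map_mul, ← Units.val_mul, inv_mul_cancel,
        Units.val_one, Matrix.map_one _ (map_zero _) (map_one _)]
  refine ⟨D.toS _ hL, fun S => ?_⟩
  rw [X0, X0, D.toS_mul, D.toS_mul]
  apply D.toS_congr
  exact lM_mul_xM _ _ _ e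

theorem adm_of_r_one (hr : r = 1) (g : GL (Fin m) F) : D.Adm g := by
  subst hr
  set d := (g : Matrix (Fin m) (Fin m) F).det
  have hd : d ≠ 0 := ((isUnit_iff_isUnit_det _).mp g.isUnit).ne_zero
  refine ⟨Matrix.diagonal (fun _ => D.σ d / d), ?_, ?_⟩
  · rw [diagonal_transpose, diagonal_map (map_zero _), diagonal_mul_diagonal]
    simp [map_div₀, D.σσ, hd, div_mul_div_comm, mul_comm d]
  · rw [det_transpose, ← RingHom.mapMatrix_apply, ← RingHom.map_det, det_diagonal]
    have hi : ((g⁻¹ : GL (Fin m) F) : Matrix (Fin m) (Fin m) F).det = d⁻¹ := by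
      apply eq_inv_of_mul_eq_one_left
      rw [← det_mul, ← Units.val_mul, inv_mul_cancel, Units.val_one, det_one]
    rw [hi, map_inv₀, Fin.prod_univ_one]
    have : D.σ d ≠ 0 := (map_ne_zero _).mpr hd
    field_simp
    rfl

theorem adm_of_det_fixed (g : GL (Fin m) F)
    (hd : D.σ (g : Matrix (Fin m) (Fin m) F).det = (g : Matrix (Fin m) (Fin m) F).det) :
    D.Adm g := by
  refine ⟨1, by simp, ?_⟩
  rw [det_transpose, ← RingHom.mapMatrix_apply, ← RingHom.map_det, det_one, mul_one]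
  nth_rewrite 1 [← hd]
  rw [← map_mul, ← det_mul, ← Units.val_mul, mul_inv_cancel, Units.val_one, det_one, map_one]

/-- Dictionary between characters and Hermitian forms. -/
theorem exists_dict :
    ∃ (ψ : AddChar F ℂ) (B : AddChar (Hm D.σ m) ℂ → (Fin m → F) → (Fin m → F) → F),
      ψ.IsPrimitive ∧ (∀ χ l x y, χ (D.rk2 l x y) = ψ (B χ x y * l)) ∧
      (∀ χ, HermOrbit.IsHerm D.σ (B χ)) ∧
      (∀ χ φ (M : Matrix (Fin m) (Fin m) F), (∀ S, φ (D.cong M S) = χ S) →
        ∀ x y, B φ (M *ᵥ x) (M *ᵥ y) = B χ x y) := by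
  have htr : ∃ u, u + D.σ u ≠ 0 := by
    obtain ⟨u, hu⟩ := Unitary.exists_trace_eq D.hF (t := (1 : F)) (one_pow q)
    exact ⟨u, by
      show u + u ^ q ≠ 0
      rw [hu]; exact one_ne_zero⟩
  obtain ⟨ψ, hψ, hψσ⟩ := exists_char D.σ D.σσ htr
  obtain ⟨θ, hθ⟩ := exists_shift hψ
  let lc : AddChar (Hm D.σ m) ℂ → (Fin m → F) → (Fin m → F) → AddChar F ℂ := fun χ x y =>
    χ.compAddMonoidHom (AddMonoidHom.mk' (fun l => D.rk2 l x y) (fun a b => D.rk2_add a b x y))
  have hlc : ∀ χ l x y, χ (D.rk2 l x y) = ψ (θ (lc χ x y) * l) := fun χ l x y => by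
    rw [← hθ]; rfl
  refine ⟨ψ, fun χ x y => θ (lc χ x y), hψ, hlc, fun χ => ⟨?_, ?_, ?_⟩, ?_⟩
  · intro x y z
    apply shift_inj hψ
    intro l
    rw [add_mul, AddChar.map_add_eq_mul, ← hlc, ← hlc, ← hlc, ← AddChar.map_add_eq_mul]
    congr 1
    apply Subtype.ext
    ext i j
    simp [rk2, vecMulVec_apply]
    ring
  · intro c x y
    apply shift_inj hψ
    intro l
    rw [← hlc, show c * θ (lc χ x y) * l = θ (lc χ x y) * (c * l) by ring, ← hlc]
    congr 1
    apply Subtype.ext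
    ext i j
    simp [rk2, vecMulVec_apply]
    ring
  · intro x y
    apply shift_inj hψ
    intro l
    rw [← hlc, ← hψσ (D.σ _ * l), map_mul, D.σσ, ← hlc]
    congr 1
    apply Subtype.ext
    ext i j
    simp [rk2, vecMulVec_apply, D.σσ]
    ring
  · intro χ φ M h x y
    apply shift_inj hψ
    intro l
    rw [← hlc, ← hlc, ← h]
    congr 1
    apply Subtype.ext
    have hσM : ∀ v : Fin m → F, D.σ ∘ (M *ᵥ v) = M.map D.σ *ᵥ (D.σ ∘ v) := fun v => by
      funext i; simp [Matrix.mulVec, dotProduct]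
    simp only [rk2, cong, hσM, Matrix.mul_add, Matrix.add_mul, Matrix.mul_smul, Matrix.smul_mul,
      mul_vecMulVec, vecMulVec_mul, vecMul_transpose]

/-- number of norms -/
theorem card_norms [DecidableEq F] : (HermOrbit.norms D.σ).card = q - 1 := by
  have hq : 1 ≤ q := Unitary.q_pos D.hF
  have e : HermOrbit.norms D.σ =
      (Finset.univ.filter (fun t : F => t ^ q = t)).erase 0 := by
    ext t
    simp only [HermOrbit.norms, Finset.mem_image, Finset.mem_erase, Finset.mem_filter,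
      Finset.mem_univ, and_true, true_and]
    constructor
    · rintro ⟨a, ha, rfl⟩
      refine ⟨mul_ne_zero ha ((map_ne_zero _).mpr ha), ?_⟩
      show D.σ (a * D.σ a) = _
      rw [map_mul, D.σσ, mul_comm]
    · rintro ⟨ht0, ht⟩
      obtain ⟨a, ha⟩ := Unitary.exists_norm_eq D.hF ht
      refine ⟨a, ?_, ?_⟩
      · rintro rfl
        rw [zero_pow (by omega)] at ha
        exact ht0 ha.symm
      · show a * a ^ q = t
        rw [← ha, pow_succ']
  rw [e, Finset.card_erase_of_mem (by simp [zero_pow (show q ≠ 0 by omega)])]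
  have h := Unitary.card_fixed D.hF
  rw [Nat.card_eq_fintype_card, Fintype.card_subtype] at h
  omega

theorem cond [DecidableEq F] : HermOrbit.Cond D.σ := by
  have hnorm : ∀ {t : F}, D.σ t = t → ∃ a, a * D.σ a = t := fun {t} ht => by
    obtain ⟨a, ha⟩ := Unitary.exists_norm_eq D.hF (t := t) ht
    exact ⟨a, by show a * a ^ q = t; rw [← ha, pow_succ']⟩
  refine ⟨D.σσ, ?_, ?_, Or.inl ?_⟩
  · obtain ⟨u, hu⟩ := Unitary.exists_trace_eq D.hF (t := (1 : F)) (one_pow q)
    exact ⟨u, by show u + u ^ q ≠ 0; rw [hu]; exact one_ne_zero⟩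
  · intro s t hs _ hs0 _ r hr
    obtain ⟨a, ha⟩ := hnorm (t := r / s) (by rw [map_div₀, hr, hs])
    exact ⟨a, 0, by rw [ha, div_mul_cancel₀ r hs0]; simp⟩
  · intro s t hs ht hs0 _
    obtain ⟨a, ha⟩ := hnorm (t := -t / s) (by rw [map_div₀, map_neg, ht, hs])
    exact ⟨a, by rw [ha, div_mul_cancel₀ _ hs0]⟩

end Frame

/-- orbit of a form under linear maps satisfying a predicate -/
def orbP (P : ((Fin m → F) ≃ₗ[F] (Fin m → F)) → Prop) (B : (Fin m → F) → (Fin m → F) → F) :
    Set ((Fin m → F) → (Fin m → F) → F) :=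
  {B' | ∃ g, P g ∧ B' = fun x y => B (g x) (g y)}

omit [Fintype F] in
theorem exists_scale {y : Fin m → F} {μ : (Fin m → F) →ₗ[F] F} (hμ : μ y = 1) {a : F} (ha : a ≠ 0) :
    ∃ s : (Fin m → F) ≃ₗ[F] (Fin m → F),
      (∀ v, s v = v + ((a - 1) * μ v) • y) ∧ LinearMap.det (s : (Fin m → F) →ₗ[F] (Fin m → F)) = a := by
  let f : (Fin m → F) →ₗ[F] (Fin m → F) := LinearMap.id + ((a - 1) • μ).smulRight y
  have hdet : LinearMap.det f = a := by
    rw [← LinearMap.det_toMatrix']
    have : LinearMap.toMatrix' f =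
        1 + replicateCol Unit y * replicateRow Unit (fun j => (a - 1) * μ (Pi.single j 1)) := by
      ext i j
      simp [f, LinearMap.toMatrix'_apply, Matrix.one_apply, Pi.single_apply, Matrix.mul_apply,
        Pi.add_apply]
      ring
    rw [this, det_one_add_replicateCol_mul_replicateRow]
    have h1 : ∑ j, μ (Pi.single j 1) * y j = 1 := by
      have h := congrArg μ (pi_eq_sum_univ' y)
      rw [hμ, map_sum] at h
      refine (Finset.sum_congr rfl (fun j _ => ?_)).trans h.symm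
      rw [map_smul, smul_eq_mul, mul_comm]
    simp only [dotProduct, mul_assoc, ← Finset.mul_sum, h1]
    ring
  refine ⟨LinearEquiv.ofInjectiveEndo f ?_, fun v => ?_, ?_⟩
  · rw [← LinearMap.ker_eq_bot]
    by_contra hk
    exact ha (hdet ▸ (LinearMap.det_eq_zero_iff_ker_ne_bot.mpr hk))
  · show f v = _
    simp [f]
  · exact hdet

theorem orbit_det [DecidableEq F] {σ : F →+* F} (hc : HermOrbit.Cond σ) (hm : 2 ≤ m)
    {B : (Fin m → F) → (Fin m → F) → F} (hB : HermOrbit.IsHerm σ B) {x : Fin m → F}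
    (hx : B x x ≠ 0)
    (hsing : ∀ C : (Fin m → F) → (Fin m → F) → F, HermOrbit.IsHerm σ C → ∀ v, C v v ≠ 0 →
      ∃ z, z ≠ 0 ∧ C z z = 0)
    (P : ((Fin m → F) ≃ₗ[F] (Fin m → F)) → Prop)
    (hP : ∀ g : (Fin m → F) ≃ₗ[F] (Fin m → F), ∃ a, a ≠ 0 ∧ ∀ h : (Fin m → F) ≃ₗ[F] (Fin m → F),
      LinearMap.det (h : (Fin m → F) →ₗ[F] (Fin m → F)) =
        a * LinearMap.det (g : (Fin m → F) →ₗ[F] (Fin m → F)) → P h) :
    (HermOrbit.norms σ).card * ∑ i ∈ Finset.range m, Fintype.card F ^ i ≤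
      Nat.card (orbP P B) := by
  classical
  obtain ⟨n, rfl⟩ : ∃ n, m = n + 1 := ⟨m - 1, by omega⟩
  have hx0 : x ≠ 0 := by rintro rfl; exact hx (hB.zero_left _)
  obtain ⟨H, hH⟩ := HermOrbit.exists_compl_line (F := F) x
  have hHn : Module.finrank F H = n := by
    have := HermOrbit.finrank_compl hx0 hH
    rw [Module.finrank_fin_fun] at this
    omega
  have hdetmul : ∀ f g : (Fin (n + 1) → F) ≃ₗ[F] (Fin (n + 1) → F),
      LinearMap.det (f.trans g : (Fin (n + 1) → F) →ₗ[F] (Fin (n + 1) → F)) =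
        LinearMap.det (g : (Fin (n + 1) → F) →ₗ[F] (Fin (n + 1) → F)) *
          LinearMap.det (f : (Fin (n + 1) → F) →ₗ[F] (Fin (n + 1) → F)) := fun f g =>
    LinearMap.det_comp _ _
  -- first layer
  have h1 : (HermOrbit.norms σ).card * Fintype.card F ^ n ≤
      Nat.card {B' : orbP P B // B'.1 x x ≠ 0} := by
    have hl : ∀ (t : HermOrbit.norms σ) (φ : H →ₗ[F] F),
        ∃ B' : {B' : orbP P B // B'.1 x x ≠ 0}, B'.1.1 x x = t.1 * B x x ∧
          ∀ h : H, B'.1.1 h x = φ h := by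
      rintro ⟨t, ht⟩ φ
      obtain ⟨b, hb, rfl⟩ := Finset.mem_image.mp ht
      have hb0 : b ≠ 0 := (Finset.mem_erase.mp hb).1
      have hbx : B (b • x) (b • x) ≠ 0 := by
        rw [hB.diag_smul]; exact mul_ne_zero (mul_ne_zero hb0 ((map_ne_zero σ).mpr hb0)) hx
      obtain ⟨B', ⟨g, rfl⟩, hee, hrow⟩ := HermOrbit.layer_one hB hH hx0 hbx φ
      obtain ⟨y, hy0, hyx⟩ := HermOrbit.exists_ortho hB (x := g x)
        (by rw [Module.finrank_fin_fun]; omega) (by
          show (fun u v => B (g u) (g v)) x x ≠ 0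
          exact fun h => hbx (hee.symm.trans h))
      obtain ⟨μ, hμy, hμx⟩ : ∃ μ : (Fin (n + 1) → F) →ₗ[F] F, μ y = 1 ∧ μ (g x) = 0 := by
        have hnot : y ∉ F ∙ g x := by
          rw [Submodule.mem_span_singleton]
          rintro ⟨c, rfl⟩
          rw [hB.smul] at hyx
          rcases mul_eq_zero.mp hyx with h | h
          · simp [h] at hy0
          · exact hbx (hee ▸ h)
        obtain ⟨f, hf, hf'⟩ := Submodule.exists_dual_map_eq_bot_of_notMem hnot inferInstance
        refine ⟨(f y)⁻¹ • f, by simp [inv_mul_cancel₀ hf], ?_⟩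
        have : f (g x) ∈ Submodule.map f (F ∙ g x) :=
          Submodule.mem_map_of_mem (Submodule.mem_span_singleton_self _)
        rw [hf', Submodule.mem_bot] at this
        simp [this]
      obtain ⟨a, ha, haP⟩ := hP g
      obtain ⟨s, hs, hsd⟩ := exists_scale hμy ha
      have hsx : s (g x) = g x := by rw [hs, hμx]; simp
      have hsB : ∀ v, B (s v) (g x) = B v (g x) := fun v => by
        rw [hs, hB.add, hB.smul, hyx]; ring
      refine ⟨⟨⟨_, g.trans s, haP _ (by rw [hdetmul, hsd]), rfl⟩, ?_⟩, ?_, fun h => ?_⟩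
      · show B (s (g x)) (s (g x)) ≠ 0
        rw [hsx]
        intro hh
        exact hbx (hee ▸ hh)
      · show B (s (g x)) (s (g x)) = _
        rw [hsx, ← hB.diag_smul]
        exact hee
      · show B (s (g h)) (s (g x)) = _
        rw [hsx, hsB]
        exact hrow h
    choose Φ hΦe hΦr using hl
    have hinj : Function.Injective (fun p : HermOrbit.norms σ × (H →ₗ[F] F) => Φ p.1 p.2) := by
      rintro ⟨t, φ⟩ ⟨t', φ'⟩ h
      simp only at h
      have e1 : t = t' := by
        apply Subtype.ext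
        apply mul_right_cancel₀ hx
        rw [← hΦe t φ, ← hΦe t' φ', h]
      refine Prod.ext e1 (LinearMap.ext fun y => ?_)
      rw [← hΦr t φ y, ← hΦr t' φ' y, h]
    have h := Nat.card_le_card_of_injective _ hinj
    rwa [Nat.card_prod, HermOrbit.card_dual, hHn, Nat.card_eq_fintype_card, Fintype.card_coe] at h
  -- second layer
  have h2 : (HermOrbit.norms σ).card * ∑ i ∈ Finset.range n, Fintype.card F ^ i ≤
      Nat.card {B' : orbP P B // B'.1 x x = 0} := by
    obtain ⟨z, hz, hzz⟩ := hsing B hB x hx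
    obtain ⟨Λ, hΛz, hΛx⟩ : ∃ Λ : (Fin (n + 1) → F) →ₗ[F] F, Λ z = 1 ∧ Λ x = 0 := by
      have hzx : z ∉ F ∙ x := by
        rw [Submodule.mem_span_singleton]
        rintro ⟨a, rfl⟩
        rw [hB.diag_smul] at hzz
        simp only [mul_eq_zero, hx, or_false, map_eq_zero, or_self] at hzz
        simp [hzz] at hz
      obtain ⟨f, hf, hf'⟩ := Submodule.exists_dual_map_eq_bot_of_notMem hzx inferInstance
      refine ⟨(f z)⁻¹ • f, by simp [inv_mul_cancel₀ hf], ?_⟩
      have : f x ∈ Submodule.map f (F ∙ x) :=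
        Submodule.mem_map_of_mem (Submodule.mem_span_singleton_self x)
      rw [hf', Submodule.mem_bot] at this
      simp [this]
    have hH₀ : IsCompl (F ∙ z) (LinearMap.ker Λ) := by
      constructor
      · rw [Submodule.disjoint_def]
        intro v hv hv'
        obtain ⟨a, rfl⟩ := Submodule.mem_span_singleton.mp hv
        simp [hΛz] at hv'
        simp [hv']
      · rw [codisjoint_iff, Submodule.eq_top_iff']
        intro v
        exact Submodule.mem_sup.mpr ⟨Λ v • z, Submodule.smul_mem _ _ (Submodule.mem_span_singleton_self z),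
          v - Λ v • z, by simp [hΛz], by abel⟩
    have hk : Module.finrank F H = Module.finrank F (LinearMap.ker Λ) := by
      have := HermOrbit.finrank_compl hz hH₀
      rw [Module.finrank_fin_fun] at this
      omega
    let k : H ≃ₗ[F] LinearMap.ker Λ := LinearEquiv.ofFinrankEq _ _ hk
    have hB' : HermOrbit.IsHerm σ (fun a b : H => B (k a) (k b)) :=
      ⟨fun a b c => by simp [hB.add], fun c a b => by simp [hB.smul],
        fun a b => hB.symm (k a) (k b)⟩
    refine (HermOrbit.orbit_bound hc n H hHn _ hB' (k.symm ⟨x, hΛx⟩) (by simpa using hx)).trans ?_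
    have hl : ∀ C : HermOrbit.orb F (fun a b : H => B (k a) (k b)),
        ∃ B' : {B' : orbP P B // B'.1 x x = 0}, ∀ a b : H, B'.1.1 a b = C.1 a b := by
      rintro ⟨C, g, rfl⟩
      let l : (F ∙ x) ≃ₗ[F] (F ∙ z) :=
        (LinearEquiv.toSpanNonzeroSingleton F _ x hx0).symm.trans
          (LinearEquiv.toSpanNonzeroSingleton F _ z hz)
      have hl : (l ⟨x, Submodule.mem_span_singleton_self x⟩ : Fin (n + 1) → F) = z := by
        have h2 : (LinearEquiv.toSpanNonzeroSingleton F _ x hx0).symm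
            ⟨x, Submodule.mem_span_singleton_self x⟩ = 1 := by
          rw [LinearEquiv.symm_apply_eq]; exact Subtype.ext (by simp)
        simp [l, h2]
      let G : (Fin (n + 1) → F) ≃ₗ[F] (Fin (n + 1) → F) :=
        (Submodule.prodEquivOfIsCompl _ _ hH).symm.trans
          ((LinearEquiv.prodCongr l (g.trans k)).trans (Submodule.prodEquivOfIsCompl _ _ hH₀))
      have hGe : G x = z := by
        have he' : (Submodule.prodEquivOfIsCompl _ _ hH).symm x =
            (⟨x, Submodule.mem_span_singleton_self x⟩, 0) :=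
          Submodule.prodEquivOfIsCompl_symm_apply_left _ _ hH
            ⟨x, Submodule.mem_span_singleton_self x⟩
        simp [G, he', hl]
      have hGh : ∀ a : H, G a = (k (g a) : Fin (n + 1) → F) := by
        intro a
        have ha' : (Submodule.prodEquivOfIsCompl _ _ hH).symm (a : Fin (n + 1) → F) = (0, a) :=
          Submodule.prodEquivOfIsCompl_symm_apply_right _ _ hH a
        simp [G, ha']
      obtain ⟨a, ha, haP⟩ := hP G
      obtain ⟨s, hs, hsd⟩ := exists_scale hΛz ha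
      have hsz : s z = a • z := by rw [hs, hΛz]; module
      have hsk : ∀ v : LinearMap.ker Λ, s (v : Fin (n + 1) → F) = v := fun v => by
        rw [hs, LinearMap.mem_ker.mp v.2]; simp
      refine ⟨⟨⟨_, G.trans s, haP _ (by rw [hdetmul, hsd]), rfl⟩, ?_⟩, fun u v => ?_⟩
      · show B (s (G x)) (s (G x)) = 0
        rw [hGe, hsz, hB.diag_smul, hzz, mul_zero]
      · show B (s (G u)) (s (G v)) = _
        rw [hGh, hGh, hsk, hsk]
    choose Φ hΦ using hl
    refine Nat.card_le_card_of_injective Φ (fun C C' h => Subtype.ext ?_)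
    funext a b
    rw [← hΦ C, ← hΦ C', h]
  have hsplit : Nat.card (orbP P B) = Nat.card {B' : orbP P B // B'.1 x x ≠ 0} +
      Nat.card {B' : orbP P B // B'.1 x x = 0} := by
    rw [← Nat.card_congr (Equiv.sumCompl (fun B' : orbP P B => B'.1 x x = 0)), Nat.card_sum,
      add_comm]
  rw [Finset.sum_range_succ, mul_add, hsplit]
  omega

theorem su_degree [DecidableEq F] (D : Frame F q m r n) (hn : 3 ≤ n) (h32 : ¬ (n = 3 ∧ q = 2))
    (hm : 1 ≤ m) (hr : r = 1 ∨ (r = 0 ∧ 2 ≤ m)) {d : ℕ}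
    (ρ : Representation ℂ (Cfsg.SU n F q) (Fin d → ℂ)) (hρ : ρ.IsIrreducible) (hd : 2 ≤ d) :
    q ^ r * ((q - 1) * ∑ i ∈ Finset.range m, (q ^ 2) ^ i) ≤ d := by
  classical
  haveI : Fintype (Hm D.σ m) := Fintype.ofFinite _
  let τ := toGLHom ρ
  let R : Hm D.σ m → Matrix (Fin d) (Fin d) ℂ := fun S => (τ (D.X0 S) : Matrix (Fin d) (Fin d) ℂ)
  have hR : ∀ a b, R (a + b) = R a * R b := fun a b => by simp [R, D.X0_add]
  have hR0 : R 0 = 1 := by simp [R, D.X0_zero]
  obtain ⟨ψ, B, hψ, hrk, hherm, hequiv⟩ := D.exists_dict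
  let i₀ : Fin m := ⟨0, by omega⟩
  obtain ⟨S₀, hS₀, c₀, hc₀, hS₀c⟩ : ∃ S : Hm D.σ m, R S ≠ 1 ∧ ∃ c, D.σ c = c ∧
      S.1 = c • Matrix.single i₀ i₀ 1 := by
    by_contra hcon
    push Not at hcon
    obtain ⟨g, hg⟩ := exists_ne_one_of_irreducible ρ hρ hd
    apply hg
    rw [← toGLHom_eq_one_iff ρ g, ← MonoidHom.mem_ker]
    rw [D.ker_eq_top_of_long_root hn h32 τ i₀ ?_]
    · exact Subgroup.mem_top g
    intro c hc hM
    by_contra hne
    refine hcon ⟨c • Matrix.single i₀ i₀ (1 : F), ?_⟩ (fun h => hne (Units.ext h)) c hc rfl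
    ext a b
    simp only [Matrix.map_apply, Matrix.smul_apply, Matrix.transpose_apply, Matrix.single_apply,
      smul_eq_mul, map_mul, hc, apply_ite D.σ, map_one, map_zero, and_comm]
  obtain ⟨χ, hχ, hχ0⟩ := Cx.exists_proj_ne hR0 hR hS₀
  let x₀ : Fin m → F := Pi.single i₀ 1
  obtain ⟨u, hu⟩ := Unitary.exists_trace_eq D.hF (t := c₀) hc₀
  have hu' : u + D.σ u = c₀ := hu
  have hSrk : S₀ = D.rk2 u x₀ x₀ := by
    apply Subtype.ext
    rw [hS₀c, ← hu']
    ext i j
    simp only [Frame.rk2, x₀, vecMulVec_apply, Matrix.smul_apply, Matrix.add_apply,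
      Matrix.single_apply, Function.comp_apply, Pi.single_apply, smul_eq_mul]
    by_cases hi : i = i₀ <;> by_cases hj : j = i₀ <;>
      simp [hi, hj, eq_comm] <;> intro hh <;> simp_all
  have hx₀ : B χ x₀ x₀ ≠ 0 := by
    intro h
    apply hχ0
    rw [hSrk, hrk, h, zero_mul, AddChar.map_zero_eq_one]
  let P : ((Fin m → F) ≃ₗ[F] (Fin m → F)) → Prop := fun h =>
    r = 1 ∨ D.σ (LinearMap.det (h : (Fin m → F) →ₗ[F] (Fin m → F))) =
      LinearMap.det (h : (Fin m → F) →ₗ[F] (Fin m → F))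
  have horb : (HermOrbit.norms D.σ).card * ∑ i ∈ Finset.range m, Fintype.card F ^ i ≤
      Nat.card (orbP P (B χ)) := by
    rcases hr with hr | ⟨hr, hm2⟩
    · have h := HermOrbit.orbit_bound D.cond m (Fin m → F) (Module.finrank_fin_fun F) _ (hherm χ)
        x₀ hx₀
      refine h.trans (le_of_eq ?_)
      have hset : orbP P (B χ) = HermOrbit.orb F (B χ) := by
        ext B'
        constructor
        · rintro ⟨g, -, rfl⟩
          exact ⟨g, rfl⟩
        · rintro ⟨g, rfl⟩
          exact ⟨g, Or.inl hr, rfl⟩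
      rw [hset]
    · refine orbit_det D.cond hm2 (hherm χ) hx₀ ?_ P (fun g => ?_)
      · intro C hC v hv
        rcases HermOrbit.singular_or hC D.cond (by rw [Module.finrank_fin_fun]; exact hm2) hv with
          h | ⟨-, h2, -⟩
        · exact h
        · exfalso
          have hle : (HermOrbit.fixNZ D.σ).card ≤ q - 1 := by
            rw [← D.card_norms]
            refine Finset.card_le_card (fun t ht => ?_)
            simp only [HermOrbit.fixNZ, Finset.mem_filter] at ht
            obtain ⟨a, ha⟩ := Unitary.exists_norm_eq D.hF (t := t) ht.2.1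
            simp only [HermOrbit.norms, Finset.mem_image, Finset.mem_erase, Finset.mem_univ, and_true]
            refine ⟨a, ?_, by show a * a ^ q = t; rw [← ha, pow_succ']⟩
            rintro rfl
            rw [zero_pow (by omega)] at ha
            exact ht.2.2 ha.symm
          rw [D.card_norms] at h2
          have := Unitary.two_le_q D.hF
          omega
      · have hdet : LinearMap.det (g : (Fin m → F) →ₗ[F] (Fin m → F)) ≠ 0 :=
          (LinearEquiv.isUnit_det' g).ne_zero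
        refine ⟨(LinearMap.det (g : (Fin m → F) →ₗ[F] (Fin m → F)))⁻¹, inv_ne_zero hdet, ?_⟩
        intro h hh
        right
        rw [hh, inv_mul_cancel₀ hdet, map_one]
  have hle : Nat.card (orbP P (B χ)) * q ^ r ≤ d := by
    have key : ∀ B' : orbP P (B χ), ∃ φ : AddChar (Hm D.σ m) ℂ,
        Cx.proj R φ ≠ 0 ∧ B φ = B'.1 := by
      rintro ⟨_, g, hgP, rfl⟩
      let M : GL (Fin m) F :=
        ⟨LinearMap.toMatrix' g.symm.toLinearMap, LinearMap.toMatrix' g.toLinearMap,
          by rw [← LinearMap.toMatrix'_comp]; simp,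
          by rw [← LinearMap.toMatrix'_comp]; simp⟩
      have hadm : D.Adm M := by
        rcases hgP with h | h
        · exact D.adm_of_r_one h M
        · apply D.adm_of_det_fixed
          have hdd : (M : Matrix (Fin m) (Fin m) F).det =
              (LinearMap.det (g : (Fin m → F) →ₗ[F] (Fin m → F)))⁻¹ := by
            show (LinearMap.toMatrix' g.symm.toLinearMap).det = _
            rw [LinearMap.det_toMatrix']
            exact LinearEquiv.det_coe_symm g
          rw [hdd, map_inv₀, h]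
      obtain ⟨L, hL⟩ := D.exists_levi M hadm
      let back : Hm D.σ m →+ Hm D.σ m :=
        AddMonoidHom.mk' (D.cong ((M⁻¹ : GL (Fin m) F) : Matrix (Fin m) (Fin m) F))
          (fun a b => Subtype.ext (by simp [Frame.cong, Matrix.mul_add, Matrix.add_mul]))
      have hcc : ∀ (A C : GL (Fin m) F) (S : Hm D.σ m), A * C = 1 →
          D.cong (A : Matrix (Fin m) (Fin m) F) (D.cong (C : Matrix (Fin m) (Fin m) F) S) = S := by
        intro A C S hAC
        apply Subtype.ext
        simp only [Frame.cong]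
        rw [show (A : Matrix (Fin m) (Fin m) F) * ((C : Matrix (Fin m) (Fin m) F) * S.1 *
            ((C : Matrix (Fin m) (Fin m) F).map D.σ)ᵀ) * ((A : Matrix (Fin m) (Fin m) F).map D.σ)ᵀ =
            ((A : Matrix (Fin m) (Fin m) F) * (C : Matrix (Fin m) (Fin m) F)) * S.1 *
              (((A : Matrix (Fin m) (Fin m) F) * (C : Matrix (Fin m) (Fin m) F)).map D.σ)ᵀ by
          rw [Matrix.map_mul, transpose_mul]; simp only [Matrix.mul_assoc]]
        rw [← Units.val_mul, hAC]
        simp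
      refine ⟨χ.compAddMonoidHom back, ?_, ?_⟩
      · refine Cx.transfer (τ L) (D.cong (M : Matrix (Fin m) (Fin m) F))
          (Function.bijective_iff_has_inverse.mpr ⟨back, fun S => hcc M⁻¹ M S (inv_mul_cancel M),
            fun S => hcc M M⁻¹ S (mul_inv_cancel M)⟩) (fun S => ?_) (fun S => ?_) hχ
        · simp only [R]
          rw [← Units.val_mul, ← map_mul, hL, map_mul, Units.val_mul]
        · rw [AddChar.compAddMonoidHom_apply]
          exact congrArg χ (hcc M⁻¹ M S (inv_mul_cancel M))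
      · funext x y
        have h := hequiv χ (χ.compAddMonoidHom back) (M : Matrix (Fin m) (Fin m) F)
          (fun S => by
            rw [AddChar.compAddMonoidHom_apply]; exact congrArg χ (hcc M⁻¹ M S (inv_mul_cancel M)))
          (g x) (g y)
        simp [M, LinearMap.toMatrix'_mulVec] at h
        exact h
    choose Φ hΦ0 hΦB using key
    haveI : Fintype (orbP P (B χ)) := Fintype.ofFinite _
    have hinj : Function.Injective Φ := fun a b h => Subtype.ext (by rw [← hΦB a, ← hΦB b, h])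
    have hmult : ∀ φ ∈ Finset.univ.image Φ, q ^ r ≤ Module.finrank ℂ (Cx.eig R φ) := by
      intro φ hφ
      obtain ⟨B', -, rfl⟩ := Finset.mem_image.mp hφ
      have hpos : 1 ≤ Module.finrank ℂ (Cx.eig R (Φ B')) :=
        Submodule.one_le_finrank_iff.mpr (Cx.eig_ne_bot (hΦ0 B'))
      rcases hr with hr | ⟨hr, -⟩
      swap
      · subst hr; simpa using hpos
      obtain ⟨v, hv⟩ : ∃ v, B (Φ B') v v ≠ 0 := by
        obtain ⟨_, g, hg, rfl⟩ := B'
        refine ⟨g.symm x₀, ?_⟩
        rw [hΦB]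
        simpa using hx₀
      subst hr
      obtain ⟨u₁, hu₁⟩ := Unitary.exists_trace_eq D.hF (t := (1 : F)) (one_pow q)
      have hu₁' : u₁ + D.σ u₁ = 1 := hu₁
      let w : Matrix (Fin 1) (Fin m) F := Matrix.of fun _ j => D.σ (v j)
      let St : F → Matrix (Fin m) (Fin m) F := fun t =>
        (-u₁ * D.δ⁻¹ * (t * D.σ t)) • vecMulVec v (D.σ ∘ v)
      have hJ : ∀ t, IsJ D.σ D.δ (xM D.σ D.δ (St t) (t • w)) := by
        intro t
        refine xM_isJ D.σσ D.hδ D.hδσ ?_
        ext i j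
        simp [St, w, Matrix.mul_apply, vecMulVec_apply, D.σσ, D.hδσ, map_inv₀]
        field_simp [D.hδ]
        linear_combination (-(t * D.σ t * v j * D.σ (v i))) * hu₁'
      let X : F → GL (Fin d) ℂ := fun t => τ (D.toS _ (hJ t))
      let a : F → F → ℂ := fun s t => ψ (B (Φ B') v v * (-D.δ⁻¹ * (D.σ s * t)))
      have hXR : ∀ t S, (X t : Matrix (Fin d) (Fin d) ℂ) * R S = R S * X t := by
        intro t S
        simp only [X, R]
        rw [← Units.val_mul, ← Units.val_mul, ← map_mul, ← map_mul, Frame.X0, D.toS_mul, D.toS_mul]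
        refine congrArg (fun g => ((τ g : GL (Fin d) ℂ) : Matrix (Fin d) (Fin d) ℂ)) (D.toS_congr ?_)
        rw [xM_mul, xM_mul]
        simp [add_comm]
      have hX : ∀ t, (X t : Matrix (Fin d) (Fin d) ℂ) * Cx.proj R (Φ B') = Cx.proj R (Φ B') * X t := by
        intro t
        simp only [Cx.proj, Finset.mul_sum, Finset.sum_mul, mul_smul_comm, smul_mul_assoc, hXR]
      have hconj : ∀ s t, (X s : Matrix (Fin d) (Fin d) ℂ) * X t * Cx.proj R (Φ B') =
          a s t • ((X t : Matrix (Fin d) (Fin d) ℂ) * X s * Cx.proj R (Φ B')) := by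
        intro s t
        have hc : (X s : Matrix (Fin d) (Fin d) ℂ) * X t =
            (X t : Matrix (Fin d) (Fin d) ℂ) * X s * R (D.rk2 (-D.δ⁻¹ * (D.σ s * t)) v v) := by
          simp only [X, R]
          rw [← Units.val_mul, ← Units.val_mul, ← Units.val_mul, ← map_mul, ← map_mul, ← map_mul,
            Frame.X0, D.toS_mul, D.toS_mul, D.toS_mul]
          refine congrArg (fun g => ((τ g : GL (Fin d) ℂ) : Matrix (Fin d) (Fin d) ℂ)) (D.toS_congr ?_)
          rw [xM_mul, xM_mul, xM_mul]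
          congr 1
          · ext i j
            simp [St, w, Frame.rk2, Matrix.mul_apply, vecMulVec_apply, D.σσ, D.hδσ, map_inv₀]
            ring
          · simp [add_comm]
        rw [hc, Matrix.mul_assoc ((X t).val * (X s).val), Cx.R_mul_proj hR, hrk,
          mul_smul_comm]
      have ha0 : ∀ s t, a s t ≠ 0 := by
        intro s t h0
        have := AddChar.map_add_eq_mul ψ (B (Φ B') v v * (-D.δ⁻¹ * (D.σ s * t)))
          (-(B (Φ B') v v * (-D.δ⁻¹ * (D.σ s * t))))
        simp only [a] at h0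
        rw [h0, zero_mul, add_neg_cancel, AddChar.map_zero_eq_one] at this
        exact one_ne_zero this
      have horth : ∀ t t₀, t ≠ t₀ → ∑ s, a s t * (a s t₀)⁻¹ = 0 := by
        intro t t₀ ht
        have hb : B (Φ B') v v * (-D.δ⁻¹) * (t - t₀) ≠ 0 :=
          mul_ne_zero (mul_ne_zero hv (neg_ne_zero.mpr (inv_ne_zero D.hδ))) (sub_ne_zero.mpr ht)
        have hterm : ∀ s, a s t * (a s t₀)⁻¹ =
            ψ (D.σ s * (B (Φ B') v v * (-D.δ⁻¹) * (t - t₀))) := by
          intro s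
          rw [← div_eq_mul_inv]
          simp only [a]
          rw [← AddChar.map_sub_eq_div]
          congr 1; ring
        simp only [hterm]
        rw [Fintype.sum_bijective D.σ (Function.bijective_iff_has_inverse.mpr ⟨D.σ, D.σσ, D.σσ⟩) _
          (fun s => ψ (s * (B (Φ B') v v * (-D.δ⁻¹) * (t - t₀)))) (fun s => rfl),
          AddChar.sum_mulShift _ hψ, if_neg hb]
        simp
      have h := Cx.sq_finrank_eig_ge (hΦ0 B') X hX a hconj horth ha0
      rw [D.hF] at h
      rw [pow_one]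
      exact Nat.pow_le_pow_iff_left (by norm_num) |>.mp h
    have h := Cx.card_mul_le_dim hR (Finset.univ.image Φ) (q ^ r) hmult
    rw [Finset.card_image_of_injective _ hinj, Finset.card_univ] at h
    rwa [Nat.card_eq_fintype_card]
  rw [D.card_norms, D.hF] at horb
  rw [mul_comm]
  exact le_trans (Nat.mul_le_mul_right _ horb) hle

theorem sum_formula (hq : 2 ≤ q) (m : ℕ) :
    (q - 1) * (∑ i ∈ Finset.range m, (q ^ 2) ^ i) * (q + 1) = q ^ (2 * m) - 1 := by
  obtain ⟨s, rfl⟩ : ∃ s, q = s + 1 := ⟨q - 1, by omega⟩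
  have h1 := geom_sum_mul_add ((s + 1) ^ 2 - 1) m
  rw [Nat.sub_add_cancel (Nat.one_le_pow _ _ (by omega))] at h1
  rw [← pow_mul] at h1
  have e : (s + 1) ^ 2 - 1 = s * (s + 1 + 1) := by
    have : (s + 1) ^ 2 = s * (s + 1 + 1) + 1 := by ring
    omega
  rw [e] at h1
  simp only [Nat.add_sub_cancel]
  rw [show s * (∑ i ∈ Finset.range m, ((s + 1) ^ 2) ^ i) * (s + 1 + 1) =
    (∑ i ∈ Finset.range m, ((s + 1) ^ 2) ^ i) * (s * (s + 1 + 1)) by ring]
  omega

theorem odd_bound (hn : 3 ≤ n) (hodd : Odd n) (hF : Fintype.card F = q ^ 2)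
    (hex : (n, q) ≠ (3, 2)) {d : ℕ} (ρ : Representation ℂ (Cfsg.SU n F q) (Fin d → ℂ))
    (hρ : ρ.IsIrreducible) (hd : 2 ≤ d) : (q ^ n - q) / (q + 1) ≤ d := by
  classical
  obtain ⟨m, hm⟩ := hodd
  let e : II m 1 ≃ Fin n := Fintype.equivFinOfCardEq (by simp; omega)
  obtain ⟨D⟩ := exists_frame hF e
  have h := su_degree D hn (fun h => hex (by rw [h.1, h.2])) (by omega) (Or.inl rfl) ρ hρ hd
  have hq := Unitary.two_le_q hF
  have e2 : q ^ n - q = q ^ 1 * ((q - 1) * ∑ i ∈ Finset.range m, (q ^ 2) ^ i) * (q + 1) := by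
    rw [pow_one, mul_assoc, sum_formula hq, Nat.mul_sub, mul_one, ← pow_succ', hm]
  rw [e2, Nat.mul_div_cancel _ (by omega)]
  exact h

theorem even_bound (hn : 4 ≤ n) (heven : Even n) (hF : Fintype.card F = q ^ 2) {d : ℕ}
    (ρ : Representation ℂ (Cfsg.SU n F q) (Fin d → ℂ))
    (hρ : ρ.IsIrreducible) (hd : 2 ≤ d) : (q ^ n - 1) / (q + 1) ≤ d := by
  classical
  obtain ⟨m, hm⟩ := heven
  let e : II m 0 ≃ Fin n := Fintype.equivFinOfCardEq (by simp; omega)
  obtain ⟨D⟩ := exists_frame hF e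
  have h := su_degree D (by omega) (fun h => by omega) (by omega) (Or.inr ⟨rfl, by omega⟩) ρ hρ hd
  have hq := Unitary.two_le_q hF
  have e2 : q ^ n - 1 = q ^ 0 * ((q - 1) * ∑ i ∈ Finset.range m, (q ^ 2) ^ i) * (q + 1) := by
    rw [pow_zero, one_mul, sum_formula hq, show 2 * m = n by omega]
  rw [e2, Nat.mul_div_cancel _ (by omega)]
  exact h

end Cfsg.Agent.CrossChar56.SU
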