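import Cfsg.Agent.CrossChar56.Common
import Cfsg.Agent.WordLaw.Classical
import Cfsg.Agent.Lib.Unitary.Generation

/-!
Siegel unipotent and Levi elements of `SU_n(q)` in an isotropic basis.
-/

set_option autoImplicit false

noncomputable section

namespace Cfsg.Agent.CrossChar56.SU

open Matrix

variable {F : Type*} [Field F] {m r : ℕ}

/-- index type for the isotropic basis -/
abbrev II (m r : ℕ) := (Fin m ⊕ Fin m) ⊕ Fin r

/-- the Hermitian Gram matrix in the isotropic basis -/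
def gram (δ : F) (m r : ℕ) : Matrix (II m r) (II m r) F :=
  fromBlocks (fromBlocks 0 (δ • 1) (-(δ • 1)) 0) 0 0 1

/-- matrices preserving the Gram matrix -/
def IsJ (σ : F →+* F) (δ : F) (M : Matrix (II m r) (II m r) F) : Prop :=
  Mᵀ * gram δ m r * M.map σ = gram δ m r ∧ M.det = 1

theorem IsJ.mul {σ : F →+* F} {δ : F} {M N : Matrix (II m r) (II m r) F} (hM : IsJ σ δ M)
    (hN : IsJ σ δ N) : IsJ σ δ (M * N) := by
  refine ⟨?_, by rw [det_mul, hM.2, hN.2, one_mul]⟩
  rw [transpose_mul, Matrix.map_mul]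
  calc Nᵀ * Mᵀ * gram δ m r * (M.map σ * N.map σ)
      = Nᵀ * (Mᵀ * gram δ m r * M.map σ) * N.map σ := by simp only [Matrix.mul_assoc]
    _ = _ := by rw [hM.1, hN.1]

/-- unipotent element -/
def xM (σ : F →+* F) (δ : F) (S : Matrix (Fin m) (Fin m) F) (z : Matrix (Fin r) (Fin m) F) :
    Matrix (II m r) (II m r) F :=
  fromBlocks (fromBlocks 1 S 0 1) (fromRows (-δ⁻¹ • (z.map σ)ᵀ) 0) (fromCols 0 z) 1

/-- Levi element -/
def lM (g g' : Matrix (Fin m) (Fin m) F) (E : Matrix (Fin r) (Fin r) F) :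
    Matrix (II m r) (II m r) F :=
  fromBlocks (fromBlocks g 0 0 g') 0 0 E

theorem xM_isJ {σ : F →+* F} (hσ : ∀ a, σ (σ a) = a) {δ : F} (hδ : δ ≠ 0) (hδσ : σ δ = -δ)
    {S : Matrix (Fin m) (Fin m) F} {z : Matrix (Fin r) (Fin m) F}
    (h : δ • (Sᵀ - S.map σ) + zᵀ * z.map σ = 0) : IsJ σ δ (xM σ δ S z) := by
  have hzz : (z.map σ).map σ = z := by ext i j; simp [hσ]
  refine ⟨?_, ?_⟩
  · simp only [xM, gram, fromBlocks_transpose, fromBlocks_map, transpose_fromRows, transpose_fromCols,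
      transpose_one, transpose_zero, fromRows_zero, fromCols_zero]
    have e1 : (fromRows (-δ⁻¹ • (z.map σ)ᵀ) (0 : Matrix (Fin m) (Fin r) F)).map σ =
        fromRows (δ⁻¹ • zᵀ) 0 := by
      ext i j
      rcases i with i | i <;> simp [hσ, map_inv₀, hδσ]
    have e2 : (fromCols (0 : Matrix (Fin r) (Fin m) F) z).map σ = fromCols 0 (z.map σ) := by
      ext i j
      rcases j with j | j <;> simp
    simp only [e1, e2, fromBlocks_multiply, Matrix.map_zero σ (map_zero σ),
      Matrix.map_one σ (map_zero σ) (map_one σ)]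
    ext i j
    rcases i with (i | i) | i <;> rcases j with (j | j) | j
    all_goals
      simp [Matrix.fromBlocks_multiply, fromCols_mul_fromBlocks, fromBlocks_mul_fromRows,
        fromCols_mul_fromRows, Matrix.mul_fromCols, Matrix.fromRows_mul, fromRows_mul_fromCols,
        smul_smul, inv_mul_cancel₀ hδ, mul_inv_cancel₀ hδ, Matrix.smul_mul, Matrix.mul_smul]
    all_goals
      first
        | (have h' := congrFun (congrFun h i) j
           simp [Matrix.smul_apply] at h'
           linear_combination h')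
        | (field_simp; ring)
        | ring
  · simp only [xM, det_fromBlocks_one₂₂, fromRows_mul_fromCols, sub_eq_add_neg, fromBlocks_neg,
      fromBlocks_add, Matrix.mul_zero, Matrix.zero_mul, neg_zero, add_zero, det_fromBlocks_zero₂₁,
      det_one, one_mul]

theorem lM_isJ {σ : F →+* F} {δ : F} {g g' : Matrix (Fin m) (Fin m) F}
    {E : Matrix (Fin r) (Fin r) F} (h : gᵀ * g'.map σ = 1) (h' : g'ᵀ * g.map σ = 1)
    (hE : Eᵀ * E.map σ = 1) (hdet : g.det * g'.det * E.det = 1) : IsJ σ δ (lM g g' E) := by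
  refine ⟨?_, by simp [lM, hdet]⟩
  simp only [lM, gram, fromBlocks_transpose, fromBlocks_map, transpose_zero, fromBlocks_multiply,
    Matrix.map_zero σ (map_zero σ)]
  simp [h, h', hE, fromBlocks_multiply, Matrix.mul_smul, Matrix.smul_mul]

theorem xM_mul (σ : F →+* F) (δ : F) (S S' : Matrix (Fin m) (Fin m) F)
    (z z' : Matrix (Fin r) (Fin m) F) :
    xM σ δ S z * xM σ δ S' z' =
      xM σ δ (S + S' + (-δ⁻¹) • ((z.map σ)ᵀ * z')) (z + z') := by
  have hm : (z + z').map σ = z.map σ + z'.map σ := by ext i j; simp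
  simp only [xM, fromBlocks_multiply, hm, transpose_add, smul_add]
  ext i j
  rcases i with (i | i) | i <;> rcases j with (j | j) | j <;>
    simp [fromRows_mul_fromCols, fromBlocks_mul_fromRows, fromCols_mul_fromBlocks,
      Matrix.mul_fromCols, Matrix.fromRows_mul, fromCols_mul_fromRows, Matrix.smul_mul,
      Matrix.mul_one, Matrix.one_mul] <;> ring

theorem lM_mul_xM (σ : F →+* F) (δ : F) {g g' : Matrix (Fin m) (Fin m) F}
    {E : Matrix (Fin r) (Fin r) F} (S : Matrix (Fin m) (Fin m) F) (h' : (g.map σ)ᵀ * g' = 1) :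
    lM g g' E * xM σ δ S 0 = xM σ δ (g * S * (g.map σ)ᵀ) 0 * lM g g' E := by
  simp only [xM, lM]
  simp [fromBlocks_multiply, Matrix.map_zero σ (map_zero σ), Matrix.mul_assoc, h']

variable [Fintype F] {q n : ℕ}

/-- change of basis data -/
structure Frame (F : Type*) [Field F] [Fintype F] (q m r n : ℕ) where
  hF : Fintype.card F = q ^ 2
  δ : F
  hδ : δ ≠ 0
  hδσ : Unitary.conjHom hF δ = -δ
  e : II m r ≃ Fin n
  P : Matrix (II m r) (II m r) F
  hP : Pᵀ * P.map (Unitary.conjHom hF) = gram δ m r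

theorem exists_frame (hF : Fintype.card F = q ^ 2) (e : II m r ≃ Fin n) :
    Nonempty (Frame F q m r n) := by
  let σ := Unitary.conjHom hF
  have hσ : ∀ x, σ x = x ^ q := Unitary.conjHom_apply hF
  have hσσ : ∀ x, σ (σ x) = x := fun x => Unitary.pow_q_pow_q hF x
  obtain ⟨P, d, hd, hP⟩ := WordLaw.Classical.exists_unitary_data hF σ hσ hσσ
  have hdσ : σ d = -d := by
    have h1 : ((Pᵀ * P.map σ).map σ)ᵀ = Pᵀ * P.map σ := by
      rw [Matrix.map_mul, transpose_mul]
      have e1 : (P.map σ).map σ = P := by ext i j; simp [hσσ]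
      have e2 : (Pᵀ).map σ = (P.map σ)ᵀ := rfl
      rw [e1, e2, transpose_transpose]
    rw [hP] at h1
    have := congrFun (congrFun h1 0) 1
    simp at this
    linear_combination -this
  refine ⟨⟨hF, d, hd, hdσ, e, fromBlocks
    (fromBlocks (P 0 0 • 1) (P 0 1 • 1) (P 1 0 • 1) (P 1 1 • 1)) 0 0 1, ?_⟩⟩
  have h00 := congrFun (congrFun hP 0) 0
  have h01 := congrFun (congrFun hP 0) 1
  have h10 := congrFun (congrFun hP 1) 0
  have h11 := congrFun (congrFun hP 1) 1
  simp [Matrix.mul_apply, Fin.sum_univ_two] at h00 h01 h10 h11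
  simp only [gram, fromBlocks_transpose, fromBlocks_map, transpose_smul, transpose_one,
    transpose_zero, fromBlocks_multiply, Matrix.map_zero _ (map_zero (Unitary.conjHom hF)),
    Matrix.map_one _ (map_zero (Unitary.conjHom hF)) (map_one (Unitary.conjHom hF))]
  have hmap : ∀ a : F, (a • (1 : Matrix (Fin m) (Fin m) F)).map (Unitary.conjHom hF) =
      σ a • (1 : Matrix (Fin m) (Fin m) F) := by
    intro a; ext i j; by_cases h : i = j <;> simp [Matrix.one_apply, h, σ]
  simp [hmap, Matrix.smul_mul, Matrix.mul_smul, smul_smul, ← add_smul, mul_comm (σ _),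
    fromBlocks_multiply, h00, h01, h10, h11]

namespace Frame

variable (D : Frame F q m r n)

/-- the field automorphism -/
abbrev σ : F →+* F := Unitary.conjHom D.hF

theorem det_ne : IsUnit D.P.det := by
  rw [isUnit_iff_ne_zero]
  intro h0
  have h1 := congrArg Matrix.det D.hP
  rw [det_mul, det_transpose, h0, zero_mul] at h1
  have h2 : IsUnit (gram D.δ m r) := by
    refine ⟨⟨gram D.δ m r, fromBlocks (fromBlocks 0 (-(D.δ⁻¹ • 1)) (D.δ⁻¹ • 1) 0) 0 0 1, ?_, ?_⟩, rfl⟩ <;>
      simp [gram, fromBlocks_multiply, Matrix.smul_mul, Matrix.mul_smul, smul_smul,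
        inv_mul_cancel₀ D.hδ, mul_inv_cancel₀ D.hδ, fromBlocks_one]
  exact ((isUnit_iff_isUnit_det _).mp h2).ne_zero h1.symm

/-- the element of `SU` given by a matrix in the isotropic basis -/
def toS (M : Matrix (II m r) (II m r) F) (hM : IsJ D.σ D.δ M) : Cfsg.SU n F q :=
  ⟨⟨(D.P * M * D.P⁻¹).submatrix D.e.symm D.e.symm, by
      rw [det_submatrix_equiv_self, det_conj ((isUnit_iff_isUnit_det _).mpr D.det_ne)]
      exact hM.2⟩,
    WordLaw.Classical.mem_SU_of D.σ (Unitary.conjHom_apply D.hF) _ (by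
      show ((D.P * M * D.P⁻¹).submatrix D.e.symm D.e.symm)ᵀ *
        ((D.P * M * D.P⁻¹).submatrix D.e.symm D.e.symm).map D.σ = 1
      rw [transpose_submatrix, ← submatrix_map, submatrix_mul_equiv, transpose_mul, transpose_mul,
        Matrix.map_mul, Matrix.map_mul, transpose_nonsing_inv]
      have hu : IsUnit (D.Pᵀ).det := by rw [det_transpose]; exact D.det_ne
      have hu' : IsUnit (D.P.map D.σ).det := by
        rw [← RingHom.mapMatrix_apply, ← RingHom.map_det]; exact D.det_ne.map D.σ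
      have hinv : D.P⁻¹.map D.σ = (D.P.map D.σ)⁻¹ := by
        refine (inv_eq_right_inv ?_).symm
        rw [← Matrix.map_mul, mul_nonsing_inv _ D.det_ne, Matrix.map_one _ (map_zero _) (map_one _)]
      rw [hinv]
      have e : (D.Pᵀ)⁻¹ * (Mᵀ * D.Pᵀ) * (D.P.map D.σ * M.map D.σ * (D.P.map D.σ)⁻¹) = 1 := by
        calc (D.Pᵀ)⁻¹ * (Mᵀ * D.Pᵀ) * (D.P.map D.σ * M.map D.σ * (D.P.map D.σ)⁻¹)
            = (D.Pᵀ)⁻¹ * (Mᵀ * (D.Pᵀ * D.P.map D.σ) * M.map D.σ) * (D.P.map D.σ)⁻¹ := by
              simp only [Matrix.mul_assoc]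
          _ = (D.Pᵀ)⁻¹ * (D.Pᵀ * D.P.map D.σ) * (D.P.map D.σ)⁻¹ := by rw [D.hP, hM.1]
          _ = 1 := by rw [nonsing_inv_mul_cancel_left _ _ hu, mul_nonsing_inv _ hu']
      rw [e, submatrix_one_equiv])⟩

theorem toS_mul {M N : Matrix (II m r) (II m r) F} (hM : IsJ D.σ D.δ M) (hN : IsJ D.σ D.δ N) :
    D.toS M hM * D.toS N hN = D.toS (M * N) (hM.mul hN) := by
  apply Subtype.ext
  apply Subtype.ext
  show (D.P * M * D.P⁻¹).submatrix D.e.symm D.e.symm * (D.P * N * D.P⁻¹).submatrix D.e.symm D.e.symm =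
    (D.P * (M * N) * D.P⁻¹).submatrix D.e.symm D.e.symm
  rw [submatrix_mul_equiv]
  congr 1
  calc D.P * M * D.P⁻¹ * (D.P * N * D.P⁻¹) = D.P * M * (D.P⁻¹ * D.P) * (N * D.P⁻¹) := by
        simp only [Matrix.mul_assoc]
    _ = _ := by rw [nonsing_inv_mul _ D.det_ne]; simp only [Matrix.mul_one, Matrix.mul_assoc]

theorem toS_congr {M N : Matrix (II m r) (II m r) F} {hM : IsJ D.σ D.δ M} {hN : IsJ D.σ D.δ N}
    (h : M = N) : D.toS M hM = D.toS N hN := by subst h; rfl

theorem toS_one (h : IsJ D.σ D.δ (1 : Matrix (II m r) (II m r) F)) : D.toS 1 h = 1 := by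
  have h2 := D.toS_mul h h
  rw [D.toS_congr (hN := h) (Matrix.mul_one _)] at h2
  exact mul_eq_left.mp h2

theorem ker_eq_top_of_long_root (hn : 3 ≤ n) (h32 : ¬ (n = 3 ∧ q = 2))
    {G : Type*} [Group G] (f : Cfsg.SU n F q →* G) (i : Fin m)
    (h : ∀ (c : F), D.σ c = c →
      ∀ hM : IsJ D.σ D.δ (xM D.σ D.δ (c • Matrix.single i i 1) (0 : Matrix (Fin r) (Fin m) F)),
        f (D.toS _ hM) = 1) :
    f.ker = ⊤ := by
  classical
  have hσσ : ∀ x, D.σ (D.σ x) = x := fun x => Unitary.pow_q_pow_q D.hF x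
  let u₀ : II m r → F := Pi.single (Sum.inl (Sum.inl i)) 1
  let u : Fin n → F := (D.P *ᵥ u₀) ∘ D.e.symm
  have hherm : ∀ y : II m r → F,
      Unitary.herm q ((D.P *ᵥ y) ∘ D.e.symm) u = y ⬝ᵥ (gram D.δ m r *ᵥ u₀) := by
    intro y
    show ∑ j, _ * _ ^ q = _
    rw [← D.hP, ← mulVec_mulVec, dotProduct_mulVec, vecMul_transpose]
    rw [← Equiv.sum_comp D.e]
    simp only [Function.comp_apply, Equiv.symm_apply_apply, u, dotProduct]
    refine Finset.sum_congr rfl fun j _ => ?_
    congr 1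
    rw [← Unitary.conjHom_apply D.hF]
    simp [Matrix.mulVec, dotProduct, u₀, Pi.single_apply, apply_ite]
  have hJu : gram D.δ m r *ᵥ u₀ = Pi.single (Sum.inl (Sum.inr i)) (-D.δ) := by
    funext j
    rcases j with (j | j) | j <;>
      simp [gram, u₀, Matrix.mulVec_single, Matrix.one_apply, Pi.single_apply, apply_ite] <;>
      by_cases hji : j = i <;> simp [hji]
  have hu : Unitary.herm q u u = 0 := by
    rw [show Unitary.herm q u u = _ from hherm u₀, hJu, dotProduct_single]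
    simp [u₀]
  have hu0 : u ≠ 0 := by
    intro h0
    have h1 : D.P *ᵥ u₀ = 0 := by
      funext j
      have := congrFun h0 (D.e j)
      simpa [u] using this
    have h2 := congrArg (fun v => D.P⁻¹ *ᵥ v) h1
    simp only [mulVec_mulVec, nonsing_inv_mul _ D.det_ne, one_mulVec, mulVec_zero] at h2
    have h3 := congrFun h2 (Sum.inl (Sum.inl i))
    simp [u₀] at h3
  have htv : ∀ (c : F) (hc : c + c ^ q = 0), f (Unitary.tv D.hF hu hc) = 1 := by
    intro c hc
    have hcσ : D.σ c = -c := by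
      show c ^ q = -c
      linear_combination hc
    have hhσ : D.σ (-(c * D.δ)) = -(c * D.δ) := by
      rw [map_neg, map_mul, hcσ, D.hδσ, neg_mul_neg]
    have hM : IsJ D.σ D.δ
        (xM D.σ D.δ ((-(c * D.δ)) • Matrix.single i i 1) (0 : Matrix (Fin r) (Fin m) F)) := by
      refine xM_isJ hσσ D.hδ D.hδσ ?_
      have : ((-(c * D.δ)) • Matrix.single i i (1 : F)).map D.σ =
          ((-(c * D.δ)) • Matrix.single i i (1 : F))ᵀ := by
        ext a b
        simp only [Matrix.map_apply, Matrix.smul_apply, Matrix.transpose_apply, Matrix.single_apply,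
          smul_eq_mul, map_mul, hhσ, apply_ite D.σ, map_one, map_zero, and_comm]
      rw [this]
      simp
    rw [← h _ hhσ hM]
    congr 1
    refine Unitary.eq_of_smul_eq_SU fun x => ?_
    rw [Unitary.tv_smul]
    obtain ⟨y, rfl⟩ : ∃ y : II m r → F, x = (D.P *ᵥ y) ∘ D.e.symm := by
      refine ⟨D.P⁻¹ *ᵥ (x ∘ D.e), ?_⟩
      rw [mulVec_mulVec, mul_nonsing_inv _ D.det_ne, one_mulVec]
      ext j; simp
    rw [hherm, hJu, dotProduct_single]
    show _ = ((D.P * xM D.σ D.δ _ (0 : Matrix (Fin r) (Fin m) F) * D.P⁻¹).submatrix D.e.symm D.e.symm) *ᵥ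
      ((D.P *ᵥ y) ∘ D.e.symm)
    rw [submatrix_mulVec_equiv, Function.comp_assoc]
    simp only [Equiv.symm_symm, Equiv.symm_comp_self, Function.comp_id]
    rw [mulVec_mulVec, Matrix.mul_assoc, nonsing_inv_mul _ D.det_ne, Matrix.mul_one,
      ← mulVec_mulVec]
    have hx : xM D.σ D.δ ((-(c * D.δ)) • Matrix.single i i 1) (0 : Matrix (Fin r) (Fin m) F) *ᵥ y =
        y + ((-(c * D.δ)) * y (Sum.inl (Sum.inr i))) • u₀ := by
      funext j
      rcases j with (j | j) | j <;>
        simp [xM, fromBlocks_mulVec, Matrix.map_zero, u₀, Pi.single_apply, Matrix.mulVec, dotProduct,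
          Matrix.single_apply, Matrix.one_apply, ite_and] <;>
        by_cases hji : j = i <;> simp [hji, eq_comm]
      all_goals exact fun hij => absurd hij.symm hji
    rw [hx, mulVec_add, mulVec_smul]
    funext j
    simp [u]
    by_cases hz : (D.P *ᵥ u₀) (D.e.symm j) = 0
    · simp [hz]
    · left; ring
  rw [eq_top_iff, ← Unitary.tvGroup_empty D.hF h32, Unitary.tvGroup, Subgroup.closure_le]
  rintro _ ⟨v, c, hv, hc, -, rfl⟩
  rw [SetLike.mem_coe, MonoidHom.mem_ker]
  by_cases hv0 : v = 0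
  · subst hv0
    have : Unitary.tv D.hF hv hc = 1 :=
      Unitary.eq_of_smul_eq_SU fun x => by rw [Unitary.tv_smul]; simp
    rw [this, map_one]
  obtain ⟨t, -, ht⟩ := Unitary.exists_move D.hF (S := ∅) (by simpa using hn) (by simp [Unitary.supp_empty])
    (by simp [Unitary.supp_empty]) hu hv hu0 hv0
  subst ht
  have e : t * Unitary.tv D.hF hu hc * t⁻¹ = Unitary.tv D.hF hv hc := Unitary.conj_tv D.hF t hu hc
  rw [← e, map_mul, map_mul, htv c hc, mul_one, map_inv, mul_inv_cancel]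

end Frame

end Cfsg.Agent.CrossChar56.SU
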