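import Cfsg.Agent.CrossChar56.SemisimpleConj

/-!
Semisimple classes of `GL_n(q)` and `SL_n(q)`.
-/

set_option autoImplicit false

open Polynomial Matrix

namespace Cfsg.Agent.CrossChar56.Semisimple

variable {F : Type*} [Field F]

lemma isSemisimple_of_pow_eq_one (p : ℕ) [Fact p.Prime] [CharP F p] {V : Type*} [AddCommGroup V]
    [Module F V] (f : Module.End F V) {N : ℕ} (hN : f ^ N = 1) (hc : N.Coprime p) :
    f.IsSemisimple := by
  refine Module.End.isSemisimple_of_squarefree_aeval_eq_zero (p := X ^ N - 1) ?_ ?_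
  · refine (Polynomial.X_pow_sub_one_separable_iff.2 ?_).squarefree
    intro h
    have h2 := (CharP.cast_eq_zero_iff F p N).1 h
    exact (Fact.out : p.Prime).not_dvd_one (hc ▸ Nat.dvd_gcd h2 dvd_rfl)
  · simp [hN]

variable {n : ℕ}

lemma matrix_exists_conj {A B : Matrix (Fin n) (Fin n) F}
    (hA : Module.End.IsSemisimple (Matrix.toLin' A)) (hB : Module.End.IsSemisimple (Matrix.toLin' B))
    (h : A.charpoly = B.charpoly) :
    ∃ P : GL (Fin n) F, (P : Matrix (Fin n) (Fin n) F) * A = B * P := by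
  obtain ⟨e, he⟩ := exists_conj (Matrix.toLin' A) (Matrix.toLin' B) hA hB (by
    rw [Matrix.charpoly_toLin', Matrix.charpoly_toLin', h])
  refine ⟨⟨LinearMap.toMatrix' (e : (Fin n → F) →ₗ[F] Fin n → F),
    LinearMap.toMatrix' (e.symm : (Fin n → F) →ₗ[F] Fin n → F), ?_, ?_⟩, ?_⟩
  · rw [← LinearMap.toMatrix'_comp]; simp
  · rw [← LinearMap.toMatrix'_comp]; simp
  · apply Matrix.toLin'.injective
    rw [Matrix.toLin'_mul, Matrix.toLin'_mul, Matrix.toLin'_toMatrix']
    exact LinearMap.ext fun x => he x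

lemma matrix_exists_commute_det [Finite F] (hn : 0 < n) {A : Matrix (Fin n) (Fin n) F}
    (hA : Module.End.IsSemisimple (Matrix.toLin' A)) (c : F) :
    ∃ Z : Matrix (Fin n) (Fin n) F, Commute Z A ∧ Z.det = c := by
  haveI : Nonempty (Fin n) := ⟨⟨0, hn⟩⟩
  obtain ⟨z, hz, hdet⟩ := exists_commute_det (Matrix.toLin' A) hA c
  refine ⟨LinearMap.toMatrix' z, ?_, ?_⟩
  · apply Matrix.toLin'.injective
    rw [Matrix.toLin'_mul, Matrix.toLin'_mul, Matrix.toLin'_toMatrix']
    exact hz
  · rw [LinearMap.det_toMatrix', hdet]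

lemma toLin'_pow_eq (A : Matrix (Fin n) (Fin n) F) (N : ℕ) (h : A ^ N = 1) :
    Matrix.toLin' A ^ N = 1 := by
  have := congrArg (Matrix.toLinAlgEquiv' : Matrix (Fin n) (Fin n) F ≃ₐ[F] _) h
  rw [map_pow, map_one] at this
  exact this

lemma gl_semisimple (p : ℕ) [Fact p.Prime] [CharP F p] (g : GL (Fin n) F)
    (hg : (orderOf g).Coprime p) :
    Module.End.IsSemisimple (Matrix.toLin' (g : Matrix (Fin n) (Fin n) F)) :=
  isSemisimple_of_pow_eq_one p _ (toLin'_pow_eq _ _ (by
    rw [← Units.val_pow_eq_pow_val, pow_orderOf_eq_one, Units.val_one])) hg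

lemma sl_semisimple (p : ℕ) [Fact p.Prime] [CharP F p] (g : Matrix.SpecialLinearGroup (Fin n) F)
    (hg : (orderOf g).Coprime p) :
    Module.End.IsSemisimple (Matrix.toLin' (g : Matrix (Fin n) (Fin n) F)) :=
  isSemisimple_of_pow_eq_one p _ (toLin'_pow_eq _ _ (by
    rw [← Matrix.SpecialLinearGroup.coe_pow, pow_orderOf_eq_one,
      Matrix.SpecialLinearGroup.coe_one])) hg

theorem gl_isConj (p : ℕ) [Fact p.Prime] [CharP F p] (g h : GL (Fin n) F)
    (hg : (orderOf g).Coprime p) (hh : (orderOf h).Coprime p)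
    (hc : (g : Matrix (Fin n) (Fin n) F).charpoly = (h : Matrix (Fin n) (Fin n) F).charpoly) :
    IsConj g h := by
  obtain ⟨P, hP⟩ := matrix_exists_conj (gl_semisimple p g hg) (gl_semisimple p h hh) hc
  rw [isConj_iff]
  exact ⟨P, mul_inv_eq_iff_eq_mul.2 (Units.ext hP)⟩

theorem sl_isConj [Finite F] (p : ℕ) [Fact p.Prime] [CharP F p]
    (g h : Matrix.SpecialLinearGroup (Fin n) F) (hg : (orderOf g).Coprime p)
    (hh : (orderOf h).Coprime p)
    (hc : (g : Matrix (Fin n) (Fin n) F).charpoly = (h : Matrix (Fin n) (Fin n) F).charpoly) :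
    IsConj g h := by
  rcases Nat.eq_zero_or_pos n with rfl | hn
  · rw [Subsingleton.elim g h]
  obtain ⟨P, hP⟩ := matrix_exists_conj (sl_semisimple p g hg) (sl_semisimple p h hh) hc
  have hdP : (P : Matrix (Fin n) (Fin n) F).det ≠ 0 :=
    ((Matrix.isUnit_iff_isUnit_det _).1 P.isUnit).ne_zero
  obtain ⟨Z, hZ, hdZ⟩ := matrix_exists_commute_det hn (sl_semisimple p g hg)
    (P : Matrix (Fin n) (Fin n) F).det⁻¹
  let S : Matrix.SpecialLinearGroup (Fin n) F := ⟨(P : Matrix (Fin n) (Fin n) F) * Z, by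
    rw [Matrix.det_mul, hdZ, mul_inv_cancel₀ hdP]⟩
  rw [isConj_iff]
  refine ⟨S, mul_inv_eq_iff_eq_mul.2 (Subtype.ext ?_)⟩
  show (P : Matrix (Fin n) (Fin n) F) * Z * g = h * (P * Z)
  rw [mul_assoc, hZ.eq, ← mul_assoc, hP, mul_assoc]

/-- A matrix with prescribed characteristic polynomial. -/
lemma exists_matrix_charpoly (P : F[X]) (hP : P.Monic) (hd : P.natDegree = n) :
    ∃ M : Matrix (Fin n) (Fin n) F, M.charpoly = P := by
  let pb := AdjoinRoot.powerBasis hP.ne_zero
  have hdim : pb.dim = n := hd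
  refine ⟨Matrix.reindex (finCongr hdim) (finCongr hdim)
    (Algebra.leftMulMatrix pb.basis pb.gen), ?_⟩
  rw [Matrix.charpoly_reindex, charpoly_leftMulMatrix,
    AdjoinRoot.minpoly_powerBasis_gen_of_monic hP]

variable [Fintype F] (p : ℕ) [Fact p.Prime] [CharP F p]

lemma charpoly_pow_card_pow (M : Matrix (Fin n) (Fin n) F) (j : ℕ) :
    (M ^ Fintype.card F ^ j).charpoly = M.charpoly := by
  induction j with
  | zero => simp
  | succ j ih => rw [pow_succ, pow_mul, FiniteField.Matrix.charpoly_pow_card, ih]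

/-- A power `g ^ (q ^ j)` has order prime to `p`. -/
lemma exists_pow_coprime {G : Type*} [Group G] [Finite G] (g : G) :
    ∃ j : ℕ, (orderOf (g ^ Fintype.card F ^ j)).Coprime p := by
  obtain ⟨a, m, hm, ham⟩ := Nat.exists_eq_pow_mul_and_not_dvd (orderOf_pos g).ne' p
    (Fact.out : p.Prime).ne_one
  obtain ⟨f, -, hf⟩ := FiniteField.card F p
  refine ⟨a, ?_⟩
  have hdvd : orderOf (g ^ Fintype.card F ^ a) ∣ m := by
    rw [orderOf_dvd_iff_pow_eq_one, ← pow_mul, ← orderOf_dvd_iff_pow_eq_one, ham]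
    exact mul_dvd_mul_right (pow_dvd_pow_of_dvd (hf ▸ dvd_pow_self p f.ne_zero) a) m
  exact Nat.Coprime.coprime_dvd_left hdvd
    (((Fact.out : p.Prime).coprime_iff_not_dvd.2 hm).symm)

theorem exists_gl (P : F[X]) (hP : P.Monic) (hd : P.natDegree = n) (h0 : P.coeff 0 ≠ 0) :
    ∃ g : GL (Fin n) F, (orderOf g).Coprime p ∧
      (g : Matrix (Fin n) (Fin n) F).charpoly = P := by
  obtain ⟨M, hM⟩ := exists_matrix_charpoly P hP hd
  have hdet : M.det ≠ 0 := by
    rw [Matrix.det_eq_sign_charpoly_coeff, hM]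
    exact mul_ne_zero (pow_ne_zero _ (neg_ne_zero.2 one_ne_zero)) h0
  let g : GL (Fin n) F := Matrix.GeneralLinearGroup.mkOfDetNeZero M hdet
  obtain ⟨j, hj⟩ := exists_pow_coprime (F := F) p g
  refine ⟨g ^ Fintype.card F ^ j, hj, ?_⟩
  rw [Units.val_pow_eq_pow_val, charpoly_pow_card_pow]
  exact hM

theorem exists_sl (P : F[X]) (hP : P.Monic) (hd : P.natDegree = n)
    (h0 : P.coeff 0 = (-1) ^ n) :
    ∃ g : Matrix.SpecialLinearGroup (Fin n) F, (orderOf g).Coprime p ∧
      (g : Matrix (Fin n) (Fin n) F).charpoly = P := by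
  obtain ⟨M, hM⟩ := exists_matrix_charpoly P hP hd
  have hdet : M.det = 1 := by
    rw [Matrix.det_eq_sign_charpoly_coeff, hM, h0, Fintype.card_fin, ← mul_pow]
    simp
  let g : Matrix.SpecialLinearGroup (Fin n) F := ⟨M, hdet⟩
  obtain ⟨j, hj⟩ := exists_pow_coprime (F := F) p g
  refine ⟨g ^ Fintype.card F ^ j, hj, ?_⟩
  rw [Matrix.SpecialLinearGroup.coe_pow, charpoly_pow_card_pow]
  exact hM

/-- Monic polynomials of degree `m + 1` with constant coefficient in `s`. -/
lemma card_monic (m : ℕ) (s : Set F) :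
    Nat.card {P : F[X] // P.Monic ∧ P.natDegree = m + 1 ∧ P.coeff 0 ∈ s} =
      Nat.card s * Fintype.card F ^ m := by
  have e : {P : F[X] // P.Monic ∧ P.natDegree = m + 1 ∧ P.coeff 0 ∈ s} ≃ s × (Fin m → F) :=
    { toFun := fun P => (⟨P.1.coeff 0, P.2.2.2⟩, fun i => P.1.coeff (i + 1))
      invFun := fun x => ⟨X ^ (m + 1) + (C (x.1 : F) + ∑ i : Fin m, C (x.2 i) * X ^ ((i : ℕ) + 1)),
        by
          have hdeg : (C (x.1 : F) + ∑ i : Fin m, C (x.2 i) * X ^ ((i : ℕ) + 1)).degree <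
              ((m + 1 : ℕ) : WithBot ℕ) := by
            rw [Polynomial.degree_lt_iff_coeff_zero]
            intro k hk
            rw [coeff_add, coeff_C, if_neg (by omega), zero_add, finsetSum_coeff]
            refine Finset.sum_eq_zero fun i _ => ?_
            rw [coeff_C_mul_X_pow, if_neg (by omega)]
          refine ⟨monic_X_pow_add hdeg, ?_, ?_⟩
          · apply natDegree_eq_of_degree_eq_some
            rw [degree_add_eq_left_of_degree_lt (by rwa [degree_X_pow]), degree_X_pow]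
          · rw [coeff_add, coeff_X_pow, if_neg (by omega), coeff_add, coeff_C_zero, finsetSum_coeff]
            simp⟩
      left_inv := by
        rintro ⟨P, hm, hd, hs⟩
        apply Subtype.ext
        show X ^ (m + 1) + (C (P.coeff 0) + ∑ i : Fin m, C (P.coeff (i + 1)) * X ^ ((i : ℕ) + 1)) = P
        conv_rhs => rw [hm.as_sum, hd, Finset.sum_range_succ']
        rw [Fin.sum_univ_eq_sum_range (fun i => C (P.coeff (i + 1)) * X ^ (i + 1)) m]
        simp [add_comm]
      right_inv := by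
        rintro ⟨⟨a, ha⟩, c⟩
        refine Prod.ext (Subtype.ext ?_) (funext fun j => ?_)
        · show (X ^ (m + 1) + (C a + ∑ i : Fin m, C (c i) * X ^ ((i : ℕ) + 1))).coeff 0 = a
          rw [coeff_add, coeff_X_pow, if_neg (by omega), coeff_add, coeff_C_zero, finsetSum_coeff]
          simp
        · show (X ^ (m + 1) + (C a + ∑ i : Fin m, C (c i) * X ^ ((i : ℕ) + 1))).coeff ((j : ℕ) + 1) = c j
          rw [coeff_add, coeff_X_pow, if_neg (by omega), coeff_add, coeff_C,
            if_neg (by omega), finsetSum_coeff]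
          simp only [coeff_C_mul_X_pow, add_left_inj, Fin.val_inj, zero_add]
          simp }
  rw [Nat.card_congr e, Nat.card_prod, Nat.card_fun, Nat.card_fin, Nat.card_eq_fintype_card (α := F)]

end Cfsg.Agent.CrossChar56.Semisimple
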