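import Mathlib

/-!
Semisimple endomorphisms are classified by their characteristic polynomials, and over a finite
field their centralizers have surjective determinant.
-/

set_option autoImplicit false

open Polynomial Module

namespace Cfsg.Agent.CrossChar56.Semisimple

universe u

variable {K : Type u} [Field K]

section cyc

variable {V : Type*} [AddCommGroup V] [Module K V] (f : Module.End K V) {p : K[X]} (hm : p.Monic)
  (v : V)

/-- The map `r ↦ r(f) v` on `K[X]/(p)`. -/
noncomputable def cyc : AdjoinRoot p →ₗ[K] V :=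
  ((LinearMap.applyₗ v : Module.End K V →ₗ[K] V).comp (aeval f).toLinearMap).comp
    (AdjoinRoot.modByMonicHom hm)

lemma cyc_mk (hv : aeval f p v = 0) (r : K[X]) :
    cyc f hm v (AdjoinRoot.mk p r) = aeval f r v := by
  have h := congrArg (fun a => aeval f a v) (modByMonic_add_div r p)
  simp only [map_add, map_mul, LinearMap.add_apply] at h
  rw [← aeval_mul, mul_comm p, aeval_mul, Module.End.mul_apply, hv, map_zero, add_zero] at h
  simp [cyc, AdjoinRoot.modByMonicHom_mk, h]

end cyc

/-- A root of `p` in the base change gives a kernel vector of `p(f)`. -/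
lemma exists_ker {V : Type*} [AddCommGroup V] [Module K V] [FiniteDimensional K V]
    (f : Module.End K V) {p : K[X]} (hp : Irreducible p) (hd : p ∣ f.charpoly) :
    ∃ v : V, v ≠ 0 ∧ aeval f p v = 0 := by
  haveI : Fact (Irreducible p) := ⟨hp⟩
  let L := AdjoinRoot p
  let α : L := AdjoinRoot.root p
  let fL : Module.End L (TensorProduct K L V) := LinearMap.baseChange L f
  have hev : Module.End.HasEigenvalue fL α := by
    rw [Module.End.hasEigenvalue_iff_isRoot_charpoly]
    obtain ⟨r, hr⟩ := hd
    simp only [fL, LinearMap.charpoly_baseChange, Polynomial.IsRoot, Polynomial.eval_map, hr,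
      Polynomial.eval₂_mul]
    rw [show Polynomial.eval₂ (algebraMap K L) α p = 0 from AdjoinRoot.eval₂_root p, zero_mul]
  obtain ⟨w, hw⟩ := hev.exists_hasEigenvector
  have h1 : aeval fL (p.map (algebraMap K L)) w = 0 := by
    rw [Module.End.aeval_apply_of_hasEigenvector hw, Polynomial.eval_map,
      show Polynomial.eval₂ (algebraMap K L) α p = 0 from AdjoinRoot.eval₂_root p, zero_smul]
  have h2 : aeval fL (p.map (algebraMap K L)) = LinearMap.baseChange L (aeval f p) := by
    rw [Polynomial.aeval_map_algebraMap]
    exact Polynomial.aeval_algHom_apply (Module.End.baseChangeHom K L V) f p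
  have hdet : LinearMap.det (aeval f p) = 0 := by
    have : LinearMap.det (LinearMap.baseChange L (aeval f p)) = 0 := by
      by_contra hne
      apply hw.2
      have hinj := LinearMap.ker_eq_bot'.1 ?_ w (h2 ▸ h1)
      · exact hinj
      · by_contra hb
        exact hne (LinearMap.det_eq_zero_iff_ker_ne_bot.2 hb)
    rw [LinearMap.det_baseChange] at this
    exact (map_eq_zero _).1 this
  obtain ⟨v, hv, hv0⟩ := Submodule.exists_mem_ne_zero_of_ne_bot
    (LinearMap.det_eq_zero_iff_ker_ne_bot.1 hdet)
  exact ⟨v, hv0, hv⟩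

/-- Multiplication by the root of `p` on `K[X]/(p)`. -/
noncomputable def mulRoot (p : K[X]) : Module.End K (AdjoinRoot p) :=
  LinearMap.mulLeft K (AdjoinRoot.root p)

section split

variable {V : Type u} [AddCommGroup V] [Module K V] [FiniteDimensional K V]

/-- Split off a simple summand. -/
lemma exists_split (f : Module.End K V) (hf : f.IsSemisimple) {p : K[X]} (hp : Irreducible p)
    (hm : p.Monic) (hd : p ∣ f.charpoly) :
    ∃ (Q : Submodule K V) (hQ : ∀ x ∈ Q, f x ∈ Q) (E : (AdjoinRoot p × Q) ≃ₗ[K] V),
      Module.End.IsSemisimple (f.restrict hQ) ∧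
      ∀ a b, E (AdjoinRoot.root p * a, (f.restrict hQ) b) = f (E (a, b)) := by
  haveI : Fact (Irreducible p) := ⟨hp⟩
  obtain ⟨v, hv0, hv⟩ := exists_ker f hp hd
  let c := cyc f hm v
  have hc : ∀ r, c (AdjoinRoot.mk p r) = aeval f r v := cyc_mk f hm v hv
  have hroot : ∀ x, c (AdjoinRoot.root p * x) = f (c x) := by
    intro x
    obtain ⟨r, rfl⟩ := AdjoinRoot.mk_surjective x
    rw [← AdjoinRoot.mk_X, ← map_mul, hc, hc, map_mul, aeval_X, Module.End.mul_apply]
  have hinj : Function.Injective c := by
    rw [← LinearMap.ker_eq_bot, LinearMap.ker_eq_bot']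
    intro x hx
    by_contra hx0
    apply hv0
    obtain ⟨r, hr⟩ := AdjoinRoot.mk_surjective x⁻¹
    obtain ⟨s, hs⟩ := AdjoinRoot.mk_surjective x
    have h1 : c (AdjoinRoot.mk p 1) = v := by rw [hc, map_one, Module.End.one_apply]
    rw [← h1, map_one, ← inv_mul_cancel₀ hx0, ← hr, ← hs, ← map_mul, hc, map_mul,
      Module.End.mul_apply, ← hc s, hs, hx, map_zero]
  have hS : LinearMap.range c ∈ Module.End.invtSubmodule f := by
    rintro _ ⟨x, rfl⟩
    exact ⟨AdjoinRoot.root p * x, hroot x⟩
  obtain ⟨Q, hQ, hcompl⟩ := Module.End.isSemisimple_iff.1 hf _ hS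
  have hQ' : ∀ x ∈ Q, f x ∈ Q := fun x hx => hQ hx
  let E : (AdjoinRoot p × Q) ≃ₗ[K] V :=
    ((LinearEquiv.ofInjective c hinj).prodCongr (LinearEquiv.refl K Q)).trans
      (Submodule.prodEquivOfIsCompl _ _ hcompl)
  refine ⟨Q, hQ', E, hf.restrict hQ, ?_⟩
  intro x y
  simp [E, hroot]

lemma charpoly_split {f : Module.End K V} {p : K[X]} [Module.Finite K (AdjoinRoot p)]
    {Q : Submodule K V} {hQ : ∀ x ∈ Q, f x ∈ Q}
    (E : (AdjoinRoot p × Q) ≃ₗ[K] V)
    (h : ∀ a b, E (AdjoinRoot.root p * a, (f.restrict hQ) b) = f (E (a, b))) :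
    f.charpoly = (mulRoot p).charpoly * (f.restrict hQ).charpoly := by
  have : E.conj ((mulRoot p).prodMap (f.restrict hQ)) = f := by
    apply LinearMap.ext
    intro x
    have := h (E.symm x).1 (E.symm x).2
    simpa [LinearEquiv.conj_apply, mulRoot] using this
  rw [← LinearMap.charpoly_prodMap, ← E.charpoly_conj, this]

end split

private lemma exists_conj_aux (n : ℕ) : ∀ (V W : Type u) [AddCommGroup V] [Module K V]
    [FiniteDimensional K V] [AddCommGroup W] [Module K W] [FiniteDimensional K W]
    (f : Module.End K V) (g : Module.End K W), finrank K V = n → f.IsSemisimple →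
      g.IsSemisimple → f.charpoly = g.charpoly →
      ∃ e : V ≃ₗ[K] W, ∀ x, e (f x) = g (e x) := by
  induction n using Nat.strong_induction_on with
  | _ n IH =>
    intro V W _ _ _ _ _ _ f g hn hf hg hfg
    have hfin : finrank K V = finrank K W := by
      rw [← LinearMap.charpoly_natDegree f, hfg, LinearMap.charpoly_natDegree]
    rcases Nat.eq_zero_or_pos n with h0 | hpos
    · subst h0
      haveI : Subsingleton V := Module.finrank_zero_iff.1 hn
      haveI : Subsingleton W := Module.finrank_zero_iff.1 (hfin ▸ hn)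
      exact ⟨LinearEquiv.ofSubsingleton V W, fun x => Subsingleton.elim _ _⟩
    · obtain ⟨p, hm, hp, hd⟩ := Polynomial.exists_monic_irreducible_factor f.charpoly (by
        apply Polynomial.not_isUnit_of_natDegree_pos
        rw [LinearMap.charpoly_natDegree]; omega)
      haveI : Module.Finite K (AdjoinRoot p) := hm.finite_adjoinRoot
      haveI : Fact (Irreducible p) := ⟨hp⟩
      obtain ⟨Q, hQ, E, hfs, hE⟩ := exists_split f hf hp hm hd
      obtain ⟨R, hR, E', hgs, hE'⟩ := exists_split g hg hp hm (hfg ▸ hd)
      have hch : (f.restrict hQ).charpoly = (g.restrict hR).charpoly := by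
        have h := hfg
        rw [charpoly_split E hE, charpoly_split E' hE'] at h
        exact mul_left_cancel₀ (mulRoot p).charpoly_monic.ne_zero h
      have hlt : finrank K Q < n := by
        have := E.finrank_eq
        rw [Module.finrank_prod] at this
        have := (Module.finrank_pos : 0 < finrank K (AdjoinRoot p))
        omega
      obtain ⟨e, he⟩ := IH _ hlt Q R _ _ rfl hfs hgs hch
      refine ⟨E.symm.trans (((LinearEquiv.refl K (AdjoinRoot p)).prodCongr e).trans E'), ?_⟩
      intro x
      obtain ⟨⟨a, b⟩, rfl⟩ := E.surjective x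
      rw [← hE]
      simp only [LinearEquiv.trans_apply, LinearEquiv.symm_apply_apply,
        LinearEquiv.prodCongr_apply, LinearEquiv.refl_apply]
      rw [he, hE']

/-- Semisimple endomorphisms with the same characteristic polynomial are similar. -/
theorem exists_conj {V W : Type u} [AddCommGroup V] [Module K V] [FiniteDimensional K V]
    [AddCommGroup W] [Module K W] [FiniteDimensional K W] (f : Module.End K V)
    (g : Module.End K W) (hf : f.IsSemisimple) (hg : g.IsSemisimple)
    (h : f.charpoly = g.charpoly) : ∃ e : V ≃ₗ[K] W, ∀ x, e (f x) = g (e x) :=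
  exists_conj_aux _ V W f g rfl hf hg h

/-- The centralizer of a semisimple endomorphism has surjective determinant. -/
theorem exists_commute_det [Finite K] {V : Type u} [AddCommGroup V] [Module K V]
    [FiniteDimensional K V] [Nontrivial V] (f : Module.End K V) (hf : f.IsSemisimple) (c : K) :
    ∃ z : Module.End K V, Commute z f ∧ LinearMap.det z = c := by
  obtain ⟨p, hm, hp, hd⟩ := Polynomial.exists_monic_irreducible_factor f.charpoly (by
    apply Polynomial.not_isUnit_of_natDegree_pos
    rw [LinearMap.charpoly_natDegree]; exact Module.finrank_pos)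
  haveI : Module.Finite K (AdjoinRoot p) := hm.finite_adjoinRoot
  haveI : Fact (Irreducible p) := ⟨hp⟩
  haveI : Finite (AdjoinRoot p) := Module.finite_of_finite K
  obtain ⟨Q, hQ, E, -, hE⟩ := exists_split f hf hp hm hd
  obtain ⟨k, hk⟩ := FiniteField.norm_surjective K (AdjoinRoot p) c
  let w : Module.End K (AdjoinRoot p × Q) := (LinearMap.mulLeft K k).prodMap LinearMap.id
  refine ⟨E.conj w, ?_, ?_⟩
  · have hf' : E.conj ((mulRoot p).prodMap (f.restrict hQ)) = f := by
      apply LinearMap.ext
      intro x
      have := hE (E.symm x).1 (E.symm x).2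
      simpa [LinearEquiv.conj_apply, mulRoot] using this
    rw [← hf']
    have hw : w * (mulRoot p).prodMap (f.restrict hQ) = (mulRoot p).prodMap (f.restrict hQ) * w := by
      apply LinearMap.ext
      rintro ⟨a, b⟩
      simp [w, mulRoot, mul_left_comm]
    show E.conj w * _ = _ * E.conj w
    apply LinearMap.ext
    intro x
    simpa [LinearEquiv.conj_apply] using congrArg E (LinearMap.congr_fun hw (E.symm x))
  · rw [LinearEquiv.conj_apply, LinearMap.comp_assoc, LinearMap.det_conj, LinearMap.det_prodMap,
      LinearMap.det_id, mul_one, ← hk, Algebra.norm_apply]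
    rfl

end Cfsg.Agent.CrossChar56.Semisimple
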