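import Mathlib

/-!
Lower bound for the degree of a faithful representation of `Sp_{2n}` in the natural characteristic.
-/

set_option autoImplicit false

noncomputable section

namespace Cfsg.Agent.CrossChar56.SpNat

open Polynomial Module Matrix

theorem pairs_bound {K : Type*} [Field K] [IsAlgClosed K] {e : ℕ} (he : (e : K) ≠ 0) {ι : Type*}
    [DecidableEq ι] :
    ∀ (N : ℕ) (S : Finset ι), S.card = N → ∀ (V : Type*) [AddCommGroup V] [Module K V]
      [FiniteDimensional K V] (a b : ι → Module.End K V),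
      (∀ k ∈ S, a k ^ e = 1 ∧ a k ^ 2 ≠ 1 ∧ Function.Injective (b k) ∧ a k * b k * a k = b k) →
      (∀ k ∈ S, ∀ l ∈ S, k ≠ l → Commute (a k) (a l) ∧ Commute (a k) (b l)) →
      2 * N ≤ Module.finrank K V := by
  classical
  intro N
  induction N using Nat.strong_induction_on with
  | h N ih =>
  intro S hS V _ _ _ a b hpair hcomm
  rcases Nat.eq_zero_or_pos N with h0 | hpos
  · omega
  obtain ⟨k₀, hk₀⟩ := Finset.card_pos.mp (hS ▸ hpos)
  obtain ⟨hae, ha2, hbi, haba⟩ := hpair k₀ hk₀
  set x := a k₀ with hx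
  set y := b k₀ with hy
  have hsep : (X ^ e - 1 : K[X]).Separable := separable_X_pow_sub_C 1 he one_ne_zero
  have hanz : aeval x (X ^ e - 1 : K[X]) = 0 := by simp [hae]
  have hmp : minpoly K x ∣ X ^ e - 1 := minpoly.dvd K x hanz
  obtain ⟨r, hr, hr2⟩ : ∃ r : K, (minpoly K x).IsRoot r ∧ r ^ 2 ≠ 1 := by
    by_contra hcon
    push Not at hcon
    apply ha2
    have hs : (minpoly K x).Separable := hsep.of_dvd hmp
    have hsp : (minpoly K x).Splits := IsAlgClosed.splits _
    have hne : minpoly K x ≠ 0 := minpoly.ne_zero (Algebra.IsIntegral.isIntegral x)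
    have hd : minpoly K x ∣ (X ^ 2 - 1 : K[X]) := by
      refine (hsp.dvd_iff_roots_le_roots hne ?_).mpr ?_
      · simpa using X_pow_sub_C_ne_zero two_pos (1 : K)
      · rw [Multiset.le_iff_subset (nodup_roots hs)]
        intro z hz
        rw [mem_roots hne] at hz
        rw [mem_roots (show (X ^ 2 - 1 : K[X]) ≠ 0 by simpa using X_pow_sub_C_ne_zero two_pos (1 : K))]
        simp [hcon z hz]
    have h := Polynomial.aeval_eq_zero_of_dvd_aeval_eq_zero hd (minpoly.aeval K x)
    simpa [sub_eq_zero] using h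
  have hr0 : r ≠ 0 := by
    intro h
    subst h
    have h1 : (X ^ e - 1 : K[X]).IsRoot 0 := hr.dvd hmp
    have he0 : e ≠ 0 := by rintro rfl; simp at he
    simp [zero_pow he0] at h1
  set p₁ : K[X] := X - C r with hp1
  set p₂ : K[X] := X - C r⁻¹ with hp2
  have hrr : r ≠ r⁻¹ := fun h => hr2 (by rw [pow_two]; nth_rewrite 2 [h]; exact mul_inv_cancel₀ hr0)
  have hd2 : p₂ ∣ (X ^ e - 1 : K[X]) := by
    have h1 : (X ^ e - 1 : K[X]).IsRoot r := hr.dvd hmp
    rw [dvd_iff_isRoot]
    simp only [IsRoot.def, eval_sub, eval_pow, eval_X, eval_one, sub_eq_zero] at h1 ⊢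
    rw [inv_pow, h1, inv_one]
  have hd1 : p₁ ∣ (X ^ e - 1 : K[X]) := dvd_iff_isRoot.mpr (hr.dvd hmp)
  have hco12 : IsCoprime p₁ p₂ := isCoprime_X_sub_C_of_isUnit_sub (sub_ne_zero.mpr hrr).isUnit
  obtain ⟨g, hg⟩ := hco12.mul_dvd hd1 hd2
  have hco3 : IsCoprime (p₁ * p₂) g := (hg ▸ hsep : (p₁ * p₂ * g).Separable).isCoprime
  let W : K[X] → Submodule K V := fun p => LinearMap.ker (aeval x p)
  have hinv : ∀ (p : K[X]) (f : Module.End K V), Commute x f → ∀ v ∈ W p, f v ∈ W p := by
    intro p f hf
    have hc : Commute (aeval x p) f := by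
      induction p using Polynomial.induction_on' with
      | add p q hp hq => rw [map_add]; exact hp.add_left hq
      | monomial n c =>
        rw [aeval_monomial]
        exact (Algebra.commute_algebraMap_left c f).mul_left (hf.pow_left n)
    intro v hv
    show aeval x p (f v) = 0
    have h := congrArg (fun (φ : Module.End K V) => φ v) hc.eq
    simp only [Module.End.mul_apply] at h
    rw [h, LinearMap.mem_ker.mp hv, map_zero]
  have htop : (W p₁ ⊔ W p₂) ⊔ W g = ⊤ := by
    simp only [W]
    rw [sup_ker_aeval_eq_ker_aeval_mul_of_coprime _ hco12,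
      sup_ker_aeval_eq_ker_aeval_mul_of_coprime _ hco3, ← hg, hanz, LinearMap.ker_zero]
  have hdis12 : Disjoint (W p₁) (W p₂) := disjoint_ker_aeval_of_isCoprime _ hco12
  have hdis3 : Disjoint (W p₁ ⊔ W p₂) (W g) := by
    have := disjoint_ker_aeval_of_isCoprime x hco3
    rwa [← sup_ker_aeval_eq_ker_aeval_mul_of_coprime _ hco12] at this
  have hmem : ∀ (s : K) (v : V), v ∈ W (X - C s) ↔ x v = s • v := by
    intro s v
    show aeval x (X - C s) v = 0 ↔ _
    simp [Module.algebraMap_end_apply, sub_eq_zero]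
  -- the involution swaps the two eigenspaces
  have hswap : ∀ s : K, s ≠ 0 → ∀ v, x v = s • v → x (y v) = s⁻¹ • y v := by
    intro s hs v hv
    have h := congrArg (fun (φ : Module.End K V) => φ v) haba
    simp only [Module.End.mul_apply] at h
    rw [hv, map_smul, map_smul] at h
    calc x (y v) = s⁻¹ • (s • x (y v)) := by rw [smul_smul, inv_mul_cancel₀ hs, one_smul]
      _ = s⁻¹ • y v := by rw [h]
  have hdim : Module.finrank K (W p₁) = Module.finrank K (W p₂) := by
    have key : ∀ s : K, s ≠ 0 → Module.finrank K (W (X - C s)) ≤ Module.finrank K (W (X - C s⁻¹)) := by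
      intro s hs
      let φ : W (X - C s) →ₗ[K] W (X - C s⁻¹) :=
        y.restrict (fun v hv => (hmem _ _).mpr (hswap s hs v ((hmem _ _).mp hv)))
      exact LinearMap.finrank_le_finrank_of_injective (f := φ)
        (fun u v h => Subtype.ext (hbi (congrArg Subtype.val h)))
    have k2 := key r⁻¹ (inv_ne_zero hr0)
    rw [inv_inv] at k2
    exact le_antisymm (key r hr0) k2
  have hsurj : ∀ v ∈ W p₂, ∃ u ∈ W p₁, y u = v := by
    intro v hv
    let φ : W p₁ →ₗ[K] W p₂ :=
      y.restrict (fun u hu => (hmem _ _).mpr (hswap r hr0 u ((hmem _ _).mp hu)))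
    obtain ⟨u, hu⟩ := (LinearMap.injective_iff_surjective_of_finrank_eq_finrank hdim (f := φ)).mp
      (fun u v h => Subtype.ext (hbi (congrArg Subtype.val h))) ⟨v, hv⟩
    exact ⟨u, u.2, congrArg Subtype.val hu⟩
  have hpos1 : 1 ≤ Module.finrank K (W p₁) := by
    obtain ⟨v, hv⟩ := (Module.End.hasEigenvalue_of_isRoot hr).exists_hasEigenvector
    exact Submodule.one_le_finrank_iff.mpr
      (Submodule.ne_bot_iff _ |>.mpr ⟨v, (hmem _ _).mpr hv.apply_eq_smul, hv.2⟩)
  have hsum : Module.finrank K V =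
      Module.finrank K (W p₁) + Module.finrank K (W p₂) + Module.finrank K (W g) := by
    have h1 := Submodule.finrank_sup_add_finrank_inf_eq (W p₁ ⊔ W p₂) (W g)
    have h2 := Submodule.finrank_sup_add_finrank_inf_eq (W p₁) (W p₂)
    rw [hdis3.eq_bot, finrank_bot, htop, finrank_top] at h1
    rw [hdis12.eq_bot, finrank_bot] at h2
    omega
  -- recursion
  have hrec : ∀ (p : K[X]) (T : Finset ι), T ⊆ S.erase k₀ →
      (∀ k ∈ T, ∃ v ∈ W p, a k (a k v) ≠ v) → 2 * T.card ≤ Module.finrank K (W p) := by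
    intro p T hT hne
    have hTS : ∀ k ∈ T, k ∈ S ∧ k ≠ k₀ := fun k hk => by
      have := Finset.mem_erase.mp (hT hk); exact ⟨this.2, this.1⟩
    have hia : ∀ k ∈ T, ∀ v ∈ W p, a k v ∈ W p := fun k hk =>
      hinv p _ (hcomm k₀ hk₀ k (hTS k hk).1 (Ne.symm (hTS k hk).2)).1
    have hib : ∀ k ∈ T, ∀ v ∈ W p, b k v ∈ W p := fun k hk =>
      hinv p _ (hcomm k₀ hk₀ k (hTS k hk).1 (Ne.symm (hTS k hk).2)).2
    let a' : ι → Module.End K (W p) := fun k => if h : k ∈ T then (a k).restrict (hia k h) else 0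
    let b' : ι → Module.End K (W p) := fun k => if h : k ∈ T then (b k).restrict (hib k h) else 0
    have ha' : ∀ k ∈ T, ∀ v : W p, (a' k v : V) = a k v := fun k hk v => by simp [a', hk]
    have hb' : ∀ k ∈ T, ∀ v : W p, (b' k v : V) = b k v := fun k hk v => by simp [b', hk]
    have hpw : ∀ k ∈ T, ∀ (i : ℕ) (v : W p), ((a' k ^ i) v : V) = (a k ^ i) v := by
      intro k hk i
      induction i with
      | zero => intro v; simp
      | succ i ihi => intro v; rw [pow_succ, pow_succ, Module.End.mul_apply, Module.End.mul_apply, ihi, ha' k hk]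
    have hlt : T.card < N := by
      have := Finset.card_le_card hT
      rw [Finset.card_erase_of_mem hk₀] at this
      omega
    refine ih T.card hlt T rfl (W p) a' b' (fun k hk => ?_) (fun k hk l hl hkl => ?_)
    · obtain ⟨h1, -, h3, h4⟩ := hpair k (hTS k hk).1
      refine ⟨?_, ?_, ?_, ?_⟩
      · apply LinearMap.ext; intro v; apply Subtype.ext
        rw [hpw k hk, h1]; rfl
      · intro h
        obtain ⟨v, hv, hne'⟩ := hne k hk
        apply hne'
        have := congrArg Subtype.val (DFunLike.congr_fun h ⟨v, hv⟩)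
        rw [hpw k hk] at this
        simpa [pow_two] using this
      · intro u v h
        apply Subtype.ext
        apply h3
        rw [← hb' k hk, ← hb' k hk, h]
      · apply LinearMap.ext; intro v; apply Subtype.ext
        simp only [Module.End.mul_apply, ha' k hk, hb' k hk]
        exact DFunLike.congr_fun h4 (v : V)
    · obtain ⟨h1, h2⟩ := hcomm k (hTS k hk).1 l (hTS l hl).1 hkl
      constructor <;> apply LinearMap.ext <;> intro v <;> apply Subtype.ext <;>
        simp only [Module.End.mul_apply, ha' k hk, ha' l hl, hb' l hl]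
      · exact DFunLike.congr_fun h1.eq (v : V)
      · exact DFunLike.congr_fun h2.eq (v : V)
  let T₁ := (S.erase k₀).filter (fun k => ∃ v ∈ W p₁, a k (a k v) ≠ v)
  let T₃ := (S.erase k₀).filter (fun k => ∃ v ∈ W g, a k (a k v) ≠ v)
  have hcover : S.erase k₀ ⊆ T₁ ∪ T₃ := by
    intro k hk
    by_contra hn
    simp only [T₁, T₃, Finset.mem_union, Finset.mem_filter, not_or, not_and, not_exists, not_not] at hn
    have hk1 := hn.1 hk
    have hk3 := hn.2 hk
    obtain ⟨hkne, hkS⟩ := Finset.mem_erase.mp hk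
    apply (hpair k hkS).2.1
    have hky : Commute (a k) y := (hcomm k hkS k₀ hk₀ hkne).2
    have hk2 : ∀ v ∈ W p₂, a k (a k v) = v := by
      intro v hv
      obtain ⟨u, hu, rfl⟩ := hsurj v hv
      have e := fun w => DFunLike.congr_fun hky.eq w
      simp only [Module.End.mul_apply] at e
      rw [e, e, hk1 u hu]
    have hle : (W p₁ ⊔ W p₂) ⊔ W g ≤ LinearMap.eqLocus (a k ^ 2) 1 := by
      refine sup_le (sup_le ?_ ?_) ?_ <;> intro v hv <;> rw [LinearMap.mem_eqLocus, pow_two] <;>
        simp only [Module.End.mul_apply, Module.End.one_apply]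
      · exact hk1 v hv
      · exact hk2 v hv
      · exact hk3 v hv
    rw [htop] at hle
    exact LinearMap.ext (fun v => hle (Submodule.mem_top : v ∈ _))
  have c1 := hrec p₁ T₁ (Finset.filter_subset _ _) (fun k hk => (Finset.mem_filter.mp hk).2)
  have c3 := hrec g T₃ (Finset.filter_subset _ _) (fun k hk => (Finset.mem_filter.mp hk).2)
  have c := (Finset.card_le_card hcover).trans (Finset.card_union_le _ _)
  rw [Finset.card_erase_of_mem hk₀, hS] at c
  omega

theorem exists_dihedral_pair {F : Type*} [Field F] [Finite F] :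
    ∃ (e : ℕ) (x y : SpecialLinearGroup (Fin 2) F), (e : F) ≠ 0 ∧ x ^ e = 1 ∧ x ^ 2 ≠ 1 ∧
      x * y * x = y := by
  haveI : Fintype F := Fintype.ofFinite F
  by_cases h2 : (2 : F) = 0
  · refine ⟨3, ⟨!![0, -1; 1, -1], by simp [det_fin_two]⟩, ⟨!![1, 0; 1, 1], by simp [det_fin_two]⟩,
      ?_, ?_, ?_, ?_⟩
    · intro h
      apply one_ne_zero (α := F)
      push_cast at h
      linear_combination h - h2
    · apply Subtype.ext
      show (!![(0 : F), -1; 1, -1] : Matrix (Fin 2) (Fin 2) F) ^ 3 = 1
      simp [pow_succ, Matrix.one_fin_two]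
    · intro h
      have := congrArg (fun A : SpecialLinearGroup (Fin 2) F =>
        (A : Matrix (Fin 2) (Fin 2) F) 1 0) h
      change ((!![(0 : F), -1; 1, -1] : Matrix (Fin 2) (Fin 2) F) ^ 2) 1 0 = (1 : Matrix (Fin 2) (Fin 2) F) 1 0 at this
      simp [pow_two] at this
    · apply Subtype.ext
      show !![(0:F), -1; 1, -1] * !![1, 0; 1, 1] * !![0, -1; 1, -1] = !![1, 0; 1, 1]
      simp only [Matrix.mul_fin_two]
      ext i j
      fin_cases i <;> fin_cases j <;> simp <;> grind
  · obtain ⟨u, v, huv⟩ := FiniteField.exists_root_sum_quadratic (R := F) (f := X ^ 2)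
      (g := X ^ 2 + 1) (degree_X_pow 2) (by compute_degree!) (by
        haveI : Fact True := ⟨trivial⟩
        exact FiniteField.odd_card_of_char_ne_two (fun hc => h2 (by
          have := ringChar.Nat.cast_ringChar (R := F); rw [hc] at this; simpa using this)))
    simp only [eval_pow, eval_X, eval_add, eval_one] at huv
    refine ⟨4, ⟨!![0, -1; 1, 0], by simp [det_fin_two]⟩,
      ⟨!![u, v; v, -u], by simp [det_fin_two]; linear_combination -huv⟩, ?_, ?_, ?_, ?_⟩
    · intro h
      apply h2
      push_cast at h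
      have : (2 : F) * 2 = 0 := by linear_combination h
      rcases mul_eq_zero.mp this with h | h <;> exact h
    · apply Subtype.ext
      show (!![(0 : F), -1; 1, 0] : Matrix (Fin 2) (Fin 2) F) ^ 4 = 1
      simp [pow_succ, Matrix.one_fin_two]
    · intro h
      have := congrArg (fun A : SpecialLinearGroup (Fin 2) F =>
        (A : Matrix (Fin 2) (Fin 2) F) 0 0) h
      change ((!![(0 : F), -1; 1, 0] : Matrix (Fin 2) (Fin 2) F) ^ 2) 0 0 = (1 : Matrix (Fin 2) (Fin 2) F) 0 0 at this
      simp [pow_two] at this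
      exact h2 (by linear_combination -this)
    · apply Subtype.ext
      show !![(0:F), -1; 1, 0] * !![u, v; v, -u] * !![0, -1; 1, 0] = !![u, v; v, -u]
      simp [Matrix.mul_fin_two]

/-- The embedding of `n` copies of `SL₂` in `Sp_{2n}`. -/
def sl2Pow {F : Type*} [Field F] (n : ℕ) :
    (Fin n → SpecialLinearGroup (Fin 2) F) →* ↥(Matrix.symplecticGroup (Fin n) F) where
  toFun z := ⟨fromBlocks (diagonal fun k => (z k).1 0 0) (diagonal fun k => (z k).1 0 1)
      (diagonal fun k => (z k).1 1 0) (diagonal fun k => (z k).1 1 1), by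
    rw [SymplecticGroup.mem_iff, Matrix.J, fromBlocks_transpose, fromBlocks_multiply,
      fromBlocks_multiply]
    have hd : ∀ k, (z k).1 0 0 * (z k).1 1 1 - (z k).1 0 1 * (z k).1 1 0 = 1 := fun k => by
      rw [← det_fin_two]; exact (z k).2
    simp only [diagonal_transpose, Matrix.mul_zero, Matrix.mul_neg, Matrix.mul_one, add_zero,
      zero_add, Matrix.neg_mul, diagonal_mul_diagonal, diagonal_neg, diagonal_add]
    congr 1
    · rw [← diagonal_zero]; congr 1; funext k; ring
    · rw [← diagonal_one, diagonal_neg]; congr 1; funext k; linear_combination -hd k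
    · rw [← diagonal_one]; congr 1; funext k; linear_combination hd k
    · rw [← diagonal_zero]; congr 1; funext k; ring⟩
  map_one' := by
    apply Subtype.ext
    simp [fromBlocks_one]
  map_mul' z w := by
    apply Subtype.ext
    simp only [Submonoid.coe_mul, fromBlocks_multiply, diagonal_mul_diagonal, diagonal_add]
    simp [Matrix.mul_apply, Fin.sum_univ_two]

theorem sl2Pow_injective {F : Type*} [Field F] (n : ℕ) :
    Function.Injective (sl2Pow (F := F) n) := by
  intro z w h
  funext k
  apply Subtype.ext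
  obtain ⟨h1, h2, h3, h4⟩ := fromBlocks_inj.mp (congrArg Subtype.val h)
  ext i j
  fin_cases i <;> fin_cases j
  · exact congrFun (diagonal_injective h1) k
  · exact congrFun (diagonal_injective h2) k
  · exact congrFun (diagonal_injective h3) k
  · exact congrFun (diagonal_injective h4) k

theorem degree_ge {F : Type*} [Field F] [Fintype F] (n : ℕ) {d : ℕ}
    (ρ : ↥(Matrix.symplecticGroup (Fin n) F) →* GL (Fin d) F) (hρ : Function.Injective ρ) :
    2 * n ≤ d := by
  classical
  obtain ⟨e, x, y, he, hxe, hx2, hxy⟩ := exists_dihedral_pair (F := F)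
  let K := AlgebraicClosure F
  let φ : (Fin n → SpecialLinearGroup (Fin 2) F) →* Module.End K (Fin d → K) :=
    ((Matrix.toLinAlgEquiv' (R := K) (n := Fin d)).toMonoidHom.comp
      (algebraMap F K).mapMatrix.toMonoidHom).comp
      ((Units.coeHom (Matrix (Fin d) (Fin d) F)).comp (ρ.comp (sl2Pow n)))
  have hφ : Function.Injective φ := by
    intro z w h
    exact sl2Pow_injective n (hρ (Units.ext (Matrix.map_injective (algebraMap F K).injective
      (Matrix.toLinAlgEquiv'.injective h))))
  have he' : (e : K) ≠ 0 := by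
    rw [← map_natCast (algebraMap F K)]
    exact (_root_.map_ne_zero _).mpr he
  have hcm : ∀ (u v : SpecialLinearGroup (Fin 2) F) (k l : Fin n), k ≠ l →
      Commute (φ (Pi.mulSingle k u)) (φ (Pi.mulSingle l v)) := fun u v k l hkl =>
    (Pi.mulSingle_commute (f := fun _ => SpecialLinearGroup (Fin 2) F) hkl u v).map φ
  have h := pairs_bound he' n Finset.univ (by simp) (Fin d → K)
    (fun k => φ (Pi.mulSingle k x)) (fun k => φ (Pi.mulSingle k y))
    (fun k _ => ⟨by rw [← map_pow, ← Pi.mulSingle_pow, hxe, Pi.mulSingle_one, map_one],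
      fun h => hx2 (by
        rw [← map_pow, ← Pi.mulSingle_pow, ← map_one φ] at h
        exact Pi.mulSingle_injective k (hφ h |>.trans (Pi.mulSingle_one k).symm)),
      fun u v huv => by
        have hinv : φ (Pi.mulSingle k y)⁻¹ * φ (Pi.mulSingle k y) = 1 := by
          rw [← map_mul, inv_mul_cancel, map_one]
        have := congrArg (φ (Pi.mulSingle k y)⁻¹) huv
        rwa [← Module.End.mul_apply, ← Module.End.mul_apply, hinv] at this,
      by rw [← map_mul, ← map_mul, ← Pi.mulSingle_mul, ← Pi.mulSingle_mul, hxy]⟩)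
    (fun k _ l _ hkl => ⟨hcm _ _ k l hkl, hcm _ _ k l hkl⟩)
  rwa [Module.finrank_fin_fun] at h

end Cfsg.Agent.CrossChar56.SpNat
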