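import Cfsg.Agent.CrossChar56.Mult
import Cfsg.Agent.CrossChar56.Common
import Cfsg.Agent.Lib.Suzuki.Simple
import Mathlib.Algebra.Group.AddChar

/-!
Minimal degree of complex representations of the Suzuki groups.
-/

set_option autoImplicit false

noncomputable section

namespace Cfsg.Agent.CrossChar56.SzBound

open Matrix Cfsg.Agent.Suzuki

variable {F : Type*} [Field F] [Fintype F] {m : ℕ} (hF : Fintype.card F = 2 ^ (2 * m + 1))
include hF

theorem sz_degree (hm : 1 ≤ m) {d : ℕ} (τ : Cfsg.Sz F m →* GL (Fin d) ℂ) (hτ : ∃ g, τ g ≠ 1) :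
    2 ^ m * (2 ^ (2 * m + 1) - 1) ≤ d := by
  classical
  haveI := isSimpleGroup hF hm
  have hinj : Function.Injective τ := by
    rw [← MonoidHom.ker_eq_bot_iff]
    refine (MonoidHom.normal_ker τ).eq_bot_or_eq_top.resolve_right fun h => ?_
    obtain ⟨g, hg⟩ := hτ
    exact hg (by rw [← MonoidHom.mem_ker, h]; trivial)
  let R : F → Matrix (Fin d) (Fin d) ℂ := fun b => (τ (U hF 0 b) : Matrix (Fin d) (Fin d) ℂ)
  have hR : ∀ a b, R (a + b) = R a * R b := fun a b => by
    show (τ (U hF 0 (a + b)) : Matrix (Fin d) (Fin d) ℂ) = _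
    rw [show U hF (0 : F) (a + b) = U hF 0 a * U hF 0 b by rw [U_mul]; simp [sig_zero], map_mul,
      Units.val_mul]
  have hR0 : R 0 = 1 := by
    show (τ (U hF 0 0) : Matrix (Fin d) (Fin d) ℂ) = 1
    rw [U_zero, map_one, Units.val_one]
  have hR1 : R 1 ≠ 1 := by
    intro h
    have h1 : U hF (0 : F) 1 = U hF 0 0 := hinj (by rw [U_zero hF, map_one]; exact Units.ext h)
    exact one_ne_zero (U_inj hF h1).2
  obtain ⟨χ, hχ, hχ1⟩ := Cx.exists_proj_ne hR0 hR hR1
  have hsurj : Function.Surjective (sig m : F → F) :=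
    Finite.injective_iff_surjective.mp (sig_injective hF)
  -- orbit of the torus
  let κ : Fˣ → F := fun k => (k : F) * sig m (k : F)
  have hκ0 : ∀ k, κ k ≠ 0 := fun k => mul_ne_zero k.ne_zero (sig_ne_zero k.ne_zero)
  have hκinj : Function.Injective κ := by
    intro k l h
    apply Units.ext
    have hl := l.ne_zero
    refine div_eq_one_iff_eq hl |>.mp (eq_one_of_mul_sig hF (div_ne_zero k.ne_zero hl) ?_)
    simp only [κ] at h
    rw [div_eq_mul_inv, sig_mul, sig_inv]
    have := sig_ne_zero (m := m) hl
    field_simp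
    linear_combination h
  let Φ : Fˣ → AddChar F ℂ := fun k => χ.mulShift (κ k)
  have hΦinj : Function.Injective Φ := by
    intro k l h
    apply hκinj
    by_contra hne
    apply hχ1
    have h1 : ∀ x, χ ((κ k + κ l) * x) = 1 := fun x => by
      have := DFunLike.congr_fun h x
      simp only [Φ, AddChar.mulShift_apply] at this
      rw [add_mul, AddChar.map_add_eq_mul, this, ← AddChar.map_add_eq_mul, add_self hF,
        AddChar.map_zero_eq_one]
    have hs : κ k + κ l ≠ 0 := fun h0 => hne (eq_of_add_eq_zero hF h0)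
    have := h1 ((κ k + κ l)⁻¹ * 1)
    rwa [← mul_assoc, mul_inv_cancel₀ hs, one_mul] at this
  have hΦ0 : ∀ k, Cx.proj R (Φ k) ≠ 0 := by
    intro k
    refine Cx.transfer (τ (T hF k⁻¹)) (fun b => (κ k)⁻¹ * b) ?_ (fun b => ?_) (fun b => ?_) hχ
    · exact mulLeft_bijective₀ _ (inv_ne_zero (hκ0 k))
    · show (τ (T hF k⁻¹) : Matrix (Fin d) (Fin d) ℂ) * τ (U hF 0 b) = _
      rw [← Units.val_mul, ← map_mul, T_mul_U, map_mul, Units.val_mul]
      simp only [R, κ, mul_zero, Units.val_inv_eq_inv_val, sig_inv, mul_inv]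
    · simp only [Φ, AddChar.mulShift_apply]
      rw [← mul_assoc, mul_inv_cancel₀ (hκ0 k), one_mul]
  -- multiplicity
  have hmult : ∀ φ : AddChar F ℂ, Cx.proj R φ ≠ 0 → φ ≠ 1 → 2 ^ m ≤ Module.finrank ℂ (Cx.eig R φ) := by
    intro φ hφ hφ1
    let β : F → F → F := fun s t => sig m s * t + sig m t * s
    have hβl : ∀ s s' t, β (s + s') t = β s t + β s' t := fun s s' t => by
      simp only [β, sig_add hF]; ring
    have hβc : ∀ s t, β s t = β t s := fun s t => add_comm _ _
    let Rad : AddSubgroup F :=
      { carrier := {u | ∀ s, φ (β u s) = 1}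
        add_mem' := fun {a b} ha hb s => by
          rw [hβl, AddChar.map_add_eq_mul, ha s, hb s, one_mul]
        zero_mem' := fun s => by simp [β, sig_zero]
        neg_mem' := fun {a} ha s => by
          rw [show -a = a from neg_eq_of_add_eq_zero_left (add_self hF a)]; exact ha s }
    have hrad : ∀ u ∈ Rad, ∀ u' ∈ Rad, u ≠ 0 → u' ≠ 0 → u = u' := by
      intro u hu u' hu' h0 h0'
      let e : F := u * sig m u
      let c : F := u' * sig m u' / e
      have he : e ≠ 0 := mul_ne_zero h0 (sig_ne_zero h0)
      have key : ∀ v, v ≠ 0 → v ∈ Rad → ∀ x, φ (v * sig m v * sig m x) = φ (v * sig m v * x) := by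
        intro v hv0 hv x
        have h := hv (x * v)
        rw [show β v (x * v) = v * sig m v * sig m x + v * sig m v * x by
          simp only [β, sig_mul]; ring, AddChar.map_add_eq_mul] at h
        have h2 : φ (v * sig m v * x) * φ (v * sig m v * x) = 1 := by
          rw [← AddChar.map_add_eq_mul, add_self hF, AddChar.map_zero_eq_one]
        exact mul_right_cancel₀ (left_ne_zero_of_mul_eq_one h2) (h.trans h2.symm)
      have hce : ∀ x, e * (c * x) = u' * sig m u' * x := fun x => by
        simp only [c]; field_simp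
      have h1 : ∀ x, φ (e * ((sig m c + c) * sig m x)) = 1 := by
        intro x
        have a1 : φ (e * sig m (c * x)) = φ (e * (c * x)) := key u h0 hu _
        have a2 : φ (e * (c * sig m x)) = φ (e * (c * x)) := by
          rw [hce, hce]; exact key u' h0' hu' _
        rw [add_mul, mul_add, AddChar.map_add_eq_mul, ← sig_mul, a1, a2,
          ← AddChar.map_add_eq_mul, add_self hF, AddChar.map_zero_eq_one]
      have h2 : sig m c + c = 0 := by
        by_contra hne
        apply hφ1
        ext y
        obtain ⟨x, hx⟩ := hsurj (y / (e * (sig m c + c)))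
        have := h1 x
        rw [hx] at this
        rw [AddChar.one_apply, ← this]
        congr 1
        field_simp
      rcases eq_zero_or_one_of_sig_eq hF (eq_of_add_eq_zero hF h2) with h | h
      · exact absurd h (div_ne_zero (mul_ne_zero h0' (sig_ne_zero h0')) he)
      · exact congrArg Units.val (hκinj (a₁ := Units.mk0 u h0) (a₂ := Units.mk0 u' h0')
          (show u * sig m u = u' * sig m u' from ((div_eq_one_iff_eq he).mp h).symm))
    have hcardRad : Nat.card Rad ≤ 2 := by
      by_contra hc
      push Not at hc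
      haveI : Fintype Rad := Fintype.ofFinite _
      rw [Nat.card_eq_fintype_card] at hc
      obtain ⟨x, -, y, -, z, -, hxy, hxz, hyz⟩ := Finset.two_lt_card.mp
        (show 2 < (Finset.univ : Finset Rad).card by simpa using hc)
      have hne : ∀ {a b : Rad}, a ≠ 0 → b ≠ 0 → a = b := fun {a b} ha hb =>
        Subtype.ext (hrad a.1 a.2 b.1 b.2 (fun h => ha (Subtype.ext h)) (fun h => hb (Subtype.ext h)))
      by_cases hx : x = 0
      · exact hyz (hne (fun h => hxy (hx.trans h.symm)) (fun h => hxz (hx.trans h.symm)))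
      · by_cases hy : y = 0
        · exact hxz (hne hx (fun h => hyz (hy.trans h.symm)))
        · exact hxy (hne hx hy)
    haveI : Fintype (F ⧸ Rad) := Fintype.ofFinite _
    let X : (F ⧸ Rad) → GL (Fin d) ℂ := fun t => τ (U hF t.out 0)
    let a : (F ⧸ Rad) → (F ⧸ Rad) → ℂ := fun s t => φ (β s.out t.out)
    have hX : ∀ t, (X t : Matrix (Fin d) (Fin d) ℂ) * Cx.proj R φ = Cx.proj R φ * X t := by
      intro t
      have hXR : ∀ b, (X t : Matrix (Fin d) (Fin d) ℂ) * R b = R b * X t := by
        intro b
        simp only [X, R]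
        rw [← Units.val_mul, ← Units.val_mul, ← map_mul, ← map_mul, U_mul, U_mul]
        simp [sig_zero]
      simp only [Cx.proj, Finset.mul_sum, Finset.sum_mul, mul_smul_comm, smul_mul_assoc, hXR]
    have hconj : ∀ s t, (X s : Matrix (Fin d) (Fin d) ℂ) * X t * Cx.proj R φ =
        a s t • ((X t : Matrix (Fin d) (Fin d) ℂ) * X s * Cx.proj R φ) := by
      intro s t
      have hc : (X s : Matrix (Fin d) (Fin d) ℂ) * X t =
          (X t : Matrix (Fin d) (Fin d) ℂ) * X s * R (β s.out t.out) := by
        simp only [X, R]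
        rw [← Units.val_mul, ← Units.val_mul, ← Units.val_mul, ← map_mul, ← map_mul, ← map_mul,
          U_mul, U_mul, U_mul]
        congr 3 <;> simp only [β, sig_zero, mul_zero, add_zero, zero_add]
        · exact add_comm _ _
        · linear_combination -add_self hF (sig m t.out * s.out)
      rw [hc, Matrix.mul_assoc ((X t).val * (X s).val), Cx.R_mul_proj hR, mul_smul_comm]
    have hunit : ∀ x, φ x ≠ 0 := fun x h => by
      have := AddChar.map_add_eq_mul φ x (-x)
      rw [h, zero_mul, add_neg_cancel, AddChar.map_zero_eq_one] at this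
      exact one_ne_zero this
    have horth : ∀ t t₀, t ≠ t₀ → ∑ s, a s t * (a s t₀)⁻¹ = 0 := by
      intro t t₀ ht
      let u : F := t.out + t₀.out
      have hu : u ∉ Rad := by
        intro h
        apply ht
        rw [← Quotient.out_eq t, ← Quotient.out_eq t₀]
        apply (QuotientAddGroup.eq).mpr
        rwa [show -t.out = t.out from neg_eq_of_add_eq_zero_left (add_self hF _)]
      let g : AddChar F ℂ := φ.compAddMonoidHom (AddMonoidHom.mk' (fun s => β s u) (fun s s' => hβl s s' u))
      have hg : ∀ s, g s = φ (β s u) := fun s => rfl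
      have hgr : ∀ s r, r ∈ Rad → g (s + r) = g s := fun s r hr => by
        rw [AddChar.map_add_eq_mul, hg r, hr u, mul_one]
      have hout : ∀ s : F, g (QuotientAddGroup.mk s : F ⧸ Rad).out = g s := fun s => by
        obtain ⟨r, hr⟩ := QuotientAddGroup.mk_out_eq_mul Rad s
        rw [hr]; exact hgr _ _ r.2
      have hterm : ∀ s, a s t * (a s t₀)⁻¹ = g s.out := by
        intro s
        simp only [a]
        rw [hg, ← div_eq_mul_inv, ← AddChar.map_sub_eq_div]
        congr 1
        simp only [β, u, sig_add hF]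
        linear_combination -add_self hF (sig m s.out * t₀.out + sig m t₀.out * s.out)
      simp only [hterm]
      let G : AddChar (F ⧸ Rad) ℂ :=
        { toFun := fun s => g s.out
          map_zero_eq_one' := by rw [← QuotientAddGroup.mk_zero, hout, AddChar.map_zero_eq_one]
          map_add_eq_mul' := fun s s' => by
            conv_lhs => rw [← Quotient.out_eq s, ← Quotient.out_eq s']
            rw [← AddChar.map_add_eq_mul, ← hout (s.out + s'.out), QuotientAddGroup.mk_add]
             }
      have hG : G ≠ 1 := by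
        intro h
        apply hu
        intro s
        have := DFunLike.congr_fun h (QuotientAddGroup.mk s)
        show φ (β u s) = 1
        rw [hβc, ← hg, ← hout]
        exact this
      exact AddChar.sum_eq_zero_of_ne_one hG
    have h := Cx.sq_finrank_eig_ge hφ X hX a hconj horth (fun s t => hunit _)
    have hcardT : 2 ^ (2 * m) ≤ Fintype.card (F ⧸ Rad) := by
      have := AddSubgroup.card_eq_card_quotient_mul_card_addSubgroup Rad
      rw [Nat.card_eq_fintype_card, Nat.card_eq_fintype_card, hF, pow_succ] at this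
      nlinarith
    refine (Nat.pow_le_pow_iff_left (n := 2) (by norm_num)).mp ?_
    calc (2 ^ m) ^ 2 = 2 ^ (2 * m) := by rw [← pow_mul, mul_comm]
    _ ≤ _ := hcardT
    _ ≤ _ := h
  have h := Cx.card_mul_le_dim hR (Finset.univ.image Φ) (2 ^ m) (fun φ hφ => by
    obtain ⟨k, -, rfl⟩ := Finset.mem_image.mp hφ
    refine hmult _ (hΦ0 k) (fun h => hχ1 ?_)
    have := DFunLike.congr_fun h ((κ k)⁻¹ * 1)
    simp only [Φ, AddChar.mulShift_apply, AddChar.one_apply] at this
    rwa [← mul_assoc, mul_inv_cancel₀ (hκ0 k), one_mul] at this)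
  rw [Finset.card_image_of_injective _ hΦinj, Finset.card_univ, Fintype.card_units, hF] at h
  rw [mul_comm]
  exact h

end Cfsg.Agent.CrossChar56.SzBound
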