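import Cfsg.Agent.CrossChar56.SpBound
import Cfsg.Agent.CrossChar56.Idem

/-!
The odd part of the Weil representation of `Sp_{2n}(q)`, `q` odd.
-/

set_option autoImplicit false

noncomputable section

namespace Cfsg.Agent.CrossChar56.Weil

open Matrix

variable {F : Type*} [Field F] {n : ℕ}

/-- phase space -/
abbrev PS (F : Type*) (n : ℕ) := Fin n ⊕ Fin n → F

/-- symplectic pairing -/
def om (v w : PS F n) : F := v ⬝ᵥ (Matrix.J (Fin n) F *ᵥ w)

theorem om_eq (v w : PS F n) : om v w =
    (v ∘ Sum.inr) ⬝ᵥ (w ∘ Sum.inl) - (v ∘ Sum.inl) ⬝ᵥ (w ∘ Sum.inr) := by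
  simp only [om, dotProduct, Matrix.J, fromBlocks_mulVec, Fintype.sum_sum_type, Sum.elim_inl,
    Sum.elim_inr, zero_mulVec, zero_add, neg_mulVec, one_mulVec, Pi.neg_apply, add_zero,
    Function.comp_apply, mul_neg, Finset.sum_neg_distrib]
  ring

theorem om_invariant (g : symplecticGroup (Fin n) F) (v w : PS F n) :
    om (g.1 *ᵥ v) (g.1 *ᵥ w) = om v w := by
  have h := SymplecticGroup.mem_iff'.mp g.2
  simp only [om]
  rw [mulVec_mulVec, dotProduct_comm, dotProduct_mulVec, ← mulVec_transpose, mulVec_mulVec,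
    ← Matrix.mul_assoc, dotProduct_comm]
  rw [← transpose_transpose (g.1ᵀ * Matrix.J (Fin n) F * g.1), h] at *

variable [Fintype F] [DecidableEq F] (ψ : AddChar F ℂ)

/-- Heisenberg operator -/
def op (v : PS F n) : Matrix (Fin n → F) (Fin n → F) ℂ :=
  Matrix.of fun x y => if y = x + v ∘ Sum.inl then
    ψ ((v ∘ Sum.inr) ⬝ᵥ x + (2 : F)⁻¹ * ((v ∘ Sum.inl) ⬝ᵥ (v ∘ Sum.inr))) else 0

theorem op_mul (h2 : (2 : F) ≠ 0) (v w : PS F n) :
    op ψ v * op ψ w = ψ (-((2 : F)⁻¹ * om v w)) • op ψ (v + w) := by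
  ext x y
  have hc : (v + w) ∘ Sum.inl = v ∘ Sum.inl + w ∘ Sum.inl := rfl
  have hd : (v + w) ∘ Sum.inr = v ∘ Sum.inr + w ∘ Sum.inr := rfl
  rw [Matrix.mul_apply, Finset.sum_eq_single (x + v ∘ Sum.inl)
    (fun j _ hj => by simp [op, hj]) (by simp)]
  simp only [op, of_apply, if_true, Matrix.smul_apply, smul_eq_mul, mul_ite, mul_zero, hc, hd,
    add_assoc]
  split
  · rw [← AddChar.map_add_eq_mul, ← AddChar.map_add_eq_mul]
    congr 1
    rw [om_eq]
    simp only [add_dotProduct, dotProduct_add]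
    rw [dotProduct_comm (w ∘ Sum.inr) (v ∘ Sum.inl),
      dotProduct_comm (v ∘ Sum.inr) (w ∘ Sum.inl)]
    field_simp
    ring
  · rfl

theorem op_zero : op ψ (0 : PS F n) = 1 := by
  ext x y
  have h0 : (0 : PS F n) ∘ Sum.inl = 0 := rfl
  have h1 : (0 : PS F n) ∘ Sum.inr = 0 := rfl
  simp only [op, of_apply, h0, h1, Matrix.one_apply]
  simp [eq_comm]

theorem trace_op (hψ : ψ.IsPrimitive) (v : PS F n) :
    Matrix.trace (op ψ v) = if v = 0 then (Fintype.card (Fin n → F) : ℂ) else 0 := by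
  split
  · next h => rw [h, op_zero, trace_one]
  next h =>
    by_cases ha : v ∘ Sum.inl = 0
    · have hb : v ∘ Sum.inr ≠ 0 := by
        intro hb
        apply h
        funext i
        rcases i with i | i
        · exact congrFun ha i
        · exact congrFun hb i
      simp only [Matrix.trace, Matrix.diag_apply, op, of_apply, ha, add_zero, if_true,
        zero_dotProduct, mul_zero]
      simp_rw [dotProduct_comm (v ∘ Sum.inr)]
      exact sum_char_dot hψ _ hb
    · simp only [Matrix.trace, Matrix.diag_apply, op, of_apply]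
      refine Finset.sum_eq_zero fun x _ => if_neg ?_
      simpa using ha

/-- intertwiner for a symplectic transformation -/
def IsInter (g : symplecticGroup (Fin n) F) (P : Matrix (Fin n → F) (Fin n → F) ℂ) : Prop :=
  ∀ v, P * op ψ v = op ψ (g.1 *ᵥ v) * P

theorem exists_inter (hψ : ψ.IsPrimitive) (h2 : (2 : F) ≠ 0) (g : symplecticGroup (Fin n) F) :
    ∃ P, IsInter ψ g P ∧ P ≠ 0 := by
  classical
  let avg : Matrix (Fin n → F) (Fin n → F) ℂ → Matrix (Fin n → F) (Fin n → F) ℂ :=
    fun A => ∑ v : PS F n, op ψ (g.1 *ᵥ v) * A * op ψ (-v)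
  have hI : ∀ A, IsInter ψ g (avg A) := by
    intro A w
    simp only [avg, Finset.sum_mul, Finset.mul_sum]
    refine (Fintype.sum_equiv (Equiv.addRight w) _ _ fun u => ?_).symm
    simp only [Equiv.coe_addRight]
    rw [Matrix.mul_assoc (op ψ (g.1 *ᵥ (u + w)) * A), op_mul ψ h2, ← Matrix.mul_assoc (op ψ (g.1 *ᵥ w)),
      ← Matrix.mul_assoc (op ψ (g.1 *ᵥ w)), op_mul ψ h2, om_invariant]
    rw [show -(u + w) + w = -u by abel, mulVec_add, add_comm (g.1 *ᵥ w)]
    simp only [smul_mul_assoc, mul_smul_comm]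
    congr 2
    rw [om_eq, om_eq]
    have hc : ∀ a b : PS F n, (a + b) ∘ Sum.inl = a ∘ Sum.inl + b ∘ Sum.inl := fun _ _ => rfl
    have hd : ∀ a b : PS F n, (a + b) ∘ Sum.inr = a ∘ Sum.inr + b ∘ Sum.inr := fun _ _ => rfl
    have hn : ∀ a : PS F n, (-a) ∘ Sum.inl = -(a ∘ Sum.inl) := fun _ => rfl
    have hn' : ∀ a : PS F n, (-a) ∘ Sum.inr = -(a ∘ Sum.inr) := fun _ => rfl
    simp only [hc, hd, hn, hn', add_dotProduct, neg_dotProduct]
    rw [dotProduct_comm (w ∘ Sum.inr) (u ∘ Sum.inl), dotProduct_comm (w ∘ Sum.inl) (u ∘ Sum.inr),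
      dotProduct_comm (w ∘ Sum.inr) (w ∘ Sum.inl)]
    ring
  by_contra hcon
  push Not at hcon
  have hzero : ∑ v : PS F n, Matrix.trace (op ψ (g.1 *ᵥ v)) * Matrix.trace (op ψ (-v)) = 0 := by
    have hel : ∀ i j : Fin n → F,
        ∑ v : PS F n, (op ψ (g.1 *ᵥ v)) i i * (op ψ (-v)) j j = 0 := by
      intro i j
      have h := congrFun (congrFun (hcon _ (hI (Matrix.single i j 1))) i) j
      simp only [avg, Matrix.sum_apply, Matrix.zero_apply] at h
      rw [← h]
      refine Finset.sum_congr rfl fun v _ => ?_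
      simp [Matrix.mul_apply, Matrix.single_apply, ite_and]
    simp only [Matrix.trace, Matrix.diag_apply, Finset.sum_mul, Finset.mul_sum]
    rw [Finset.sum_comm]
    refine Finset.sum_eq_zero fun i _ => ?_
    rw [Finset.sum_comm]
    exact Finset.sum_eq_zero fun j _ => hel j i
  simp only [trace_op ψ hψ, neg_eq_zero] at hzero
  rw [Finset.sum_eq_single 0] at hzero
  · simp at hzero
  · intro v _ hv
    simp [hv]
  · simp

/-- diagonal Heisenberg operator -/
theorem op_right (b x y : Fin n → F) :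
    op ψ (Sum.elim 0 b) x y = if y = x then ψ (b ⬝ᵥ x) else 0 := by
  simp only [op, of_apply, Sum.elim_comp_inl, Sum.elim_comp_inr, add_zero, zero_dotProduct,
    mul_zero]

/-- translation Heisenberg operator -/
theorem op_left (a x y : Fin n → F) :
    op ψ (Sum.elim a 0) x y = if y = x + a then 1 else 0 := by
  simp only [op, of_apply, Sum.elim_comp_inl, Sum.elim_comp_inr, zero_dotProduct, dotProduct_zero,
    mul_zero, add_zero, AddChar.map_zero_eq_one]

theorem commutant (hψ : ψ.IsPrimitive) {M : Matrix (Fin n → F) (Fin n → F) ℂ}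
    (hM : ∀ v, M * op ψ v = op ψ v * M) : M = M 0 0 • 1 := by
  have hdiag : ∀ x y, x ≠ y → M x y = 0 := by
    intro x y hxy
    obtain ⟨i, hi⟩ := Function.ne_iff.mp hxy
    by_contra hM0
    apply hψ (sub_ne_zero.mpr hi)
    ext c
    have h := congrFun (congrFun (hM (Sum.elim 0 (Pi.single i c))) x) y
    simp only [Matrix.mul_apply, op_right, mul_ite, mul_zero, ite_mul, zero_mul, Finset.sum_ite_eq,
      Finset.sum_ite_eq', Finset.mem_univ, if_true, single_dotProduct] at h
    have h' : ψ (c * y i) = ψ (c * x i) := mul_left_cancel₀ hM0 (by linear_combination h)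
    rw [AddChar.mulShift_apply, AddChar.one_apply, sub_mul, AddChar.map_sub_eq_div, mul_comm (x i),
      mul_comm (y i), h', div_self]
    intro h0
    have := AddChar.map_add_eq_mul ψ (c * x i) (-(c * x i))
    rw [h0, zero_mul, add_neg_cancel, AddChar.map_zero_eq_one] at this
    exact one_ne_zero this
  ext x y
  simp only [Matrix.smul_apply, Matrix.one_apply, smul_eq_mul, mul_ite, mul_one, mul_zero]
  split
  · next h =>
    subst h
    have h := congrFun (congrFun (hM (Sum.elim x 0)) 0) x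
    simp only [Matrix.mul_apply, op_left, mul_ite, mul_one, mul_zero, ite_mul, one_mul, zero_mul,
      zero_add, Finset.sum_ite_eq', Finset.mem_univ, if_true] at h
    rw [← h, Finset.sum_eq_single 0]
    · simp
    · intro b _ hb
      rw [if_neg]
      intro hh
      exact hb (left_eq_add.mp (by rw [add_comm] at hh; exact hh)|> fun e => e)
    · simp
  · next h => exact hdiag x y h

theorem inter_isUnit (hψ : ψ.IsPrimitive) {g : symplecticGroup (Fin n) F}
    {P : Matrix (Fin n → F) (Fin n → F) ℂ} (hP : IsInter ψ g P) (h0 : P ≠ 0) : IsUnit P := by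
  rw [← Matrix.mulVec_injective_iff_isUnit]
  intro u u' huu'
  have hu : P *ᵥ (u - u') = 0 := by rw [mulVec_sub, huu', sub_self]
  by_contra hne
  set w := u - u'
  have hw : w ≠ 0 := sub_ne_zero.mpr hne
  obtain ⟨x₀, hx₀⟩ := Function.ne_iff.mp hw
  apply h0
  ext i y
  have hk : ∀ v, P *ᵥ (op ψ v *ᵥ w) = 0 := fun v => by
    rw [mulVec_mulVec, hP v, ← mulVec_mulVec, hu, mulVec_zero]
  have hcol : ∀ v b, P *ᵥ (op ψ v *ᵥ (op ψ b *ᵥ w)) = 0 := fun v b => by
    rw [mulVec_mulVec, hP v, ← mulVec_mulVec, hk, mulVec_zero]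
  have key : P *ᵥ (op ψ (Sum.elim (x₀ - y) 0) *ᵥ
      (∑ b : Fin n → F, ψ (-(b ⬝ᵥ x₀)) • (op ψ (Sum.elim 0 b) *ᵥ w))) = 0 := by
    rw [mulVec_sum, mulVec_sum]
    refine Finset.sum_eq_zero fun b _ => ?_
    rw [mulVec_smul, mulVec_smul, hcol, smul_zero]
  have hsum : (∑ b : Fin n → F, ψ (-(b ⬝ᵥ x₀)) • (op ψ (Sum.elim 0 b) *ᵥ w)) =
      Pi.single x₀ ((Fintype.card (Fin n → F) : ℂ) * w x₀) := by
    funext x
    simp only [Finset.sum_apply, Pi.smul_apply, smul_eq_mul]
    have hterm : ∀ b : Fin n → F, (op ψ (Sum.elim 0 b) *ᵥ w) x = ψ (b ⬝ᵥ x) * w x := fun b => by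
      simp [Matrix.mulVec, dotProduct, op_right]
    simp only [hterm, ← mul_assoc, ← Finset.sum_mul, ← AddChar.map_add_eq_mul]
    by_cases hx : x = x₀
    · subst hx; simp
    · rw [Pi.single_eq_of_ne hx]
      have : ∑ b : Fin n → F, ψ (b ⬝ᵥ (x - x₀)) = 0 := sum_char_dot hψ _ (sub_ne_zero.mpr hx)
      have h2 : ∑ b : Fin n → F, ψ (-(b ⬝ᵥ x₀) + b ⬝ᵥ x) = 0 := by
        rw [← this]
        exact Finset.sum_congr rfl fun b _ => by rw [dotProduct_sub]; congr 1; ring
      rw [h2, zero_mul]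
  rw [hsum] at key
  have hshift : op ψ (Sum.elim (x₀ - y) 0) *ᵥ
      Pi.single x₀ ((Fintype.card (Fin n → F) : ℂ) * w x₀) =
      Pi.single y ((Fintype.card (Fin n → F) : ℂ) * w x₀) := by
    funext x
    simp only [mulVec_single, Matrix.col_apply, Pi.smul_apply, op_left, Pi.single_apply]
    by_cases hx : x = y
    · subst hx; simp
    · rw [if_neg, if_neg hx]
      · simp
      · intro h
        exact hx (add_right_cancel (h.symm.trans (by abel : x₀ = y + (x₀ - y))))
  rw [hshift] at key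
  have := congrFun key i
  simp only [mulVec_single, Matrix.col_apply, Pi.smul_apply, Pi.zero_apply, MulOpposite.smul_eq_mul_unop,
    MulOpposite.unop_op] at this
  exact (mul_eq_zero.mp this).resolve_right
    (mul_ne_zero (Nat.cast_ne_zero.mpr Fintype.card_ne_zero) hx₀)

theorem inter_unique (hψ : ψ.IsPrimitive) {g : symplecticGroup (Fin n) F}
    {P Q : Matrix (Fin n → F) (Fin n → F) ℂ} (hP : IsInter ψ g P) (hP0 : P ≠ 0)
    (hQ : IsInter ψ g Q) : ∃ c : ℂ, Q = c • P := by
  obtain ⟨U, rfl⟩ := inter_isUnit ψ hψ hP hP0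
  set Ui : Matrix (Fin n → F) (Fin n → F) ℂ := ↑U⁻¹ with hUi
  have hcomm : ∀ v, (Ui * Q) * op ψ v = op ψ v * (Ui * Q) := by
    intro v
    calc (Ui * Q) * op ψ v = Ui * (op ψ (g.1 *ᵥ v) * Q) := by rw [Matrix.mul_assoc, hQ v]
      _ = Ui * (op ψ (g.1 *ᵥ v) * (↑U * (Ui * Q))) := by rw [hUi, Units.mul_inv_cancel_left]
      _ = Ui * ((↑U * op ψ v) * (Ui * Q)) := by rw [hP v]; simp only [Matrix.mul_assoc]
      _ = op ψ v * (Ui * Q) := by
        rw [Matrix.mul_assoc (↑U : Matrix (Fin n → F) (Fin n → F) ℂ), hUi, Units.inv_mul_cancel_left]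
  obtain h := commutant ψ hψ hcomm
  refine ⟨(Ui * Q) 0 0, ?_⟩
  calc Q = ↑U * (Ui * Q) := by rw [hUi, Units.mul_inv_cancel_left]
    _ = _ := by conv_lhs => rw [h, Matrix.mul_smul, Matrix.mul_one]

/-- parity -/
def par : Matrix (Fin n → F) (Fin n → F) ℂ := Matrix.of fun x y => if y = -x then 1 else 0

theorem par_mul (M : Matrix (Fin n → F) (Fin n → F) ℂ) (x y : Fin n → F) :
    ((par : Matrix (Fin n → F) (Fin n → F) ℂ) * M) x y = M (-x) y := by
  simp [par, Matrix.mul_apply]

theorem mul_par (M : Matrix (Fin n → F) (Fin n → F) ℂ) (x y : Fin n → F) :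
    (M * (par : Matrix (Fin n → F) (Fin n → F) ℂ)) x y = M x (-y) := by
  simp only [par, Matrix.mul_apply, of_apply, mul_ite, mul_one, mul_zero]
  rw [Finset.sum_eq_single (-y)]
  · simp
  · intro b _ hb
    rw [if_neg]
    intro h
    exact hb (by rw [h, neg_neg])
  · simp

theorem par_op (v : PS F n) : par * op ψ v = op ψ (-v) * par := by
  ext x y
  rw [par_mul, mul_par]
  have ha : (-v) ∘ Sum.inl = -(v ∘ Sum.inl) := rfl
  have hb : (-v) ∘ Sum.inr = -(v ∘ Sum.inr) := rfl
  simp only [op, of_apply, ha, hb, neg_dotProduct, dotProduct_neg, neg_neg]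
  have : (-y = x + -(v ∘ Sum.inl)) ↔ (y = -x + v ∘ Sum.inl) := by
    constructor <;> intro h
    · rw [← neg_neg y, h]; abel
    · rw [h]; abel
  simp [this]

theorem par_sq : (par * par : Matrix (Fin n → F) (Fin n → F) ℂ) = 1 := by
  ext x y
  rw [par_mul]
  simp [par, Matrix.one_apply, eq_comm]

theorem trace_par (h2 : (2 : F) ≠ 0) :
    Matrix.trace (par : Matrix (Fin n → F) (Fin n → F) ℂ) = 1 := by
  simp only [Matrix.trace, Matrix.diag_apply, par, of_apply]
  rw [Finset.sum_eq_single 0]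
  · simp
  · intro x _ hx
    rw [if_neg]
    intro h
    apply hx
    funext i
    have := congrFun h i
    rw [Pi.neg_apply] at this
    exact (mul_eq_zero.mp (by linear_combination this : (2 : F) * x i = 0)).resolve_left h2
  · simp

theorem inter_comm_par (hψ : ψ.IsPrimitive) (h2 : (2 : F) ≠ 0) {g : symplecticGroup (Fin n) F}
    {P : Matrix (Fin n → F) (Fin n → F) ℂ} (hP : IsInter ψ g P) (h0 : P ≠ 0) :
    P * par = par * P := by
  have hJ : IsUnit (par : Matrix (Fin n → F) (Fin n → F) ℂ) := ⟨⟨par, par, par_sq, par_sq⟩, rfl⟩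
  have hQ : IsInter ψ g (par * P * par) := by
    intro v
    rw [Matrix.mul_assoc (par * P), par_op, ← Matrix.mul_assoc, Matrix.mul_assoc par P, hP,
      ← Matrix.mul_assoc, par_op, mulVec_neg, neg_neg, Matrix.mul_assoc (op ψ _), Matrix.mul_assoc]
  obtain ⟨c, hc⟩ := inter_unique ψ hψ hP h0 hQ
  obtain ⟨U, hU⟩ := inter_isUnit ψ hψ hP h0
  have hPJ : P * par = c • (par * P) := by
    calc P * par = (par * par) * (P * par) := by rw [par_sq, Matrix.one_mul]
      _ = par * (par * P * par) := by simp only [Matrix.mul_assoc]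
      _ = _ := by rw [hc, Matrix.mul_smul]
  have htr : Matrix.trace (par : Matrix (Fin n → F) (Fin n → F) ℂ) =
      c * Matrix.trace (par : Matrix (Fin n → F) (Fin n → F) ℂ) := by
    calc Matrix.trace (par : Matrix (Fin n → F) (Fin n → F) ℂ)
        = Matrix.trace ((↑U⁻¹ : Matrix (Fin n → F) (Fin n → F) ℂ) * (P * par)) := by
          rw [← hU, Units.inv_mul_cancel_left]
      _ = c * Matrix.trace ((↑U⁻¹ : Matrix (Fin n → F) (Fin n → F) ℂ) * (par * P)) := by
          rw [hPJ, Matrix.mul_smul, Matrix.trace_smul, smul_eq_mul]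
      _ = _ := by
          congr 1
          rw [Matrix.trace_mul_comm, Matrix.mul_assoc, ← hU, Units.mul_inv, Matrix.mul_one]
  rw [trace_par h2, mul_one] at htr
  rw [hPJ, ← htr, one_smul]

/-! ### even and odd parts -/

/-- a set of representatives of the non-zero vectors modulo sign -/
def reps (F : Type*) [Field F] [Fintype F] [DecidableEq F] (n : ℕ) : Finset (Fin n → F) :=
  Finset.univ.filter (fun x => Fintype.equivFin (Fin n → F) x < Fintype.equivFin (Fin n → F) (-x))

@[simp]
theorem zero_notMem_reps : (0 : Fin n → F) ∉ reps F n := by simp [reps]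

theorem reps_trichotomy (h2 : (2 : F) ≠ 0) (x : Fin n → F) :
    (x = 0 ∧ x ∉ reps F n ∧ -x ∉ reps F n) ∨ (x ≠ 0 ∧ x ∈ reps F n ∧ -x ∉ reps F n) ∨
      (x ≠ 0 ∧ x ∉ reps F n ∧ -x ∈ reps F n) := by
  have hneg : x ≠ 0 → x ≠ -x := by
    intro hx h
    apply hx
    funext i
    have := congrFun h i
    rw [Pi.neg_apply] at this
    exact (mul_eq_zero.mp (by linear_combination this : (2 : F) * x i = 0)).resolve_left h2
  simp only [reps, Finset.mem_filter, Finset.mem_univ, true_and, neg_neg]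
  by_cases hx : x = 0
  · subst hx; simp
  · rcases lt_trichotomy (Fintype.equivFin (Fin n → F) x) (Fintype.equivFin (Fin n → F) (-x)) with
      h | h | h
    · exact Or.inr (Or.inl ⟨hx, h, h.le.not_gt⟩)
    · exact absurd ((Fintype.equivFin _).injective h) (hneg hx)
    · exact Or.inr (Or.inr ⟨hx, h.le.not_gt, h⟩)

theorem card_reps (h2 : (2 : F) ≠ 0) :
    (reps F n).card = (Fintype.card F ^ n - 1) / 2 := by
  have hdisj : Disjoint (reps F n) ((reps F n).image (fun x => -x)) := by
    rw [Finset.disjoint_left]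
    intro x hx hx'
    obtain ⟨y, hy, rfl⟩ := Finset.mem_image.mp hx'
    rcases reps_trichotomy h2 y with h | h | h <;> simp_all
  have hcover : reps F n ∪ (reps F n).image (fun x => -x) = Finset.univ.erase 0 := by
    ext x
    simp only [Finset.mem_union, Finset.mem_image, Finset.mem_erase, Finset.mem_univ, and_true]
    constructor
    · rintro (h | ⟨y, hy, rfl⟩)
      · rcases reps_trichotomy h2 x with h' | h' | h' <;> simp_all
      · rcases reps_trichotomy h2 y with h' | h' | h' <;> simp_all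
    · intro hx
      rcases reps_trichotomy h2 x with h | h | h
      · exact absurd h.1 hx
      · exact Or.inl h.2.1
      · exact Or.inr ⟨-x, h.2.2, neg_neg x⟩
  have h := congrArg Finset.card hcover
  rw [Finset.card_union_of_disjoint hdisj, Finset.card_image_of_injective _ neg_injective,
    Finset.card_erase_of_mem (Finset.mem_univ _), Finset.card_univ, Fintype.card_fun,
    Fintype.card_fin] at h
  omega

/-- index set of the even part -/
abbrev EI (F : Type*) [Field F] [Fintype F] [DecidableEq F] (n : ℕ) := Option (reps F n)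

/-- odd part -/
def odd (P : Matrix (Fin n → F) (Fin n → F) ℂ) : Matrix (reps F n) (reps F n) ℂ :=
  Matrix.of fun s t => P s.1 t.1 - P s.1 (-t.1)

/-- even part -/
def even (P : Matrix (Fin n → F) (Fin n → F) ℂ) : Matrix (EI F n) (EI F n) ℂ :=
  Matrix.of fun s t =>
    match t with
    | none => P (s.elim 0 Subtype.val) 0
    | some t => P (s.elim 0 Subtype.val) t.1 + P (s.elim 0 Subtype.val) (-t.1)

theorem sum_split (h2 : (2 : F) ≠ 0) (f : (Fin n → F) → ℂ) :
    ∑ x, f x = f 0 + ∑ s : reps F n, (f s.1 + f (-s.1)) := by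
  rw [← Finset.add_sum_erase Finset.univ f (Finset.mem_univ 0)]
  congr 1
  rw [Finset.sum_coe_sort (reps F n) (fun s => f s + f (-s)), Finset.sum_add_distrib,
    ← Finset.sum_image (g := fun x => -x) (fun a _ b _ h => neg_injective h), ← Finset.sum_union]
  · refine Finset.sum_congr ?_ (fun _ _ => rfl)
    ext x
    simp only [Finset.mem_union, Finset.mem_image, Finset.mem_erase, Finset.mem_univ, and_true]
    constructor
    · intro hx
      rcases reps_trichotomy h2 x with h | h | h
      · exact absurd h.1 hx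
      · exact Or.inl h.2.1
      · exact Or.inr ⟨-x, h.2.2, neg_neg x⟩
    · rintro (h | ⟨y, hy, rfl⟩)
      · rcases reps_trichotomy h2 x with h' | h' | h' <;> simp_all
      · rcases reps_trichotomy h2 y with h' | h' | h' <;> simp_all
  · rw [Finset.disjoint_left]
    intro x hx hx'
    obtain ⟨y, hy, rfl⟩ := Finset.mem_image.mp hx'
    rcases reps_trichotomy h2 y with h | h | h <;> simp_all

theorem neg_apply_of_comm {Q : Matrix (Fin n → F) (Fin n → F) ℂ} (hQ : Q * par = par * Q)
    (x y : Fin n → F) : Q (-x) y = Q x (-y) := by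
  rw [← par_mul Q x y, ← hQ, mul_par]

theorem odd_mul (h2 : (2 : F) ≠ 0) (P Q : Matrix (Fin n → F) (Fin n → F) ℂ)
    (hQ : Q * par = par * Q) : odd (P * Q) = odd P * odd Q := by
  ext s t
  simp only [odd, Matrix.mul_apply, of_apply]
  rw [← Finset.sum_sub_distrib, sum_split h2]
  have h0 : Q 0 (-t.1) = Q 0 t.1 := by
    have := neg_apply_of_comm hQ 0 t.1
    rw [neg_zero] at this; exact this.symm
  rw [h0, sub_self, zero_add]
  refine Finset.sum_congr rfl fun u _ => ?_
  rw [neg_apply_of_comm hQ u.1 t.1, neg_apply_of_comm hQ u.1 (-t.1), neg_neg]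
  ring

theorem even_mul (h2 : (2 : F) ≠ 0) (P Q : Matrix (Fin n → F) (Fin n → F) ℂ)
    (hQ : Q * par = par * Q) : even (P * Q) = even P * even Q := by
  ext s t
  rw [Matrix.mul_apply, Fintype.sum_option]
  rcases t with _ | t
  · simp only [even, of_apply, Option.elim_none, Option.elim_some, Matrix.mul_apply]
    rw [sum_split h2]
    refine congrArg₂ (· + ·) rfl (Finset.sum_congr rfl fun u _ => ?_)
    rw [neg_apply_of_comm hQ u.1 0, neg_zero]
    ring
  · simp only [even, of_apply, Option.elim_none, Option.elim_some, Matrix.mul_apply]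
    rw [← Finset.sum_add_distrib, sum_split h2]
    have h0 : Q 0 (-t.1) = Q 0 t.1 := by
      have := neg_apply_of_comm hQ 0 t.1
      rw [neg_zero] at this; exact this.symm
    refine congrArg₂ (· + ·) ?_ (Finset.sum_congr rfl fun u _ => ?_)
    · rw [h0]; ring
    · rw [neg_apply_of_comm hQ u.1 t.1, neg_apply_of_comm hQ u.1 (-t.1), neg_neg]
      ring

theorem odd_one (h2 : (2 : F) ≠ 0) : odd (1 : Matrix (Fin n → F) (Fin n → F) ℂ) = 1 := by
  ext s t
  have hne : s.1 ≠ -t.1 := by
    intro h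
    rcases reps_trichotomy h2 t.1 with h' | h' | h'
    · exact h'.2.1 t.2
    · exact h'.2.2 (h ▸ s.2)
    · exact h'.2.1 t.2
  by_cases hst : s = t
  · subst hst; simp [odd, Matrix.one_apply, hne]
  · simp [odd, Matrix.one_apply, hne, hst, Subtype.coe_inj]

theorem even_one (h2 : (2 : F) ≠ 0) : even (1 : Matrix (Fin n → F) (Fin n → F) ℂ) = 1 := by
  have hne0 : ∀ t : reps F n, t.1 ≠ 0 := by
    intro t h
    rcases reps_trichotomy h2 t.1 with h' | h' | h'
    · exact h'.2.1 t.2
    · exact h'.1 h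
    · exact h'.1 h
  ext s t
  rcases s with _ | s <;> rcases t with _ | t
  · simp [even, Matrix.one_apply]
  · simp [even, Matrix.one_apply, eq_comm, hne0 t]
  · simp [even, Matrix.one_apply, hne0 s]
  · have hne : s.1 ≠ -t.1 := by
      intro h
      rcases reps_trichotomy h2 t.1 with h' | h' | h'
      · exact h'.2.1 t.2
      · exact h'.2.2 (h ▸ s.2)
      · exact h'.2.1 t.2
    by_cases hst : s = t
    · subst hst; simp [even, Matrix.one_apply, hne]
    · simp [even, Matrix.one_apply, hne, hst, Subtype.coe_inj]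

omit [Fintype F] [DecidableEq F] in
theorem odd_smul [Fintype F] [DecidableEq F] (c : ℂ) (P : Matrix (Fin n → F) (Fin n → F) ℂ) :
    odd (c • P) = c • odd P := by
  ext s t; simp [odd, mul_sub]

theorem even_smul (c : ℂ) (P : Matrix (Fin n → F) (Fin n → F) ℂ) :
    even (c • P) = c • even P := by
  ext s t
  rcases t with _ | t <;> simp [even, mul_add]

/-- normalised odd part -/
def weilVal (P : Matrix (Fin n → F) (Fin n → F) ℂ) : Matrix (reps F n) (reps F n) ℂ :=
  ((odd P).det / (even P).det) • odd P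

theorem weilVal_smul {c : ℂ} (hc : c ≠ 0) (P : Matrix (Fin n → F) (Fin n → F) ℂ) :
    weilVal (c • P) = weilVal P := by
  simp only [weilVal, odd_smul, even_smul, det_smul, Fintype.card_option, pow_succ, smul_smul]
  congr 1
  have : c ^ Fintype.card (reps F n) ≠ 0 := pow_ne_zero _ hc
  field_simp

theorem exists_rep (h2 : (2 : F) ≠ 0) (hψ : ψ.IsPrimitive) :
    ∃ ρ : symplecticGroup (Fin n) F →* Matrix (reps F n) (reps F n) ℂ,
      ∀ g P, IsInter ψ g P → P ≠ 0 → ρ g = weilVal P := by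
  choose P hP hP0 using fun g : symplecticGroup (Fin n) F => exists_inter ψ hψ h2 g
  have uniq : ∀ g Q, IsInter ψ g Q → Q ≠ 0 → weilVal (P g) = weilVal Q := by
    intro g Q hQ hQ0
    obtain ⟨c, hc⟩ := inter_unique ψ hψ (hP g) (hP0 g) hQ
    have hc0 : c ≠ 0 := by rintro rfl; simp at hc; exact hQ0 hc
    rw [hc, weilVal_smul hc0]
  refine ⟨{ toFun := fun g => weilVal (P g), map_one' := ?_, map_mul' := ?_ },
    fun g Q hQ hQ0 => uniq g Q hQ hQ0⟩
  · have h1 : IsInter ψ (1 : symplecticGroup (Fin n) F)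
        (1 : Matrix (Fin n → F) (Fin n → F) ℂ) := fun v => by simp
    rw [uniq 1 1 h1 one_ne_zero]
    simp [weilVal, odd_one h2, even_one h2]
  · intro g h
    have hgh : IsInter ψ (g * h) (P g * P h) := by
      intro v
      rw [Matrix.mul_assoc, hP h v, ← Matrix.mul_assoc, hP g, Matrix.mul_assoc, Submonoid.coe_mul,
        ← mulVec_mulVec]
    have hne : P g * P h ≠ 0 :=
      ((inter_isUnit ψ hψ (hP g) (hP0 g)).mul (inter_isUnit ψ hψ (hP h) (hP0 h))).ne_zero
    rw [uniq (g * h) _ hgh hne]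
    simp only [weilVal, odd_mul h2 _ _ (inter_comm_par ψ hψ h2 (hP h) (hP0 h)),
      even_mul h2 _ _ (inter_comm_par ψ hψ h2 (hP h) (hP0 h)), det_mul, smul_mul_smul_comm]
    rw [div_mul_div_comm]

end Cfsg.Agent.CrossChar56.Weil
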