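import Cfsg.Agent.CrossChar56.Weil

set_option autoImplicit false

noncomputable section

namespace Cfsg.Agent.CrossChar56.Weil

open Matrix

/-- restriction of a representation to an invariant subspace, in coordinates -/
def restrictFin {G : Type*} [Group G] {b k : ℕ} (ρ : Representation ℂ G (Fin b → ℂ))
    (W : Submodule ℂ (Fin b → ℂ)) (hW : ∀ g, ∀ w ∈ W, ρ g w ∈ W)
    (e : W ≃ₗ[ℂ] (Fin k → ℂ)) : Representation ℂ G (Fin k → ℂ) where
  toFun g := e.toLinearMap ∘ₗ (ρ g).restrict (hW g) ∘ₗ e.symm.toLinearMap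
  map_one' := by
    apply LinearMap.ext; intro v
    have : (ρ 1).restrict (hW 1) (e.symm v) = e.symm v := Subtype.ext (by simp)
    show e ((ρ 1).restrict (hW 1) (e.symm v)) = v
    rw [this, e.apply_symm_apply]
  map_mul' g h := by
    apply LinearMap.ext; intro v
    have : (ρ (g * h)).restrict (hW _) (e.symm v) =
        (ρ g).restrict (hW g) ((ρ h).restrict (hW h) (e.symm v)) := Subtype.ext (by simp)
    show e ((ρ (g * h)).restrict (hW _) (e.symm v)) =
      e ((ρ g).restrict (hW g) (e.symm (e ((ρ h).restrict (hW h) (e.symm v)))))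
    rw [this, e.symm_apply_apply]

theorem irreducible_of_bound {G : Type*} [Group G] {b : ℕ} (hb : 1 ≤ b)
    (hperf : commutator G = ⊤) (ρ : Representation ℂ G (Fin b → ℂ))
    (hfix : ∀ w, (∀ g, ρ g w = w) → w = 0)
    (hbound : ∀ (k : ℕ) (σ : Representation ℂ G (Fin k → ℂ)), σ.IsIrreducible → 2 ≤ k → b ≤ k) :
    ρ.IsIrreducible := by
  classical
  have hP : ∃ k, ∃ W : Submodule ℂ (Fin b → ℂ), W ≠ ⊥ ∧ (∀ g, ∀ w ∈ W, ρ g w ∈ W) ∧
      Module.finrank ℂ W = k := by
    refine ⟨b, ⊤, ?_, fun _ _ _ => Submodule.mem_top, by rw [finrank_top, Module.finrank_fin_fun]⟩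
    intro h
    have := congrArg (fun W : Submodule ℂ (Fin b → ℂ) => Module.finrank ℂ W) h
    simp [Module.finrank_fin_fun] at this
    omega
  obtain ⟨W, hW0, hWinv, hWk⟩ := Nat.find_spec hP
  have hmin : ∀ U : Submodule ℂ (Fin b → ℂ), U ≠ ⊥ → (∀ g, ∀ w ∈ U, ρ g w ∈ U) → U ≤ W → U = W := by
    intro U hU0 hUinv hUW
    refine Submodule.eq_of_le_of_finrank_le hUW ?_
    rw [hWk]
    exact Nat.find_min' hP ⟨U, hU0, hUinv, rfl⟩
  by_cases htop : W = ⊤
  · subst htop
    haveI : Nontrivial (Subrepresentation ρ) :=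
      ⟨⟨⊥, fun g v hv => by simp [(Submodule.mem_bot ℂ).mp hv]⟩,
        ⟨⊤, fun _ _ _ => Submodule.mem_top⟩, fun h => hW0 (congrArg Subrepresentation.toSubmodule h).symm⟩
    refine ⟨fun S => ?_⟩
    by_cases hS : S.toSubmodule = ⊥
    · exact Or.inl (Subrepresentation.toSubmodule_injective hS)
    · exact Or.inr (Subrepresentation.toSubmodule_injective
        (hmin _ hS (fun g w hw => S.apply_mem_toSubmodule g hw) le_top))
  · exfalso
    set k := Module.finrank ℂ W
    have hk0 : k ≠ 0 := fun h => hW0 (Submodule.finrank_eq_zero.mp h)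
    have hkb : k < b := by
      have := Submodule.finrank_lt htop
      rwa [Module.finrank_fin_fun] at this
    let e : W ≃ₗ[ℂ] (Fin k → ℂ) := (Module.finBasis ℂ W).equivFun
    let σ := restrictFin ρ W hWinv e
    haveI : Nontrivial (Subrepresentation σ) := by
      refine ⟨⟨⊥, fun g v hv => by simp [(Submodule.mem_bot ℂ).mp hv]⟩,
        ⟨⊤, fun _ _ _ => Submodule.mem_top⟩, fun h => hk0 ?_⟩
      have h' := congrArg (fun S : Subrepresentation σ => Module.finrank ℂ S.toSubmodule) h
      simp [Module.finrank_fin_fun] at h'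
      exact h'.symm
    have hσ : σ.IsIrreducible := by
      refine ⟨fun S => ?_⟩
      let U : Submodule ℂ (Fin b → ℂ) := (S.toSubmodule.comap e.toLinearMap).map W.subtype
      have hUW : U ≤ W := Submodule.map_subtype_le _ _
      have hUinv : ∀ g, ∀ w ∈ U, ρ g w ∈ U := by
        intro g w hw
        obtain ⟨u, hu, rfl⟩ := Submodule.mem_map.mp hw
        refine Submodule.mem_map.mpr ⟨(ρ g).restrict (hWinv g) u, ?_, rfl⟩
        have := S.apply_mem_toSubmodule g (Submodule.mem_comap.mp hu)
        simpa [σ, restrictFin] using this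
      by_cases hU : U = ⊥
      · left
        apply Subrepresentation.toSubmodule_injective
        show S.toSubmodule = ⊥
        rw [Submodule.eq_bot_iff]
        intro v hv
        have : (e.symm v : Fin b → ℂ) ∈ U :=
          Submodule.mem_map.mpr ⟨e.symm v, by simpa using hv, rfl⟩
        rw [hU, Submodule.mem_bot] at this
        have h2 : e.symm v = 0 := Subtype.ext this
        simpa using h2
      · right
        apply Subrepresentation.toSubmodule_injective
        show S.toSubmodule = ⊤
        rw [Submodule.eq_top_iff']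
        intro v
        have : (e.symm v : Fin b → ℂ) ∈ U := by rw [hmin U hU hUinv hUW]; exact (e.symm v).2
        obtain ⟨u, hu, huv⟩ := Submodule.mem_map.mp this
        have h2 : u = e.symm v := Subtype.ext huv
        simpa [h2] using Submodule.mem_comap.mp hu
    by_cases hk2 : 2 ≤ k
    · exact absurd (hbound k σ hσ hk2) (by omega)
    · have hk1 : k = 1 := by omega
      have hcomm : ∀ g h, σ g * σ h = σ h * σ g := by
        intro g h
        haveI : Unique (Fin k) := ⟨⟨⟨0, by omega⟩⟩, fun i => Fin.ext (by have := i.2; omega)⟩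
        apply LinearMap.toMatrix'.injective
        rw [LinearMap.toMatrix'_mul, LinearMap.toMatrix'_mul]
        ext i j
        obtain rfl := Subsingleton.elim i default
        obtain rfl := Subsingleton.elim j default
        simp [Matrix.mul_apply, mul_comm]
      have htriv : ∀ g, σ g = 1 := by
        intro g
        have hle : commutator G ≤ σ.toHomUnits.ker := by
          rw [commutator_def, Subgroup.commutator_le]
          intro a _ c _
          rw [MonoidHom.mem_ker, map_commutatorElement, commutatorElement_eq_one_iff_commute]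
          exact Units.ext (hcomm a c)
        rw [hperf] at hle
        exact congrArg Units.val (MonoidHom.mem_ker.mp (hle (Subgroup.mem_top g)))
      obtain ⟨w, hw, hw0⟩ := Submodule.exists_mem_ne_zero_of_ne_bot hW0
      apply hw0
      refine hfix w (fun g => ?_)
      have h := DFunLike.congr_fun (htriv g) (e ⟨w, hw⟩)
      simp [σ, restrictFin] at h
      exact congrArg Subtype.val h

variable {F : Type*} [Field F] [Fintype F] {n : ℕ}

theorem exists_weil (hn : 2 ≤ n) (hodd : Odd (Fintype.card F)) :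
    ∃ ρ : Representation ℂ (symplecticGroup (Fin n) F)
      (Fin ((Fintype.card F ^ n - 1) / 2) → ℂ), ρ.IsIrreducible := by
  classical
  have hchar : ringChar F ≠ 2 := by
    intro h
    have := FiniteField.even_card_iff_char_two.mp h
    rw [Nat.odd_iff] at hodd
    omega
  have h2 : (2 : F) ≠ 0 := Ring.two_ne_zero hchar
  obtain ⟨ψ₁, hψ₁⟩ := AddChar.exists_apply_ne_zero.mpr (one_ne_zero : (1 : F) ≠ 0)
  have hψ : ψ₁.IsPrimitive := AddChar.IsPrimitive.of_ne_one (AddChar.ne_one_iff.mpr ⟨1, hψ₁⟩)
  obtain ⟨R, hR⟩ := exists_rep (n := n) ψ₁ h2 hψ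
  set b := (Fintype.card F ^ n - 1) / 2 with hb
  let e : reps F n ≃ Fin b := Fintype.equivFinOfCardEq (by rw [Fintype.card_coe, card_reps h2])
  let T : Matrix (reps F n) (reps F n) ℂ →* Module.End ℂ (Fin b → ℂ) :=
    ((Matrix.reindexAlgEquiv ℂ ℂ e).trans Matrix.toLinAlgEquiv').toMonoidHom
  refine ⟨T.comp R, ?_⟩
  have hperf : commutator (symplecticGroup (Fin n) F) = ⊤ :=
    Cfsg.Agent.Symplectic.commutator_eq_top (by
      have := Fintype.one_lt_card (α := F)
      rw [Nat.odd_iff] at hodd
      rcases Nat.lt_or_ge n 3 with h | h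
      · exact Or.inr (Or.inl ⟨by omega, by omega⟩)
      · exact Or.inl h)
  have hb1 : 1 ≤ b := by
    have h3 : 3 ≤ Fintype.card F := by
      have := Fintype.one_lt_card (α := F)
      rw [Nat.odd_iff] at hodd
      omega
    have : 3 ^ 1 ≤ Fintype.card F ^ n :=
      le_trans (Nat.pow_le_pow_left h3 1) (Nat.pow_le_pow_right (by omega) (by omega))
    omega
  refine irreducible_of_bound hb1 hperf _ ?_
    (fun k σ hσ hk => SpBound.odd_bound hn hodd σ hσ hk)
  intro w hw
  by_contra hw0
  obtain ⟨i, hi⟩ := Function.ne_iff.mp hw0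
  set s : Fin n → F := (e.symm i).1
  have hs : s ≠ 0 := fun h => zero_notMem_reps (F := F) (n := n) (h ▸ (e.symm i).2)
  obtain ⟨j, hj⟩ := Function.ne_iff.mp hs
  let u : Fin n → F := Pi.single j (s j)⁻¹
  have hus : u ⬝ᵥ s = 1 := by simp [u, single_dotProduct, inv_mul_cancel₀ hj]
  apply hψ (show -((2 : F)⁻¹) ≠ 0 from neg_ne_zero.mpr (inv_ne_zero h2))
  ext c
  let S := SpBound.rk1 c u
  let g : symplecticGroup (Fin n) F :=
    ⟨(SpBound.sieg S).1ᵀ, SymplecticGroup.transpose_mem (SpBound.sieg S).2⟩
  let φ : (Fin n → F) → F := fun x => -((2 : F)⁻¹ * (c * ((u ⬝ᵥ x) * (u ⬝ᵥ x))))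
  let P : Matrix (Fin n → F) (Fin n → F) ℂ := Matrix.diagonal (fun x => ψ₁ (φ x))
  have hg : ∀ v : PS F n, g.1 *ᵥ v =
      Sum.elim (v ∘ Sum.inl) (v ∘ Sum.inr + (c * (u ⬝ᵥ (v ∘ Sum.inl))) • u) := by
    intro v
    show (SpBound.sieg S).1ᵀ *ᵥ v = _
    simp only [SpBound.sieg, fromBlocks_transpose, fromBlocks_mulVec, transpose_one,
      transpose_zero, one_mulVec, zero_mulVec, add_zero, S, SpBound.rk1, transpose_smul,
      transpose_vecMulVec, smul_mulVec, vecMulVec_mulVec]
    funext x
    rcases x with x | x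
    · simp
    · simp
      ring
  have hP : IsInter ψ₁ g P := by
    intro v
    ext x y
    simp only [P, hg, Matrix.diagonal_mul, Matrix.mul_diagonal, op, of_apply, Sum.elim_comp_inl,
      Sum.elim_comp_inr]
    split
    · next hy =>
      subst hy
      rw [← AddChar.map_add_eq_mul, ← AddChar.map_add_eq_mul]
      congr 1
      simp only [φ, add_dotProduct, dotProduct_add, smul_dotProduct, dotProduct_smul, smul_eq_mul]
      rw [dotProduct_comm (v ∘ Sum.inl) u]
      field_simp
      ring
    · simp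
  have hP0 : P ≠ 0 := by
    intro h
    have h0 := congrFun (congrFun h 0) 0
    simp [P, φ] at h0
  have hodd' : odd P = Matrix.diagonal (fun t : reps F n => ψ₁ (φ t.1)) := by
    ext a t
    have hne : a.1 ≠ -t.1 := by
      intro h
      rcases reps_trichotomy h2 t.1 with h' | h' | h'
      · exact h'.2.1 t.2
      · exact h'.2.2 (h ▸ a.2)
      · exact h'.2.1 t.2
    by_cases hat : a = t
    · subst hat; simp [odd, P, hne]
    · simp [odd, P, hne, hat, Subtype.coe_inj]
  have hne0 : ∀ t : reps F n, t.1 ≠ 0 := fun t h =>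
    zero_notMem_reps (F := F) (n := n) (h ▸ t.2)
  have heven' : even P = Matrix.diagonal (fun t : EI F n => ψ₁ (φ (t.elim 0 Subtype.val))) := by
    ext a t
    rcases a with _ | a <;> rcases t with _ | t
    · simp [even, P]
    · simp [even, P, Matrix.diagonal, hne0 t, eq_comm]
    · simp [even, P, Matrix.diagonal, hne0 a]
    · have hne : a.1 ≠ -t.1 := by
        intro h
        rcases reps_trichotomy h2 t.1 with h' | h' | h'
        · exact h'.2.1 t.2
        · exact h'.2.2 (h ▸ a.2)
        · exact h'.2.1 t.2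
      by_cases hat : a = t
      · subst hat; simp [even, P, hne]
      · simp [even, P, hne, hat, Subtype.coe_inj]
  have hφ0 : φ 0 = 0 := by simp [φ]
  have hval : R g = Matrix.diagonal (fun t : reps F n => ψ₁ (φ t.1)) := by
    rw [hR g P hP hP0, weilVal, hodd', heven', det_diagonal, det_diagonal, Fintype.prod_option]
    simp only [Option.elim_none, Option.elim_some, hφ0, AddChar.map_zero_eq_one, one_mul]
    rw [div_self, one_smul]
    refine Finset.prod_ne_zero_iff.mpr (fun t _ h => ?_)
    have := AddChar.map_add_eq_mul ψ₁ (φ t.1) (-φ t.1)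
    rw [h, zero_mul, add_neg_cancel, AddChar.map_zero_eq_one] at this
    exact one_ne_zero this
  have h := congrFun (hw g) i
  simp only [MonoidHom.comp_apply, hval, T] at h
  simp [Matrix.mulVec, Matrix.submatrix, dotProduct, Matrix.diagonal, e.symm.injective.eq_iff,
    φ, s] at h hus ⊢
  rw [hus] at h
  have h' : ψ₁ (-((2 : F)⁻¹ * (c * 1))) * w i = 1 * w i := by simpa using h
  simpa [AddChar.mulShift_apply] using mul_right_cancel₀ hi h'

end Cfsg.Agent.CrossChar56.Weil
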